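import Cfsg.Agent.H6.DefOne3

/-!
# Characters of defect zero, and Brauer's criterion for a self-centralizing Sylow subgroup
-/

set_option autoImplicit false

namespace Cfsg.Agent.H6

open Finset Subgroup Cfsg.Agent.L0
open scoped ComplexConjugate

variable {p : ℕ} {G : Type*} [Group G] [Finite G]

theorem isBlkUnion_singleton [Fintype G] (hp : p.Prime) {Γ : Type*}
    [LinearOrderedCommGroupWithZero Γ] {v : Valuation ℂ Γ} (hv : v p < 1) {χ : IrrCharacter G}
    (h : ¬ p ∣ Nat.card G / deg χ) : IsBlkUnion v {χ} := by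
  refine isBlkUnion_of_zInt ⟨isClassFunction_blkIdem _, fun g => ?_⟩
  obtain ⟨m, hm⟩ := deg_dvd χ
  have h0 : (deg χ : ℂ) ≠ 0 := by exact_mod_cast (deg_pos χ).ne'
  rw [hm, Nat.mul_div_cancel_left _ (deg_pos χ)] at h
  rw [blkIdem_apply, sum_singleton, hm, deg_eq, Nat.cast_mul, mul_inv, mul_comm (deg χ : ℂ)⁻¹,
    mul_assoc, inv_mul_cancel_left₀ h0]
  exact val_mul_le _ (val_inv_le _ (val_natCast_eq_one hp hv h))
    (val_le_of_isIntegral _ (IsCharacter.isIntegral (irr_isChar χ) _))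

/-- A character of defect zero vanishes on the `p`-singular elements. -/
theorem eq_zero_of_defect_zero (hp : p.Prime) {χ : IrrCharacter G}
    (h : ¬ p ∣ Nat.card G / deg χ) {g : G} (hg : p ∣ orderOf g) : χ.1 g = 0 := by
  have := Fintype.ofFinite G
  obtain ⟨O, hO⟩ := exists_valuationSubring hp
  obtain ⟨x, hx⟩ := exists_isPPart hp g
  have h1 := IsBlkUnion.sum_mul_conj_eq_zero hp hO (isBlkUnion_singleton hp hO h) hx
    (h := 1) (y := 1) (isPPart_one_iff.mpr (by rw [orderOf_one]; simpa using hp.one_lt.ne'))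
    fun h => IsPPart.ne_one_of_dvd hx hg (isConj_one_left.mp h)
  rw [sum_singleton, deg_eq, map_natCast, mul_eq_zero] at h1
  exact h1.resolve_right (by exact_mod_cast (deg_pos χ).ne')

theorem not_mem_prinBlk_of_defect_zero (hp : p.Prime) (hd : p ∣ Nat.card G) {χ : IrrCharacter G}
    (h : ¬ p ∣ Nat.card G / deg χ) : χ ∉ prinBlk p G := fun hχ => by
  obtain ⟨z, hz1, hz⟩ := exists_central_in_sylow hp hd
  exact apply_ne_zero_of_mem_prinBlk hp hχ hz (eq_zero_of_defect_zero hp h (hz1 ▸ dvd_rfl))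

theorem eq_zero_of_dvd_deg (hp : p.Prime) (h2 : ¬ p ^ 2 ∣ Nat.card G) {χ : IrrCharacter G}
    (h : p ∣ deg χ) {g : G} (hg : p ∣ orderOf g) : χ.1 g = 0 := by
  refine eq_zero_of_defect_zero hp (fun h1 => h2 ?_) hg
  rw [← Nat.mul_div_cancel' (deg_dvd χ), sq]
  exact mul_dvd_mul h h1

/-- For a `q`-singular element `g` and a prime `r`, some nonprincipal character of the principal
`q`-block has degree prime to `r` and does not vanish at `g`. -/
theorem exists_prinBlk_not_dvd {q r : ℕ} (hq : q.Prime) (hr : r.Prime) {g : G}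
    (hg : q ∣ orderOf g) : ∃ χ ∈ prinBlk q G, χ ≠ irrOne G ∧ ¬ r ∣ deg χ ∧ χ.1 g ≠ 0 := by
  classical
  by_contra h
  push Not at h
  obtain ⟨O, hO⟩ := exists_valuationSubring hr
  have h1 := sum_prinBlk_degree_mul_eq_zero hq hg
  rw [← add_sum_erase _ _ (irrOne_mem_prinBlk hq), add_eq_zero_iff_eq_neg] at h1
  have h2 : O.valuation (∑ χ ∈ (prinBlk q G).erase (irrOne G), χ.1 1 * χ.1 g) < 1 := by
    refine val_sum_lt _ fun χ hχ => ?_
    by_cases h3 : r ∣ deg χ
    · rw [deg_eq]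
      exact val_mul_lt_left _ (val_natCast_lt hO h3)
        (val_le_of_isIntegral _ (IsCharacter.isIntegral (irr_isChar χ) _))
    · rw [h χ (mem_of_mem_erase hχ) (ne_of_mem_erase hχ) h3]
      simp
  rw [← Valuation.map_neg, ← h1] at h2
  simp [irrOne] at h2

namespace Setup

variable [hp : Fact p.Prime] (D : Setup p G)

include D in
theorem not_sq_dvd : ¬ p ^ 2 ∣ Nat.card G := by
  rw [D.card_eq, sq, Nat.mul_dvd_mul_iff_left hp.out.pos]
  exact D.hidx

theorem exists_of_dvd_card_K {q r : ℕ} (hq : q.Prime) (hr : r.Prime) (hK : q ∣ Nat.card D.K) :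
    ∃ χ ∈ prinBlk q G, χ ≠ irrOne G ∧ ¬ r ∣ deg χ ∧ ¬ p ∣ deg χ := by
  have := Fact.mk hq
  obtain ⟨u, hu⟩ := exists_prime_orderOf_dvd_card' (G := D.K) q hK
  rw [← orderOf_coe] at hu
  have h1 := (D.hK u).mp u.2
  have h2 : orderOf ((u : G) * D.x) = q * p := by
    rw [Commute.orderOf_mul_eq_mul_orderOf_of_coprime h1.1, hu, D.hx]
    rw [D.hx]
    exact ((Nat.Prime.coprime_iff_not_dvd hp.out).mpr h1.2).symm
  obtain ⟨χ, h3, h4, h5, h6⟩ := exists_prinBlk_not_dvd hq hr (g := u * D.x) (h2 ▸ dvd_mul_right _ _)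
  exact ⟨χ, h3, h4, h5, fun h => h6 (eq_zero_of_dvd_deg hp.out D.not_sq_dvd h
    (h2 ▸ dvd_mul_left _ _))⟩

theorem not_dvd_card_K_of_three [IsSimpleGroup G] (hG : ¬ IsMulCommutative G) {q r a b : ℕ}
    (hq : q.Prime) (hr : r.Prime) (h : Nat.card G ∣ p * (q ^ a * r ^ b)) : ¬ q ∣ Nat.card D.K := by
  intro hK
  obtain ⟨χ, h1, h2, h3, h4⟩ := D.exists_of_dvd_card_K hq hr hK
  refine not_mem_prinBlk_of_dvd_pow hG (b := a) hq h2 ?_ h1
  exact (((Nat.Prime.coprime_iff_not_dvd hr).mpr h3).symm.pow_right b).dvd_of_dvd_mul_right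
    (((Nat.Prime.coprime_iff_not_dvd hp.out).mpr h4).symm.dvd_of_dvd_mul_left ((deg_dvd χ).trans h))

theorem K_eq_bot_of_three [IsSimpleGroup G] (hG : ¬ IsMulCommutative G) {q r a b : ℕ}
    (hq : q.Prime) (hr : r.Prime) (h : Nat.card G ∣ p * (q ^ a * r ^ b)) : D.K = ⊥ := by
  by_contra h1
  obtain ⟨s, hs, h2⟩ := Nat.exists_prime_and_dvd (mt Subgroup.card_eq_one.mp h1)
  have h3 := (h2.trans D.K.card_subgroup_dvd_card).trans h
  rcases (Nat.Prime.dvd_mul hs).mp h3 with h3 | h3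
  · exact D.not_dvd_card_K ((Nat.prime_dvd_prime_iff_eq hs hp.out).mp h3 ▸ h2)
  rcases (Nat.Prime.dvd_mul hs).mp h3 with h3 | h3
  · exact D.not_dvd_card_K_of_three hG hq hr h
      ((Nat.prime_dvd_prime_iff_eq hs hq).mp (hs.dvd_of_dvd_pow h3) ▸ h2)
  · exact D.not_dvd_card_K_of_three hG hr hq (mul_comm (q ^ a) _ ▸ h)
      ((Nat.prime_dvd_prime_iff_eq hs hr).mp (hs.dvd_of_dvd_pow h3) ▸ h2)

theorem centralizer_eq_iff : centralizer ({D.x} : Set G) = zpowers D.x ↔ D.K = ⊥ := by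
  constructor
  · intro h
    have h1 := D.card_C
    rw [h, Nat.card_zpowers, D.hx] at h1
    exact Subgroup.card_eq_one.mp (Nat.eq_of_mul_eq_mul_left hp.out.pos (h1.symm.trans (mul_one p).symm))
  · intro h
    refine (eq_of_le_of_card_ge (zpowers_le.mpr (mem_centralizer_singleton_iff.mpr rfl)) ?_).symm
    rw [D.card_C, h, card_bot, mul_one, Nat.card_zpowers, D.hx]

end Setup

end Cfsg.Agent.H6
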