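import Cfsg.Agent.H6.DefOne3

/-!
# A numerical sieve for orders of simple groups
-/

set_option autoImplicit false

namespace Cfsg.Agent.H6

open Finset Subgroup Cfsg.Agent.L0

namespace Sieve

/-- Subset-sum search. -/
def reach (M : ℤ) (ok : ℤ → Bool) : List ℤ → ℤ → Bool
  | [], r => r % M == 0
  | x :: L, r => reach M ok L r || (ok x && reach M ok L (r + x))

theorem reach_sound {M : ℤ} {ok : ℤ → Bool} (L : List ℤ) : ∀ (r : ℤ) (T : Multiset ℤ),
    T ≤ (L : Multiset ℤ) → (∀ x ∈ T, ok x = true) → M ∣ r + T.sum → reach M ok L r = true := by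
  induction L with
  | nil =>
    intro r T h1 _ h3
    obtain rfl : T = 0 := Multiset.le_zero.mp h1
    simpa [reach] using h3
  | cons x L ih =>
    intro r T h1 h2 h3
    rw [reach, Bool.or_eq_true, Bool.and_eq_true]
    by_cases hx : x ∈ T
    · obtain ⟨T', rfl⟩ := Multiset.exists_cons_of_mem hx
      rw [← Multiset.cons_coe, Multiset.cons_le_cons_iff] at h1
      refine Or.inr ⟨h2 x hx, ih _ T' h1 (fun y hy => h2 y (Multiset.mem_cons_of_mem hy)) ?_⟩
      rwa [Multiset.sum_cons, ← add_assoc] at h3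
    · rw [← Multiset.cons_coe, Multiset.le_cons_of_notMem hx] at h1
      exact Or.inl (ih r T h1 h2 h3)

/-- Inner loop of the multiset search. -/
def goIn (d : ℤ) (ok : ℕ → List ℤ → Bool) (next : ℕ → ℕ → List ℤ → Bool) :
    ℕ → ℕ → List ℤ → Bool
  | 0, b, cur => ok b cur
  | cnt + 1, b, cur => (decide (d.natAbs ^ 2 ≤ b) && goIn d ok next cnt (b - d.natAbs ^ 2) (d :: cur))
      || next (cnt + 1) b cur

/-- Search through the multisets with bounded sum of squares. -/
def go (ok : ℕ → List ℤ → Bool) : List ℤ → ℕ → ℕ → List ℤ → Bool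
  | [] => fun cnt b cur => cnt == 0 && ok b cur
  | d :: rest => goIn d ok (go ok rest)

theorem go_sound {ok : ℕ → List ℤ → Bool} (ne : List ℤ) : ∀ (M : Multiset ℤ) (b : ℕ)
    (cur : List ℤ), (∀ x ∈ M, x ∈ ne) → (M.map fun x => x.natAbs ^ 2).sum ≤ b →
    (∀ l : List ℤ, (l : Multiset ℤ) = M + cur →
      ok (b - (M.map fun x => x.natAbs ^ 2).sum) l = true) →
    go ok ne M.card b cur = true := by
  induction ne with
  | nil =>
    intro M b cur h1 _ h3
    obtain rfl : M = 0 := Multiset.eq_zero_of_forall_notMem fun x hx => by simpa using h1 x hx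
    simpa [go] using h3 cur (by simp)
  | cons d rest ih =>
    intro M
    induction hc : M.card generalizing M with
    | zero =>
      intro b cur _ _ h3
      obtain rfl : M = 0 := Multiset.card_eq_zero.mp hc
      simpa [go, goIn] using h3 cur (by simp)
    | succ n ih2 =>
      intro b cur h1 h2 h3
      rw [go, goIn, Bool.or_eq_true, Bool.and_eq_true, decide_eq_true_eq]
      by_cases hd : d ∈ M
      · obtain ⟨M', rfl⟩ := Multiset.exists_cons_of_mem hd
        rw [Multiset.map_cons, Multiset.sum_cons] at h2 h3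
        rw [Multiset.card_cons, Nat.add_right_cancel_iff] at hc
        refine Or.inl ⟨by omega, ih2 M' hc _ _
          (fun x hx => h1 x (Multiset.mem_cons_of_mem hx)) (by omega) fun l hl => ?_⟩
        rw [Nat.sub_sub]
        exact h3 l (by rw [hl, ← Multiset.cons_coe, Multiset.cons_add, Multiset.add_cons])
      · rw [← hc]
        exact Or.inr (ih M b cur (fun x hx => (List.mem_cons.mp (h1 x hx)).resolve_left
          fun h => hd (h ▸ hx)) h2 h3)

/-- Primality test. -/
def isPr (s p : ℕ) : Bool :=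
  decide (2 ≤ p) && decide (p < s * s) &&
    (List.range s).all fun d => decide (d < 2) || decide (p ≤ d) || p % d != 0

theorem isPr_sound {s p : ℕ} (h : isPr s p = true) : p.Prime := by
  simp only [isPr, Bool.and_eq_true, decide_eq_true_eq, List.all_eq_true, List.mem_range,
    Bool.or_eq_true, bne_iff_ne] at h
  refine Nat.prime_def_le_sqrt.mpr ⟨h.1.1, fun m h1 h2 h3 => ?_⟩
  have h4 := Nat.sqrt_lt.mpr h.1.2
  have h5 := Nat.sqrt_lt_self h.1.1
  rcases h.2 m (by omega) with (h6 | h6) | h6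
  · omega
  · omega
  · exact h6 (Nat.mod_eq_zero_of_dvd h3)

/-- `p ^ a` is the exact power of the prime `p` dividing `g`. -/
def valid (s g p a : ℕ) : Bool :=
  isPr s p && decide (0 < a) && g % p ^ a == 0 && (g / p ^ a) % p != 0

/-- A possible number of Sylow subgroups. -/
def sylOK (g m n : ℕ) : Bool :=
  m % n == 0 && (decide (60 ≤ n) || n.factorial % (2 * g) == 0)

/-- Possible signed degrees of nonexceptional characters. -/
def neList (s p N k : ℕ) : List ℤ :=
  (List.range s).flatMap fun d => bif decide (2 ≤ d) && N % d == 0 then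
    (bif d % p == 1 && (k == 1 || decide (2 * p + 1 ≤ d)) then [(d : ℤ)] else []) ++
    (bif (d + 1) % p == 0 && (k == 1 || decide (3 * p ≤ d + 1)) then [-(d : ℤ)] else []) else []

/-- The test on a full list of degrees. -/
def okF (s g p e k N : ℕ) (qs : List (ℕ × ℕ)) (ex : List ℤ → Bool) (b : ℕ) (cur : List ℤ) : Bool :=
  let f := -(1 + cur.sum)
  decide (2 ≤ f.natAbs) && N % f.natAbs == 0 && (f + e) % p == 0 &&
    decide ((p - 1) / e * f.natAbs ^ 2 ≤ b) &&
    (k == 1 || (bif decide (0 < f) then decide (3 * p ≤ f.natAbs + e)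
      else decide (2 * p + e ≤ f.natAbs))) &&
    (qs.all fun q => q.1 == p || k % q.1 == 0 || !valid s g q.1 q.2 ||
      reach (q.1 ^ q.2 : ℕ) (fun x => q.1 ^ q.2 % x.natAbs != 0) (f :: cur) 1) && ex (f :: cur)

/-- All configurations for the prime `p` fail, apart from those allowed by `ex`. -/
def elimOne (s g p : ℕ) (qs : List (ℕ × ℕ)) (ex : ℕ → ℕ → ℕ → List ℤ → Bool) : Bool :=
  (List.range (g / p / p + 1)).all fun j => j == 0 || !sylOK g (g / p) (1 + p * j) ||
    (List.range p).all fun e => decide (e < 2) || (p - 1) % e != 0 || (g / p / (1 + p * j)) % e != 0 ||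
      !go (okF s g p e (g / p / (1 + p * j) / e) ((1 + p * j) * e) qs
          (ex (1 + p * j) e (g / p / (1 + p * j) / e)))
        (neList s p ((1 + p * j) * e) (g / p / (1 + p * j) / e)) (e - 1) (g - 1) []

/-- No possible number of Sylow subgroups. -/
def elimSyl (g p a : ℕ) : Bool :=
  (List.range (g / p ^ a / p + 1)).all fun j => j == 0 || !sylOK g (g / p ^ a) (1 + p * j)

/-- The multiplicity of `d` in a number. -/
def mult (d : ℕ) : ℕ → ℕ → ℕ
  | 0, _ => 0
  | f + 1, g => bif g % d == 0 then mult d f (g / d) + 1 else 0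

/-- Trial division. -/
def facs : ℕ → ℕ → ℕ → List (ℕ × ℕ) → List (ℕ × ℕ)
  | 0, _, g, acc => bif decide (1 < g) then (g, 1) :: acc else acc
  | f + 1, d, g, acc => bif g % d == 0 then
      facs f (d + 1) (g / d ^ mult d 30 g) ((d, mult d 30 g) :: acc) else facs f (d + 1) g acc

/-- At most two primes. -/
def twoPr (s g : ℕ) : List (ℕ × ℕ) → Bool
  | [(p, a)] => isPr s p && g == p ^ a
  | [(p, a), (q, b)] => isPr s p && isPr s q && g == p ^ a * q ^ b
  | _ => false

/-- The sieve. -/
def elim (s g : ℕ) : Bool :=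
  decide (g < s * s) && (twoPr s g (facs s 2 g []) || (facs s 2 g []).any fun q =>
    valid s g q.1 q.2 && (elimSyl g q.1 q.2 ||
      (q.2 == 1 && elimOne s g q.1 (facs s 2 g []) fun _ _ _ _ => true)))

variable {G : Type*} [Group G] [Finite G] [IsSimpleGroup G]

theorem valid_sound {s g p a : ℕ} (h : valid s g p a = true) :
    p.Prime ∧ 0 < a ∧ g = p ^ a * (g / p ^ a) ∧ ¬ p ∣ g / p ^ a := by
  simp only [valid, Bool.and_eq_true, decide_eq_true_eq, beq_iff_eq, bne_iff_ne] at h
  exact ⟨isPr_sound h.1.1.1, h.1.1.2, (Nat.mul_div_cancel' (Nat.dvd_of_mod_eq_zero h.1.2)).symm,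
    fun h1 => h.2 (Nat.mod_eq_zero_of_dvd h1)⟩

theorem exists_syl (hG : ¬ IsMulCommutative G) {p a m : ℕ} [hp : Fact p.Prime] (ha : 0 < a)
    (h : Nat.card G = p ^ a * m) (hm : ¬ p ∣ m) : ∃ j, j < m / p + 1 ∧ j ≠ 0 ∧
      Nat.card (Sylow p G) = 1 + p * j ∧ sylOK (Nat.card G) m (1 + p * j) = true := by
  have hd : p ∣ Nat.card G := h ▸ (dvd_pow_self p ha.ne').mul_right m
  have h1 := card_sylow_dvd_of h hm
  have h2 := card_sylow_ne_one hG hd
  have h3 := two_mul_card_dvd_factorial_card_sylow hG hd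
  have h4 : Nat.card (Sylow p G) % p = 1 :=
    Eq.trans (card_sylow_modEq_one p G) (Nat.mod_eq_of_lt hp.out.one_lt)
  have h5 := Nat.mod_add_div (Nat.card (Sylow p G)) p
  rw [h4] at h5
  have h6 : 0 < m := Nat.pos_of_ne_zero fun h => hm (h ▸ dvd_zero p)
  refine ⟨Nat.card (Sylow p G) / p, Nat.lt_succ_of_le (Nat.div_le_div_right (Nat.le_of_dvd h6 h1)),
    fun h => h2 (by rw [← h5, h]; rfl), h5.symm, ?_⟩
  simp only [sylOK, h5, Bool.and_eq_true, beq_iff_eq, Bool.or_eq_true]
  exact ⟨Nat.mod_eq_zero_of_dvd h1, Or.inr (Nat.mod_eq_zero_of_dvd h3)⟩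

theorem elimSyl_sound (hG : ¬ IsMulCommutative G) {s p a : ℕ}
    (h1 : valid s (Nat.card G) p a = true) : elimSyl (Nat.card G) p a = false := by
  obtain ⟨hp, ha, h2, h3⟩ := valid_sound h1
  have := Fact.mk hp
  obtain ⟨j, h4, h5, -, h6⟩ := exists_syl hG ha h2 h3
  rw [Bool.eq_false_iff]
  intro h
  simp only [elimSyl, List.all_eq_true, List.mem_range, Bool.or_eq_true, beq_iff_eq,
    Bool.not_eq_true'] at h
  rcases h j h4 with h | h
  · exact h5 h
  · rw [h6] at h; exact Bool.noConfusion h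

theorem twoPr_sound (hG : ¬ IsMulCommutative G) {s : ℕ} (L : List (ℕ × ℕ)) :
    twoPr s (Nat.card G) L = false := by
  rw [Bool.eq_false_iff]
  intro h
  have key : ∀ p q a b, p.Prime → q.Prime → Nat.card G ≠ p ^ a * q ^ b := fun p q a b hp hq h =>
    hG (IsSimpleGroup.comm_iff_isSolvable.mpr (isSolvable_of_card_eq_pow_mul_pow hp hq h) |>
      fun h => ⟨⟨h⟩⟩)
  match L, h with
  | [(p, a)], h =>
    simp only [twoPr, Bool.and_eq_true, beq_iff_eq] at h
    exact key p p a 0 (isPr_sound h.1) (isPr_sound h.1) (by simp [h.2])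
  | [(p, a), (q, b)], h =>
    simp only [twoPr, Bool.and_eq_true, beq_iff_eq] at h
    exact key p q a b (isPr_sound h.1.1) (isPr_sound h.1.2) h.2

variable {p : ℕ} [hp : Fact p.Prime] {D : Setup p G} (B : Brauer D)

open Classical in
/-- The signed degrees of the nontrivial characters. -/
noncomputable def degs : Multiset ℤ :=
  (B.δ0 * B.f0) ::ₘ (B.S.erase (irrOne G)).val.map fun χ => B.δ χ * deg χ

omit [IsSimpleGroup G] in
theorem natAbs_S {χ : IrrCharacter G} (h : χ ∈ B.S) : (B.δ χ * deg χ).natAbs = deg χ := by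
  rcases B.hδ χ h with h | h <;> simp [h]

omit [IsSimpleGroup G] in
theorem natAbs_f0 : (B.δ0 * B.f0).natAbs = B.f0 := by
  rcases B.hδ0 with h | h <;> simp [h]

omit [IsSimpleGroup G] in
theorem exists_of_mem_degs {x : ℤ} (h : x ∈ degs B) :
    ∃ χ ∈ prinBlk p G, χ ≠ irrOne G ∧ x.natAbs = deg χ := by
  classical
  rcases Multiset.mem_cons.mp h with rfl | h
  · exact ⟨_, B.c_mem 1, B.c_ne_one 1, natAbs_f0 B⟩
  · obtain ⟨χ, h1, rfl⟩ := Multiset.mem_map.mp h
    have h2 := mem_erase.mp (show χ ∈ B.S.erase (irrOne G) from h1)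
    exact ⟨χ, B.S_mem h2.2, h2.1, natAbs_S B h2.2⟩

omit hp in
theorem not_le_ker (hK : Nat.card D.K ≠ 1) {χ : IrrCharacter G} (h : χ ≠ irrOne G) :
    ¬ D.K ≤ charKer χ.1 := fun h1 => by
  rw [ker_eq_bot h, le_bot_iff] at h1
  exact hK (by rw [h1, card_bot])

theorem elimOne_sound (hG : ¬ IsMulCommutative G) {s : ℕ} (hs : Nat.card G < s * s)
    (qs : List (ℕ × ℕ)) (ex : ℕ → ℕ → ℕ → List ℤ → Bool)
    (h : elimOne s (Nat.card G) p qs ex = true) : ∃ l : List ℤ, (l : Multiset ℤ) = degs B ∧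
      ex (Nat.card (Sylow p G)) (Nat.card D.A) (Nat.card D.K) l = false := by
  classical
  by_contra hex
  push Not at hex
  have hperf := perfect_of_simple hG
  have h1 : Nat.card G / p = (zpowers D.x).index := by
    rw [D.card_eq, Nat.mul_div_cancel_left _ hp.out.pos]
  obtain ⟨j, h2, h3, h4, h5⟩ := exists_syl hG one_pos (m := Nat.card G / p)
    (by rw [pow_one, h1, D.card_eq]) (h1 ▸ D.hidx)
  have h6 := B.two_le_card_A hperf
  have h7 : Nat.card G / p = Nat.card (Sylow p G) * (Nat.card D.A * Nat.card D.K) := by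
    apply Nat.div_eq_of_eq_mul_left hp.out.pos
    rw [D.card_G]
    ring
  have h8 : Nat.card G / p / (1 + p * j) = Nat.card D.A * Nat.card D.K := by
    rw [h7, ← h4, Nat.mul_div_cancel_left _ Nat.card_pos]
  have h9 : Nat.card G / p / (1 + p * j) / Nat.card D.A = Nat.card D.K := by
    rw [h8, Nat.mul_div_cancel_left _ Nat.card_pos]
  have h10 : Nat.card D.A < p := by
    have := Nat.le_of_dvd (Nat.sub_pos_of_lt hp.out.one_lt) D.card_A_dvd
    have := hp.out.pos
    omega
  simp only [elimOne, List.all_eq_true, List.mem_range, Bool.or_eq_true, beq_iff_eq,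
    Bool.not_eq_true', decide_eq_true_eq, bne_iff_ne] at h
  rcases h j h2 with (h | h) | h
  · exact h3 h
  · rw [h5] at h; exact Bool.noConfusion h
  rcases h _ h10 with ((h | h) | h) | h
  · omega
  · exact h (Nat.mod_eq_zero_of_dvd D.card_A_dvd)
  · exact h (Nat.mod_eq_zero_of_dvd (h8 ▸ dvd_mul_right _ _))
  rw [h9, ← h4] at h
  let M := (B.S.erase (irrOne G)).val.map fun χ => B.δ χ * deg χ
  have hM : M.card = Nat.card D.A - 1 := by
    rw [Multiset.card_map, card_val, card_erase_of_mem B.one_mem, B.card_S]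
  have hsq : (M.map fun x => x.natAbs ^ 2).sum = ∑ χ ∈ B.S.erase (irrOne G), deg χ ^ 2 := by
    rw [Multiset.map_map]
    exact sum_congr rfl fun χ hχ => by
      rw [Function.comp_apply, natAbs_S B (mem_of_mem_erase hχ)]
  have h11 := B.sum_sq_le
  rw [← add_sum_erase _ _ B.one_mem, deg_irrOne, ← hsq] at h11
  rw [← hM, go_sound _ M _ _ (fun x hx => ?_) (by omega) fun l hl => ?_] at h
  · exact Bool.noConfusion h
  · obtain ⟨χ, h1, rfl⟩ := Multiset.mem_map.mp hx
    obtain ⟨h12, h13⟩ := mem_erase.mp (show χ ∈ B.S.erase (irrOne G) from h1)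
    have h14 : deg χ ^ 2 ≤ Nat.card G := sum_deg_sq (G := G) ▸
      single_le_sum (f := fun χ => deg χ ^ 2) (fun _ _ => Nat.zero_le _) (mem_univ χ)
    have h15 := B.dvd_deg_sub h13
    have h16 : Nat.card D.K = 1 ∨ _ := (em _).imp_right fun h =>
      B.stanton_S hperf h13 (not_le_ker h h12)
    simp only [neList, List.mem_flatMap, List.mem_range]
    refine ⟨deg χ, by nlinarith, ?_⟩
    simp only [two_le_deg hperf h12, Nat.mod_eq_zero_of_dvd (B.deg_dvd_index h13), decide_true,
      BEq.rfl, Bool.and_self, cond_true, List.mem_append]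
    rcases B.hδ χ h13 with h17 | h17
    · left
      rw [h17, one_mul] at h15 ⊢
      have h18 : deg χ % p = 1 := by
        rw [← Nat.mod_eq_of_lt hp.out.one_lt]
        exact (Nat.modEq_iff_dvd.mpr (by simpa using h15)).symm
      rcases h16 with h19 | h19
      · simp [h18, h19]
      · simp [h18, h19.1 h17]
    · right
      rw [h17, neg_one_mul] at h15 ⊢
      have h18 : (deg χ + 1) % p = 0 := Nat.mod_eq_zero_of_dvd (by
        rw [← dvd_neg, neg_sub, sub_neg_eq_add, add_comm] at h15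
        exact_mod_cast h15)
      rcases h16 with h19 | h19
      · simp [h18, h19]
      · simp [h18, h19.2 h17]
  · rw [Multiset.coe_nil, add_zero] at hl
    have h12 : -(1 + l.sum) = B.δ0 * B.f0 := by
      have h13 := B.deg_eqn
      rw [← add_sum_erase _ _ B.one_mem, B.δ_one, deg_irrOne] at h13
      rw [← Multiset.sum_coe, hl]
      change -(1 + ∑ χ ∈ B.S.erase (irrOne G), B.δ χ * deg χ) = _
      omega
    have h13 : (p - 1) / Nat.card D.A = D.A.index := by
      rw [← D.card_A_mul_index, Nat.mul_div_cancel_left _ Nat.card_pos]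
    have h14 : ((B.δ0 * B.f0 :: l : List ℤ) : Multiset ℤ) = degs B := by
      rw [← Multiset.cons_coe, hl]; rfl
    have h15 := two_le_deg hperf (B.c_ne_one 1)
    simp only [okF, h12, natAbs_f0, h13, Bool.and_eq_true, decide_eq_true_eq, beq_iff_eq,
      Bool.or_eq_true, List.all_eq_true, Bool.not_eq_true']
    refine ⟨⟨⟨⟨⟨⟨h15, Nat.mod_eq_zero_of_dvd B.f0_dvd_index⟩, Int.emod_eq_zero_of_dvd B.dvd_f0_add⟩,
      by omega⟩, (em _).imp_right fun h => ?_⟩, fun q _ => ?_⟩, by simpa using hex _ h14⟩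
    · have h16 := B.stanton_c hperf (not_le_ker h (B.c_ne_one 1))
      rw [B.deg_c] at h15
      rcases B.hδ0 with h17 | h17
      · have : 0 < B.δ0 * B.f0 := by rw [h17]; omega
        simp only [this, h16.1 h17, decide_true, cond_true]
      · have : ¬ 0 < B.δ0 * B.f0 := by rw [h17]; omega
        simp only [this, h16.2 h17, decide_true, decide_false, cond_false]
    · by_contra h16
      push Not at h16
      obtain ⟨⟨⟨h16, h17⟩, h18⟩, h19⟩ := h16
      obtain ⟨hq, -, h20, -⟩ := valid_sound (by simpa using h18)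
      have h21 := D.brauer_tuan hq h16 (fun h => h17 (Nat.mod_eq_zero_of_dvd h)) ⟨_, h20⟩
        (1 : (ZMod p)ˣ)
      have h22 : irrOne G ∈ B.S.filter (· ∈ prinBlk q.1 G) :=
        mem_filter.mpr ⟨B.one_mem, irrOne_mem_prinBlk hq⟩
      have h23 : ∀ χ ∈ prinBlk q.1 G, χ ≠ irrOne G → (q.1 ^ q.2 % deg χ != 0) = true :=
        fun χ h1 h2 => bne_iff_ne.mpr fun h =>
          not_mem_prinBlk_of_dvd_pow hG hq h2 (Nat.dvd_of_mod_eq_zero h) h1
      rw [B.sum_filter_d, dvd_neg, ← add_sum_erase _ _ h22, B.δ_one, deg_irrOne, Nat.cast_one,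
        mul_one, add_assoc] at h21
      let T := ((B.S.filter (· ∈ prinBlk q.1 G)).erase (irrOne G)).val.map fun χ => B.δ χ * deg χ
      have h24 : T ≤ M := Multiset.map_le_map (val_le_iff.mpr (erase_subset_erase _
        (filter_subset _ _)))
      have h25 : ∀ x ∈ T, (q.1 ^ q.2 % x.natAbs != 0) = true := fun x hx => by
        obtain ⟨χ, h1, rfl⟩ := Multiset.mem_map.mp hx
        obtain ⟨h1, h2⟩ := mem_erase.mp
          (show χ ∈ (B.S.filter (· ∈ prinBlk q.1 G)).erase (irrOne G) from h1)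
        rw [natAbs_S B (mem_filter.mp h2).1]
        exact h23 χ (mem_filter.mp h2).2 h1
      apply h19
      split_ifs at h21 with h26
      · refine reach_sound _ _ ((B.δ0 * B.f0) ::ₘ T) (h14 ▸ Multiset.cons_le_cons _ h24)
          (fun x hx => ?_) (by rwa [Multiset.sum_cons, add_comm (B.δ0 * B.f0)])
        rcases Multiset.mem_cons.mp hx with rfl | hx
        · rw [natAbs_f0]
          exact h23 _ h26 (B.c_ne_one _)
        · exact h25 x hx
      · exact reach_sound _ _ T (h14 ▸ h24.trans (Multiset.le_cons_self _ _)) h25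
          (by rwa [add_zero] at h21)

omit hp in
theorem elim_sound (hG : ¬ IsMulCommutative G) (s : ℕ) : elim s (Nat.card G) = false := by
  rw [Bool.eq_false_iff]
  intro h
  simp only [elim, twoPr_sound hG, Bool.false_or, Bool.and_eq_true, decide_eq_true_eq,
    List.any_eq_true, Bool.or_eq_true, beq_iff_eq] at h
  obtain ⟨hs, ⟨p, a⟩, -, h1, h2⟩ := h
  rw [elimSyl_sound hG h1] at h2
  obtain ⟨rfl, h2⟩ := h2.resolve_left Bool.false_ne_true
  obtain ⟨hp, -, h3, h4⟩ := valid_sound h1
  have := Fact.mk hp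
  obtain ⟨D⟩ := nonempty_setup (G := G) (p := p) ⟨_, h3.trans (by rw [pow_one])⟩ fun h => h4 (by
    rw [h3, pow_one, sq, Nat.mul_dvd_mul_iff_left hp.pos] at h
    rwa [pow_one])
  obtain ⟨B⟩ := D.nonempty_brauer
  obtain ⟨l, -, h5⟩ := elimOne_sound B hG hs _ _ h2
  exact Bool.noConfusion h5

omit hp in
theorem card_ne (s g : ℕ) (h : elim s g = true) (hg : ¬ g.Prime) : Nat.card G ≠ g := fun h1 => by
  have := elim_sound (not_isMulCommutative_of_card (G := G) (h1 ▸ hg)) s
  rw [h1, h] at this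
  exact Bool.noConfusion this

end Sieve

end Cfsg.Agent.H6
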