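import Cfsg.Agent.H6.DefZero
import Cfsg.Agent.H6.PSLEven

/-!
# The multiplicity of the trivial character of a Sylow subgroup of prime order
-/

set_option autoImplicit false

namespace Cfsg.Agent.H6

open Finset Subgroup Cfsg.Agent.L0 MulAction
open scoped ComplexConjugate

variable {p : ℕ} {G : Type*} [Group G]

theorem norm_sum_le_of_normal [Finite G] (P : Subgroup G) [P.Normal] [Fintype P] {θ : G → ℂ}
    (hθ : IsCharacter G θ) (y : G) : ‖∑ u : P, θ (u * y)‖ ≤ (∑ u : P, θ u).re := by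
  refine IsCharacter.induction (P := fun θ => ‖∑ u : P, θ (u * y)‖ ≤ (∑ u : P, θ u).re) (by simp)
    (fun ψ hψ => ?_) (fun φ ψ h1 h2 => ?_) hθ
  · by_cases h : P ≤ charKer ψ
    · have h1 : ∀ g, ∑ u : P, ψ (u * g) = Fintype.card P * ψ g := fun g => by
        rw [sum_congr rfl fun u _ => mem_charKer.mp (h u.2) g, sum_const, card_univ, nsmul_eq_mul]
      have h2 := h1 1
      simp only [mul_one] at h2
      obtain ⟨n, hn⟩ := IsCharacter.exists_nat (IsIrrCharacter.isCharacter hψ)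
      have h3 := IsCharacter.norm_le (IsIrrCharacter.isCharacter hψ) y
      rw [h1, h2, hn, norm_mul, Complex.norm_natCast, ← Nat.cast_mul, Complex.natCast_re,
        Nat.cast_mul]
      rw [hn, Complex.norm_natCast] at h3
      exact mul_le_mul_of_nonneg_left h3 (Nat.cast_nonneg _)
    · have h1 : ∀ g, ∑ u : P, ψ (u * g) = 0 := fun g => by
        by_contra h1
        exact h (IsIrrCharacter.le_charKer_of_sum_ne_zero hψ P h1)
      have h2 := h1 1
      simp only [mul_one] at h2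
      simp [h1, h2]
  · simp only [Pi.add_apply, sum_add_distrib, Complex.add_re]
    exact (norm_add_le _ _).trans (add_le_add h1 h2)

theorem indFun_one_eq_fixed [Fintype G] {Ω : Type*} [MulAction G Ω] [IsPretransitive G Ω] (ω : Ω)
    (g : G) : indFun (stabilizer G ω) 1 g = (fixedBy Ω g).ncard := by
  have h1 := card_fixedBy_mul_card_stabilizer ω g
  have h2 : Nat.card {x : stabilizer G ω // IsConj g x} = (cl g ∩ stabilizer G ω).ncard := by
    rw [← Nat.card_coe_set_eq]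
    exact Nat.card_congr ⟨fun x => ⟨x.1, x.2, x.1.2⟩, fun x => ⟨⟨x.1, x.2.2⟩, x.2.1⟩,
      fun _ => rfl, fun _ => rfl⟩
  rw [indFun_one_apply, h2, div_mul_eq_mul_div, div_eq_iff (natCard_ne_zero _)]
  exact_mod_cast (mul_comm _ _).trans h1.symm

theorem div_cases {p n f g : ℕ} (hp : 1 < p) (hn : 2 * n < p + 3) (h : f * g = (p - 1) * (n * p + 1))
    (hf : (p : ℤ) ∣ f - 1) : f = 1 ∨ f = n * p + 1 := by
  obtain ⟨p, rfl⟩ := Nat.exists_eq_add_of_lt hp
  obtain ⟨u, hu⟩ := hf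
  have h1 : (f : ℤ) * g = (p + 1) * (n * (p + 2) + 1) := by
    have : 1 + p + 1 - 1 = p + 1 := by omega
    rw [this] at h
    have : (f : ℤ) * g = (p + 1) * (n * (1 + p + 1) + 1) := by exact_mod_cast h
    linarith
  push_cast at hu
  have hf0 : 0 < f := Nat.pos_of_ne_zero (by
    rintro rfl
    have : (0 : ℤ) < (p + 1) * (n * (p + 2) + 1) := by positivity
    rw [← h1] at this
    simp at this)
  have hu0 : 0 ≤ u := by nlinarith
  obtain ⟨v, hv⟩ : ∃ v : ℤ, (g : ℤ) + 1 = (p + 2) * v :=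
    ⟨(p + 1) * n + 1 - u * g, by linear_combination h1 - g * hu⟩
  have hv0 : 0 < v := by nlinarith
  have h2 : (u + 1) * (v - 1) = (n - u * v) * (p + 1) := by
    apply mul_left_cancel₀ (show ((p : ℤ) + 2) ≠ 0 by omega)
    linear_combination h1 - (f : ℤ) * hv - ((p + 2) * v - 1) * hu
  rcases hu0.eq_or_lt with h3 | h3
  · left
    rw [← h3] at hu
    omega
  right
  obtain ⟨k, hk⟩ : ∃ k : ℤ, k = n - u * v := ⟨_, rfl⟩
  rw [← hk] at h2
  have hk0 : 0 ≤ k := by nlinarith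
  rcases hk0.eq_or_lt with h4 | h4
  · rw [← h4, zero_mul, mul_eq_zero] at h2
    have h5 : v = 1 := by omega
    have h6 : (f : ℤ) = n * (1 + p + 1) + 1 := by
      rw [h5] at hk
      linear_combination hu + (1 + p + 1) * hk + (1 + p + 1) * h4
    exact_mod_cast h6
  · exfalso
    have h5 : 2 * (u * (v - 1)) ≥ p + 1 := by nlinarith
    have : (2 : ℤ) * n < 1 + p + 1 + 3 := by exact_mod_cast hn
    nlinarith

namespace Setup

variable [hp : Fact p.Prime] (D : Setup p G)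

theorem conj_xp {y : G} {a : ZMod p} (h : y * D.x * y⁻¹ = D.xp a) (j : ZMod p) :
    y * D.xp j * y⁻¹ = D.xp (a * j) := by
  rw [xp_mul, ← h, conj_pow, xp]

theorem sum_zpowers {M : Type*} [AddCommMonoid M] [Fintype (zpowers D.x)] (f : G → M) :
    ∑ u : zpowers D.x, f u = ∑ i, f (D.xp i) :=
  (Fintype.sum_bijective (fun i => (⟨D.xp i, D.xp_mem i⟩ : zpowers D.x))
    ⟨fun _ _ h => D.xp_injective (congrArg Subtype.val h), fun u => by
      obtain ⟨i, hi⟩ := D.exists_xp u.2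
      exact ⟨i, Subtype.ext hi⟩⟩ _ _ fun _ => rfl).symm

variable [Finite G]

theorem exists_conj_mul {y : G} (hy : y ∈ normalizer (zpowers D.x : Set G))
    (hc : y ∉ centralizer ({D.x} : Set G)) (i : ZMod p) :
    ∃ j, D.xp j * y * (D.xp j)⁻¹ = D.xp i * y := by
  obtain ⟨a, -, ha⟩ := D.exists_conj_eq (D.mem_normalizer_iff_conj.mp hy)
  have h1 : (1 : ZMod p) - a ≠ 0 := fun h => hc (by
    rw [← sub_eq_zero.mp h, xp_one, mul_inv_eq_iff_eq_mul] at ha
    exact mem_centralizer_singleton_iff.mpr ha)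
  refine ⟨i / (1 - a), ?_⟩
  rw [← xp_neg, mul_assoc, ← mul_inv_eq_iff_eq_mul, mul_assoc, D.conj_xp ha, ← xp_add]
  congr 1
  field_simp
  ring

theorem exists_m0 {θ : G → ℂ} (hθ : IsCharacter G θ) : ∃ m : ℕ, ∑ i, θ (D.xp i) = p * m := by
  have := Fintype.ofFinite (zpowers D.x)
  obtain ⟨m, hm⟩ := IsCharacter.exists_nat_classInner (IsCharacter.restrict hθ (zpowers D.x))
    isCharacter_one
  rw [classInner_one_right, Nat.card_zpowers, D.hx, inv_mul_eq_iff_eq_mul₀ p_ne_zero,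
    D.sum_zpowers θ] at hm
  exact ⟨m, hm⟩

/-- The multiplicity of the trivial character in the restriction to the Sylow subgroup. -/
noncomputable def m0 (χ : IrrCharacter G) : ℕ := (D.exists_m0 (irr_isChar χ)).choose

theorem sum_m0 (χ : IrrCharacter G) : ∑ i, χ.1 (D.xp i) = p * D.m0 χ :=
  (D.exists_m0 (irr_isChar χ)).choose_spec

theorem m0_eq (χ : IrrCharacter G) : (p : ℤ) * D.m0 χ = deg χ - ∑ b, D.d χ b := by
  have h1 := D.sum_m0 χ
  rw [← add_sum_erase _ _ (mem_univ 0), xp_zero, deg_eq, sum_apply_xp,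
    sum_erase _ (by simp [d_zero])] at h1
  exact_mod_cast h1.symm.trans (sub_eq_add_neg _ _).symm

theorem norm_le_m0 (χ : IrrCharacter G) {y : G} (hy : y ∈ normalizer (zpowers D.x : Set G))
    (hc : y ∉ centralizer ({D.x} : Set G)) : ‖χ.1 y‖ ≤ D.m0 χ := by
  classical
  have := Fintype.ofFinite G
  set N := normalizer (zpowers D.x : Set G)
  have : ((zpowers D.x).subgroupOf N).Normal := normal_in_normalizer
  have h1 := norm_sum_le_of_normal ((zpowers D.x).subgroupOf N)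
    (IsCharacter.restrict (irr_isChar χ) N) ⟨y, hy⟩
  have h2 : ∀ f : G → ℂ, ∑ u : (zpowers D.x).subgroupOf N, f u = ∑ i, f (D.xp i) := fun f => by
    rw [← D.sum_zpowers]
    exact Fintype.sum_equiv (subgroupOfEquivOfLe le_normalizer).toEquiv _ _ fun _ => rfl
  simp only [Subgroup.coe_mul] at h1
  rw [h2 (fun u => χ.1 (u * y)), h2, sum_m0, sum_congr rfl fun i _ => by
    obtain ⟨j, hj⟩ := D.exists_conj_mul hy hc i
    rw [← hj, irr_isClass χ], sum_const, card_univ, ZMod.card, nsmul_eq_mul, norm_mul,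
    Complex.norm_natCast, ← Nat.cast_mul, Complex.natCast_re, Nat.cast_mul] at h1
  exact le_of_mul_le_mul_left h1 (Nat.cast_pos.mpr hp.out.pos)

theorem deg_eq_m0 (hK : D.K = ⊥) {χ : IrrCharacter G} (hχ : χ ∉ prinBlk p G) :
    deg χ = p * D.m0 χ := by
  have h1 := D.sum_m0 χ
  rw [← add_sum_erase _ _ (mem_univ 0), xp_zero, deg_eq, sum_eq_zero fun i hi =>
    D.apply_eq_zero_of_K_eq_bot hK hχ (ne_of_mem_erase hi), add_zero] at h1
  exact_mod_cast h1

theorem mem_of_dvd_orderOf (hK : D.K = ⊥) {y : G} (hy : y ∈ normalizer (zpowers D.x : Set G))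
    (h : p ∣ orderOf y) : y ∈ zpowers D.x := by
  obtain ⟨i, hi, k, hk, h1⟩ := D.exists_conj_of_dvd h
  rw [hK, mem_bot] at hk
  rw [hk, one_mul] at h1
  refine (smul_sylow_eq_iff_mem ⟨1, ?_⟩ D.P).mp (Sylow.smul_eq_iff_mem_normalizer.mpr hy)
  rw [pow_one, ← D.orderOf_xp hi, ← orderOf_eq_of_isConj h1, pow_orderOf_eq_one]

theorem exists_card_sylow : ∃ n, Nat.card (Sylow p G) = n * p + 1 := by
  have h1 := card_sylow_modEq_one p G
  obtain ⟨n, hn⟩ := (Nat.modEq_iff_dvd' Nat.card_pos).mp h1.symm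
  have : 0 < Nat.card (Sylow p G) := Nat.card_pos
  exact ⟨n, by rw [mul_comm]; omega⟩

theorem commutator_normalizer_le (hK : D.K = ⊥) :
    ⁅normalizer (zpowers D.x : Set G), normalizer (zpowers D.x : Set G)⁆ ≤ zpowers D.x := by
  rw [commutator_le]
  intro a ha b hb
  obtain ⟨i, -, hi⟩ := D.exists_conj_eq (D.mem_normalizer_iff_conj.mp ha)
  obtain ⟨j, -, hj⟩ := D.exists_conj_eq (D.mem_normalizer_iff_conj.mp hb)
  have h1 : a * b * D.x * (a * b)⁻¹ = b * a * D.x * (b * a)⁻¹ := by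
    rw [show a * b * D.x * (a * b)⁻¹ = a * (b * D.x * b⁻¹) * a⁻¹ by group,
      show b * a * D.x * (b * a)⁻¹ = b * (a * D.x * a⁻¹) * b⁻¹ by group, hi, hj, D.conj_xp hi,
      D.conj_xp hj, mul_comm]
  have h2 : (b * a)⁻¹ * (a * b) ∈ zpowers D.x := by
    rw [← D.centralizer_eq_iff.mpr hK, mem_centralizer_singleton_iff]
    calc _ = (b * a)⁻¹ * (a * b * D.x * (a * b)⁻¹) * (a * b) := by group
      _ = _ := by rw [h1]; group
  have h3 := H8.conj_mem_of_le_normalizer le_rfl (mul_mem hb ha) h2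
  rw [commutatorElement_def]
  convert h3 using 1
  group

theorem card_sylow_ne_one (hG : commutator G = ⊤) (hK : D.K = ⊥) : Nat.card (Sylow p G) ≠ 1 := by
  intro h
  have h1 := card_sylow_mul_card_normalizer D.P
  rw [h, one_mul, card_eq_iff_eq_top, coe_P] at h1
  have h2 := D.commutator_normalizer_le hK
  rw [h1, ← commutator_def, hG, top_le_iff] at h2
  have h3 : commutator G ≤ ⊥ := by
    rw [commutator_def, ← h2, commutator_le]
    intro a ha b hb
    obtain ⟨i, rfl⟩ := D.exists_xp ha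
    obtain ⟨j, rfl⟩ := D.exists_xp hb
    rw [mem_bot, commutatorElement_eq_one_iff_mul_comm, ← xp_add, ← xp_add, add_comm]
  have h4 : D.xp 1 ∈ (⊥ : Subgroup G) := h3 (hG ▸ mem_top _)
  exact one_ne_zero (D.xp_eq_one.mp h4)

theorem faithful (hG : commutator G = ⊤) (hK : D.K = ⊥) : FaithfulSMul G (Sylow p G) := by
  refine ⟨fun {a b} h => ?_⟩
  have h1 : ∀ R : Sylow p G, (b⁻¹ * a) • R = R := fun R => by rw [mul_smul, h, inv_smul_smul]
  have : Nontrivial (Sylow p G) := Finite.one_lt_card_iff_nontrivial.mp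
    (Nat.lt_of_le_of_ne Nat.card_pos (D.card_sylow_ne_one hG hK).symm)
  obtain ⟨R, hR⟩ := exists_ne D.P
  have h2 : ∀ g : G, (∀ R : Sylow p G, g • R = R) → g ∈ zpowers D.x → g = 1 := fun g h hg => by
    by_contra h1
    exact hR (eq_of_smul_sylow_eq D.card_P hg h1 (h R))
  refine (inv_mul_eq_one.mp (h2 _ h1 ?_)).symm
  generalize b⁻¹ * a = g at h1
  rw [← D.centralizer_eq_iff.mpr hK, mem_centralizer_singleton_iff, ← mul_inv_eq_iff_eq_mul,
    ← mul_inv_eq_one]
  refine h2 _ (fun R => ?_) (mul_mem (D.mem_normalizer_iff_conj.mp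
    (Sylow.smul_eq_iff_mem_normalizer.mp (h1 D.P))) (inv_mem (mem_zpowers _)))
  rw [mul_smul, mul_smul, mul_smul, h1, inv_smul_eq_iff.mpr (h1 _).symm, smul_inv_smul]

theorem psl_of_card_sylow (hG : commutator G = ⊤) (hK : D.K = ⊥)
    (hn : Nat.card (Sylow p G) = p + 1) (he : 2 * Nat.card D.A = p - 1) {F : Type*} [Field F]
    [Fintype F] (hF : Fintype.card F = p) :
    Nonempty (G ≃* Matrix.ProjectiveSpecialLinearGroup (Fin 2) F) := by
  obtain ⟨L, -⟩ := exists_zline hF D.P D.card_P hn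
  have := D.faithful hG hK
  refine L.psl ?_ hG (hF ▸ hp.out)
  have hc := D.card_G
  rw [L.card_eq, Nat.card_eq_fintype_card (α := F), hF, hn, hK, card_bot, mul_one,
    mul_comm _ p] at hc
  rw [hF, ← he, Nat.eq_of_mul_eq_mul_left hp.out.pos (Nat.eq_of_mul_eq_mul_left (by omega) hc)]

end Setup

namespace Brauer

variable [hp : Fact p.Prime] [Finite G] {D : Setup p G} (B : Brauer D)

theorem m0_S {χ : IrrCharacter G} (h : χ ∈ B.S) :
    (p : ℤ) * D.m0 χ = deg χ + (p - 1) * B.δ χ := by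
  rw [D.m0_eq, B.sum_d_S h]; ring

theorem m0_c (q : (ZMod p)ˣ ⧸ D.A) : (p : ℤ) * D.m0 (B.c q) = B.f0 + Nat.card D.A * B.δ0 := by
  rw [D.m0_eq, B.sum_d_c, B.deg_c]; ring

/-- Brauer's argument for an exceptional character of degree `e`. -/
theorem small_exceptional (hG : commutator G = ⊤) (hK : D.K = ⊥) (h1 : B.δ0 = -1)
    (h2 : B.f0 = Nat.card D.A) : p ≤ 2 * Nat.card D.A + 1 ∧
      (p = 2 * Nat.card D.A + 1 → ∃ χ ∈ B.S, deg χ = p + 1) := by
  classical
  have := Fintype.ofFinite G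
  have hp2 := hp.out.two_le
  have he := B.two_le_card_A hG
  have hφ := IsCharacter.mul (irr_isChar (B.c 1)) (IsCharacter.conj (irr_isChar (B.c 1)))
  obtain ⟨a, ha1, ha2⟩ := IsCharacter.exists_eq_sum_nsmul hφ
  have h3 : a (irrOne G) = 1 := by
    have := ha1 (irrOne G)
    rw [← classInner_mul_right, irrOne_val, one_mul, IsIrrCharacter.classInner_self (B.c 1).2]
      at this
    exact_mod_cast this.symm
  have h4 : ∑ χ, a χ * deg χ = Nat.card D.A ^ 2 := by
    have := congrFun ha2 1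
    simp only [Pi.mul_apply, deg_eq, B.deg_c, h2, map_natCast, Finset.sum_apply,
      nsmul_eq_mul, Pi.natCast_apply] at this
    exact_mod_cast this.symm.trans (sq _).symm
  have h5 : ∑ χ, a χ * D.m0 χ = Nat.card D.A := by
    have h6 : ∀ i, (B.c 1).1 (D.xp i) = ∑ b ∈ univ.filter fun b : (ZMod p)ˣ =>
        (b : (ZMod p)ˣ ⧸ D.A) = 1, ee ((b : ZMod p) * i) := fun i => by
      by_cases hi : i = 0
      · rw [hi, D.xp_zero, deg_eq, B.deg_c, h2, ← card_fiber (A := D.A) 1]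
        simp
      · simp [B.val_c _ hi, h1]
    have h7 := sum_congr (rfl : (univ : Finset (ZMod p)) = univ) fun i _ => congrFun ha2 (D.xp i)
    simp only [Pi.mul_apply, Finset.sum_apply, nsmul_eq_mul, Pi.natCast_apply] at h7
    rw [sum_comm (t := (univ : Finset (IrrCharacter G)))] at h7
    simp only [← mul_sum, D.sum_m0, h6, map_sum, conj_ee, sum_mul_sum, ← ee_add] at h7
    rw [sum_comm, sum_congr rfl fun b hb => sum_comm.trans (sum_congr rfl fun c _ =>
      (sum_congr rfl fun i _ => by rw [show (b : ZMod p) * i + -(c * i) = i * (b - c) by ring]).trans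
        (sum_ee _))] at h7
    simp only [sub_eq_zero, Units.val_inj, sum_ite_eq] at h7
    rw [sum_congr rfl fun b hb => if_pos hb, sum_const, card_fiber, nsmul_eq_mul] at h7
    have h8 : (p : ℂ) * ∑ χ, a χ * D.m0 χ = p * Nat.card D.A := by
      rw [mul_comm (p : ℂ) (Nat.card D.A), h7, Nat.cast_sum, mul_sum]
      exact sum_congr rfl fun _ _ => by push_cast; ring
    exact_mod_cast mul_left_cancel₀ p_ne_zero h8
  have h6 : ∀ χ, χ ≠ irrOne G → (p + 1) * D.m0 χ ≤ 2 * deg χ ∧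
      ((p + 1) * D.m0 χ = 2 * deg χ → χ ∈ B.S ∧ deg χ = p + 1) := fun χ hχ => by
    have h7 := two_le_deg hG hχ
    by_cases h8 : χ ∈ prinBlk p G
    · rcases (B.mem_iff χ).mp h8 with h8 | ⟨q, rfl⟩
      · have h9 := B.m0_S h8
        rcases B.hδ χ h8 with h10 | h10 <;> rw [h10] at h9
        · have h11 : 2 ≤ D.m0 χ := by nlinarith
          exact ⟨by nlinarith, fun h => ⟨h8, by nlinarith⟩⟩
        · exact ⟨by nlinarith, fun h => by nlinarith⟩
      · have h9 := B.m0_c q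
        rw [h1, h2] at h9
        have h10 : D.m0 (B.c q) = 0 := by nlinarith
        rw [h10]
        exact ⟨by omega, fun h => by omega⟩
    · have h9 := D.deg_eq_m0 hK h8
      exact ⟨by nlinarith, fun h => by nlinarith⟩
  have h7 : D.m0 (irrOne G) = 1 := by
    have := B.m0_S B.one_mem
    rw [deg_irrOne, B.δ_one] at this
    exact Nat.eq_of_mul_eq_mul_left hp.out.pos (by push_cast at this; zify; linarith)
  rw [← add_sum_erase _ _ (mem_univ (irrOne G)), h3, deg_irrOne] at h4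
  rw [← add_sum_erase _ _ (mem_univ (irrOne G)), h3, h7] at h5
  have h8 : ∀ χ ∈ univ.erase (irrOne G), (p + 1) * (a χ * D.m0 χ) ≤ 2 * (a χ * deg χ) :=
    fun χ hχ => by have := (h6 χ (ne_of_mem_erase hχ)).1; nlinarith
  have h9 := sum_le_sum h8
  rw [← mul_sum, ← mul_sum] at h9
  refine ⟨by nlinarith, fun h => ?_⟩
  have h10 := (sum_eq_sum_iff_of_le h8).mp (by rw [← mul_sum, ← mul_sum]; nlinarith)
  obtain ⟨χ, hχ, h11⟩ := exists_ne_zero_of_sum_ne_zero
    (show ∑ χ ∈ univ.erase (irrOne G), a χ * deg χ ≠ 0 by nlinarith)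
  refine ⟨χ, (h6 χ (ne_of_mem_erase hχ)).2 (Nat.eq_of_mul_eq_mul_left
    (Nat.pos_of_ne_zero (left_ne_zero_of_mul h11)) ?_)⟩
  linarith [h10 χ hχ]

end Brauer

end Cfsg.Agent.H6
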