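import Cfsg.Agent.H6.Small
import Cfsg.Agent.H4.Dihedral

/-!
# The simple group of order 168, by counting
-/

set_option autoImplicit false

namespace Cfsg.Agent.H6.O168

open Subgroup Cfsg.Agent.H8 MulAction

instance fact7 : Fact (Nat.Prime 7) := ⟨by norm_num⟩

variable {G : Type*} [Group G] [Finite G] [IsSimpleGroup G] (h : Nat.card G = 168)
include h

theorem na : ¬ IsMulCommutative G := not_isMulCommutative_of_card (by rw [h]; norm_num)

theorem card_le {H : Subgroup G} (hH : H ≠ ⊤) : Nat.card H ≤ 24 := by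
  have h1 := two_mul_card_dvd_factorial_index (na h) hH
  have h2 := H.index_mul_card
  rw [h] at h1 h2
  by_contra h3
  have : H.index ≤ 6 := by nlinarith
  generalize H.index = i at *
  interval_cases i <;> (revert h1; decide)

omit [IsSimpleGroup G] in
theorem card7 (P : Sylow 7 G) : Nat.card (P : Subgroup G) = 7 :=
  sylow_card_of (k := 1) (m := 24) h (by norm_num) P

omit [IsSimpleGroup G] in
theorem card3 (P : Sylow 3 G) : Nat.card (P : Subgroup G) = 3 :=
  sylow_card_of (k := 1) (m := 56) h (by norm_num) P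

omit [IsSimpleGroup G] in
theorem card2 (P : Sylow 2 G) : Nat.card (P : Subgroup G) = 8 :=
  sylow_card_of (k := 3) (m := 21) h (by norm_num) P

theorem n7 : Nat.card (Sylow 7 G) = 8 := by
  have h2 := card_sylow_modEq_one 7 G
  have h3 := card_sylow_ne_one (p := 7) (na h) (by rw [h]; norm_num)
  have h4 := card_sylow_dvd_of (p := 7) (k := 1) (m := 24) h (by norm_num)
  have := Nat.le_of_dvd (by norm_num) h4
  unfold Nat.ModEq at h2
  generalize Nat.card (Sylow 7 G) = n at *
  interval_cases n <;> omega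

theorem N7 (P : Sylow 7 G) : Nat.card (normalizer ((P : Subgroup G) : Set G)) = 21 := by
  have := card_sylow_mul_card_normalizer P
  rw [n7 h, h] at this
  omega

theorem C7 (P : Sylow 7 G) : centralizer ((P : Subgroup G) : Set G) = P := by
  have h6 := relIndex_centralizer_ne_one (perfect_of_simple (na h)) (by rw [h]; norm_num) P
  have h8 := relIndex_centralizer_mul_card (P : Subgroup G)
  have h9 := le_centralizer_of_comm (isMulCommutative_of_card_prime (card7 h P))
  obtain ⟨c, hc⟩ := card_dvd_of_le h9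
  refine (eq_of_le_of_card_ge h9 ?_).symm
  rw [N7 h, hc, card7 h] at h8
  rw [hc, card7 h]
  generalize (centralizer ((P : Subgroup G) : Set G)).relIndex _ = r at *
  have : r * c = 3 := by linarith
  rcases (Nat.dvd_prime Nat.prime_three).mp (Dvd.intro_left _ this) with h | h
  · omega
  · rw [h] at this; omega

omit [IsSimpleGroup G] in
theorem exists_sylow_eq {p : ℕ} [Fact p.Prime] (hp : ∀ P : Sylow p G, Nat.card (P : Subgroup G) = p)
    {x : G} (hx : orderOf x = p) : ∃ P : Sylow p G, (P : Subgroup G) = zpowers x := by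
  obtain ⟨P, hP⟩ := exists_sylow_mem (p := p) (x := x)
    ⟨1, by rw [pow_one, ← hx, pow_orderOf_eq_one]⟩
  refine ⟨P, eq_zpowers_of_card_prime (hp P) hP ?_⟩
  rintro rfl
  exact (Fact.out : p.Prime).ne_one (hx.symm.trans orderOf_one)

theorem cent7 {x : G} (hx : orderOf x = 7) : centralizer ({x} : Set G) = zpowers x := by
  obtain ⟨P, hP⟩ := exists_sylow_eq h (card7 h) hx
  rw [← centralizer_zpowers, ← hP, C7 h]

theorem cent3_dvd {y : G} (hy : orderOf y = 3) : Nat.card (centralizer ({y} : Set G)) ∣ 42 := by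
  have h1 := ncard_fixedBy_modEq (Ω := Sylow 7 G) (p := 3) (n := 1) (x := y)
    (by rw [pow_one, ← hy, pow_orderOf_eq_one])
  rw [n7 h] at h1
  have h2 : (fixedBy (Sylow 7 G) y).Nonempty := by
    rw [← Set.ncard_pos]
    unfold Nat.ModEq at h1
    omega
  obtain ⟨P, hP⟩ := h2
  have h3 := ncard_fixedBy_sylow_le (card7 h P) (Sylow.smul_eq_iff_mem_normalizer.mp hP) (by
    rw [C7 h]
    intro hyP
    have := Subgroup.orderOf_dvd_natCard _ hyP
    rw [hy, card7 h] at this
    omega)
  have h4 := card_fixedBy_mul_card_stabilizer P y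
  rw [stabilizer_sylow, N7 h] at h4
  rw [n7 h] at h3
  unfold Nat.ModEq at h1
  exact Dvd.intro_left _ (h4.symm.trans (by omega))

theorem n3 : Nat.card (Sylow 3 G) = 28 ∧ ∀ P : Sylow 3 G,
    Nat.card (centralizer ((P : Subgroup G) : Set G)) = 3 := by
  have key : ∀ P : Sylow 3 G, Nat.card (Sylow 3 G) = 28 ∧
      Nat.card (centralizer ((P : Subgroup G) : Set G)) = 3 := by
    intro P
    obtain ⟨y, hy, hPy⟩ := exists_zpowers_of_card_prime (card3 h P)
    have h0 := cent3_dvd h hy
    rw [← centralizer_zpowers, ← hPy] at h0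
    have h1 := card_sylow_mul_card_normalizer P
    have h2 := card_sylow_modEq_one 3 G
    have h3 := two_mul_card_dvd_factorial_card_sylow (p := 3) (na h) (by rw [h]; norm_num)
    have h4 := card_sylow_dvd_of (p := 3) (k := 1) (m := 56) h (by norm_num)
    have h6 := relIndex_centralizer_ne_one (perfect_of_simple (na h)) (by rw [h]; norm_num) P
    have h7 := relIndex_centralizer_dvd_sub_one (card3 h P)
    have h8 := relIndex_centralizer_mul_card (P : Subgroup G)
    rw [((Nat.dvd_prime Nat.prime_two).mp h7).resolve_left h6] at h8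
    have := Nat.le_of_dvd (by norm_num) h4
    unfold Nat.ModEq at h2
    rw [h] at h1 h3
    obtain ⟨c, hc⟩ := h0
    generalize Nat.card (Sylow 3 G) = n at *
    generalize Nat.card (centralizer ((P : Subgroup G) : Set G)) = k at *
    interval_cases n <;> first | omega | (exfalso; revert h3; decide) | skip
    obtain rfl : k = 12 := by omega
    omega
  obtain ⟨P⟩ := (inferInstance : Nonempty (Sylow 3 G))
  exact ⟨(key P).1, fun P => (key P).2⟩

theorem N3 (P : Sylow 3 G) : Nat.card (normalizer ((P : Subgroup G) : Set G)) = 6 := by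
  have := card_sylow_mul_card_normalizer P
  rw [(n3 h).1, h] at this
  omega

theorem cent3 {x : G} (hx : orderOf x = 3) : centralizer ({x} : Set G) = zpowers x := by
  obtain ⟨P, hP⟩ := exists_sylow_eq h (card3 h) hx
  refine (eq_of_le_of_card_ge (zpowers_le.mpr (mem_centralizer_singleton_iff.mpr rfl)) ?_).symm
  rw [← centralizer_zpowers, ← hP, (n3 h).2, card3 h]

theorem ord7 : {x : G | orderOf x = 7}.ncard = 48 := by
  obtain ⟨P⟩ := (inferInstance : Nonempty (Sylow 7 G))
  rw [ncard_orderOf_eq_prime P (card7 h P), n7 h]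

theorem ord3 : {x : G | orderOf x = 3}.ncard = 56 := by
  obtain ⟨P⟩ := (inferInstance : Nonempty (Sylow 3 G))
  rw [ncard_orderOf_eq_prime P (card3 h P), (n3 h).1]

theorem orderOf_eq_of_commute {p : ℕ} (hp : p = 3 ∨ p = 7) {x y : G} (hy : orderOf y = p)
    (hx : x ≠ 1) (hxy : x * y = y * x) : orderOf x = p := by
  have h1 : x ∈ zpowers y := by
    rcases hp with rfl | rfl
    · rw [← cent3 h hy]; exact mem_centralizer_singleton_iff.mpr hxy
    · rw [← cent7 h hy]; exact mem_centralizer_singleton_iff.mpr hxy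
  have : Fact p.Prime := ⟨by rcases hp with rfl | rfl <;> norm_num⟩
  exact orderOf_eq_of_card_prime (by rw [Nat.card_zpowers, hy]) h1 hx

theorem cent_dvd {x : G} (hx : x ≠ 1) (h3 : orderOf x ≠ 3) (h7 : orderOf x ≠ 7) :
    Nat.card (centralizer ({x} : Set G)) ∣ 8 := by
  have key : ∀ p, p = 3 ∨ p = 7 → ¬ p ∣ Nat.card (centralizer ({x} : Set G)) := by
    intro p hp hd
    have : Fact p.Prime := ⟨by rcases hp with rfl | rfl <;> norm_num⟩
    obtain ⟨⟨y, hy⟩, hy2⟩ := exists_prime_orderOf_dvd_card' p hd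
    rw [orderOf_mk] at hy2
    have := orderOf_eq_of_commute h hp hy2 hx (mem_centralizer_singleton_iff.mp hy).symm
    omega
  have h1 : Nat.card (centralizer ({x} : Set G)) ∣ 3 * (7 * 8) :=
    (card_subgroup_dvd_card _).trans h.dvd
  exact Nat.Coprime.dvd_of_dvd_mul_left
    ((Nat.Prime.coprime_iff_not_dvd (by norm_num)).mpr (key 7 (Or.inr rfl))).symm
    (Nat.Coprime.dvd_of_dvd_mul_left
      ((Nat.Prime.coprime_iff_not_dvd (by norm_num)).mpr (key 3 (Or.inl rfl))).symm h1)

theorem orderOf_dvd {x : G} (h3 : orderOf x ≠ 3) (h7 : orderOf x ≠ 7) : orderOf x ∣ 8 := by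
  by_cases hx : x = 1
  · simp [hx]
  exact (Subgroup.orderOf_dvd_natCard _ (mem_centralizer_singleton_iff.mpr rfl)).trans
    (cent_dvd h hx h3 h7)

theorem ne6 (x : G) : orderOf x ≠ 6 := fun h6 => by
  have := orderOf_dvd h (x := x) (by omega) (by omega)
  rw [h6] at this
  omega

theorem twoElts : {x : G | x ≠ 1 ∧ orderOf x ≠ 3 ∧ orderOf x ≠ 7}.ncard = 63 := by
  classical
  have h1 := ncard_eq_sum_fibers (fun x : G => if x = 1 then 0 else if orderOf x = 3 then 1 else
    if orderOf x = 7 then 2 else (3 : Fin 4)) Set.univ Finset.univ (fun _ _ => Finset.mem_univ _)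
  rw [Set.ncard_univ, h, Fin.sum_univ_four] at h1
  have e0 : {a : G | a ∈ Set.univ ∧ (if a = 1 then 0 else if orderOf a = 3 then 1 else
    if orderOf a = 7 then 2 else (3 : Fin 4)) = 0} = {1} := by
    ext a; simp only [Set.mem_univ, true_and, Set.mem_ofPred_eq, Set.mem_singleton_iff]
    split_ifs <;> simp [*]
  have e1 : {a : G | a ∈ Set.univ ∧ (if a = 1 then 0 else if orderOf a = 3 then 1 else
    if orderOf a = 7 then 2 else (3 : Fin 4)) = 1} = {x | orderOf x = 3} := by
    ext a; simp only [Set.mem_univ, true_and, Set.mem_ofPred_eq]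
    split_ifs <;> simp [*]
  have e2 : {a : G | a ∈ Set.univ ∧ (if a = 1 then 0 else if orderOf a = 3 then 1 else
    if orderOf a = 7 then 2 else (3 : Fin 4)) = 2} = {x | orderOf x = 7} := by
    ext a; simp only [Set.mem_univ, true_and, Set.mem_ofPred_eq]
    split_ifs <;> simp [*]
  have e3 : {a : G | a ∈ Set.univ ∧ (if a = 1 then 0 else if orderOf a = 3 then 1 else
    if orderOf a = 7 then 2 else (3 : Fin 4)) = 3} =
      {x : G | x ≠ 1 ∧ orderOf x ≠ 3 ∧ orderOf x ≠ 7} := by
    ext a; simp only [Set.mem_univ, true_and, Set.mem_ofPred_eq]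
    split_ifs <;> simp [*]
  rw [e0, e1, e2, e3, ord3 h, ord7 h, Set.ncard_singleton] at h1
  omega

omit [IsSimpleGroup G] h in
theorem exists_sylow2 {x : G} (hx : orderOf x ∣ 8) : ∃ T : Sylow 2 G, x ∈ (T : Subgroup G) :=
  exists_sylow_mem ⟨3, orderOf_dvd_iff_pow_eq_one.mp hx⟩

theorem n2 : Nat.card (Sylow 2 G) = 21 := by
  have h1 : 63 ≤ Nat.card (Sylow 2 G) * 7 := by
    have hc : ∀ x ∈ {x : G | x ≠ 1 ∧ orderOf x ≠ 3 ∧ orderOf x ≠ 7},
        ∃ T : Sylow 2 G, x ∈ (T : Subgroup G) := fun x hx =>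
      exists_sylow2 (orderOf_dvd h hx.2.1 hx.2.2)
    obtain ⟨T0⟩ := (inferInstance : Nonempty (Sylow 2 G))
    choose! f hf using hc
    rw [← twoElts h, ← Set.ncard_univ]
    refine ncard_le_mul_of_fibers f _ _ (fun _ _ => Set.mem_univ _) fun T _ => ?_
    refine (Set.ncard_le_ncard (t := ((T : Subgroup G) : Set G) \ {1}) ?_).trans ?_
    · rintro a ⟨ha, rfl⟩
      exact ⟨hf a ha, ha.1⟩
    · rw [Set.ncard_sdiff_singleton_of_mem (one_mem _), ncard_subgroup, card2 h]
  have h4 := card_sylow_dvd_of (p := 2) (k := 3) (m := 21) h (by norm_num)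
  have := Nat.le_of_dvd (by norm_num) h4
  generalize Nat.card (Sylow 2 G) = n at *
  have : 9 ≤ n := by omega
  interval_cases n <;> omega

theorem N2 (T : Sylow 2 G) : normalizer ((T : Subgroup G) : Set G) = T := by
  have := card_sylow_mul_card_normalizer T
  rw [n2 h, h] at this
  refine (eq_of_le_of_card_ge le_normalizer ?_).symm
  rw [card2 h]; omega

theorem not_comm2 (T : Sylow 2 G) : ¬ IsMulCommutative (T : Subgroup G) := fun hc => by
  apply relIndex_centralizer_ne_one (perfect_of_simple (na h)) (by rw [h]; norm_num) T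
  rw [relIndex_eq_one, N2 h]
  exact le_centralizer_of_comm hc

omit [IsSimpleGroup G] in
theorem exists_sylow2_eq {H : Subgroup G} (hH : Nat.card H = 8) :
    ∃ T : Sylow 2 G, (T : Subgroup G) = H := by
  obtain ⟨T, hT⟩ := (IsPGroup.of_card (p := 2) (n := 3) hH).exists_le_sylow
  exact ⟨T, (eq_of_le_of_card_ge hT (by rw [hH, card2 h])).symm⟩

/-- No subgroup of order four is central in a Sylow `2`-subgroup. -/
theorem not_le_centralizer {T : Sylow 2 G} {U : Subgroup G} (hU : Nat.card U = 4)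
    (hUT : U ≤ T) : ¬ (T : Subgroup G) ≤ centralizer (U : Set G) := fun hc => by
  apply not_comm2 h T
  have h1 : (U.subgroupOf T).index = 2 := by
    have := (U.subgroupOf (T : Subgroup G)).index_mul_card
    rw [Nat.card_congr (subgroupOfEquivOfLe hUT).toEquiv, hU, card2 h] at this
    omega
  refine ⟨⟨fun x y => Subtype.ext ?_⟩⟩
  by_cases hx : (x : G) ∈ U
  · exact hc y.2 x hx
  by_cases hy : (y : G) ∈ U
  · exact (hc x.2 y hy).symm
  have h2 : x⁻¹ * y ∈ U.subgroupOf T := (mul_mem_iff_of_index_two h1).mpr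
    ⟨fun h => absurd (inv_mem_iff.mp h) hx, fun h => absurd h hy⟩
  have h3 : (x : G)⁻¹ * y * x = x * ((x : G)⁻¹ * y) := hc x.2 _ h2
  simp only [Subgroup.coe_mul]
  calc (x : G) * y = x * ((x : G)⁻¹ * y * x) := by rw [h3]; group
    _ = _ := by group

theorem exists_ord4 (T : Sylow 2 G) : ∃ u ∈ (T : Subgroup G), orderOf u = 4 := by
  by_contra hne
  push Not at hne
  apply not_comm2 h T
  have h2 : ∀ x : (T : Subgroup G), x * x = 1 := by
    intro x
    have h1 : orderOf (x : G) ∣ 2 ^ 3 := (Subgroup.orderOf_dvd_natCard _ x.2).trans (card2 h T).dvd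
    obtain ⟨k, hk, hk2⟩ := (Nat.dvd_prime_pow Nat.prime_two).mp h1
    apply Subtype.ext
    rw [Subgroup.coe_mul, ← pow_two, OneMemClass.coe_one, ← orderOf_dvd_iff_pow_eq_one, hk2]
    interval_cases k
    · norm_num
    · norm_num
    · exact absurd hk2 (hne _ x.2)
    · exfalso
      refine hne ((x : G) ^ 2) (pow_mem x.2 2) ?_
      rw [orderOf_pow' _ (by norm_num), hk2]; norm_num
  refine ⟨⟨fun x y => ?_⟩⟩
  rw [← inv_eq_of_mul_eq_one_right (h2 (x * y)), mul_inv_rev, inv_eq_of_mul_eq_one_right (h2 x),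
    inv_eq_of_mul_eq_one_right (h2 y)]

theorem cent4 {u : G} (hu : orderOf u = 4) : Nat.card (centralizer ({u} : Set G)) = 4 := by
  have hu1 : u ≠ 1 := by rintro rfl; simp at hu
  have h1 := cent_dvd h hu1 (by omega) (by omega)
  have h2 : zpowers u ≤ centralizer ({u} : Set G) :=
    zpowers_le.mpr (mem_centralizer_singleton_iff.mpr rfl)
  have h3 := card_dvd_of_le h2
  have h4 : Nat.card (centralizer ({u} : Set G)) ≠ 8 := fun h8 => by
    obtain ⟨T, hT⟩ := exists_sylow2_eq h h8
    refine not_le_centralizer h (T := T) (U := zpowers u) (by rw [Nat.card_zpowers, hu])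
      (hT ▸ h2) ?_
    rw [centralizer_zpowers, hT]
  rw [Nat.card_zpowers, hu] at h3
  have := Nat.le_of_dvd (by norm_num) h1
  generalize Nat.card (centralizer ({u} : Set G)) = c at *
  interval_cases c <;> omega

theorem cl4 {u : G} (hu : orderOf u = 4) : (cl u).ncard = 42 := by
  have := ncard_cl_mul_card_centralizer u
  rw [cent4 h hu, h] at this
  omega

theorem cent_of_central {T : Sylow 2 G} {z : G} (hz : z ∈ (T : Subgroup G)) (hz1 : z ≠ 1)
    (hc : ∀ t ∈ (T : Subgroup G), t * z = z * t) : centralizer ({z} : Set G) = T := by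
  have h1 : orderOf z ∣ 8 := (Subgroup.orderOf_dvd_natCard _ hz).trans (card2 h T).dvd
  refine (eq_of_le_of_card_ge (fun t ht => mem_centralizer_singleton_iff.mpr (hc t ht)) ?_).symm
  rw [card2 h]
  exact Nat.le_of_dvd (by norm_num) (cent_dvd h hz1 (fun h => by rw [h] at h1; omega)
    (fun h => by rw [h] at h1; omega))

omit [IsSimpleGroup G] in
theorem index_two {T : Sylow 2 G} {U : Subgroup G} (hU : Nat.card U = 4) (hUT : U ≤ T) :
    (U.subgroupOf T).index = 2 := by
  have := (U.subgroupOf (T : Subgroup G)).index_mul_card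
  rw [Nat.card_congr (subgroupOfEquivOfLe hUT).toEquiv, hU, card2 h] at this
  omega

omit [IsSimpleGroup G] in
theorem le_normalizer_four {T : Sylow 2 G} {U : Subgroup G} (hU : Nat.card U = 4) (hUT : U ≤ T) :
    (T : Subgroup G) ≤ normalizer (U : Set G) :=
  (normal_subgroupOf_iff_le_normalizer hUT).mp (normal_of_index_eq_two (index_two h hU hUT))

omit [Finite G] [IsSimpleGroup G] h in
theorem eq_sq_of_mem {u x : G} (hu : orderOf u = 4) (hx : x ∈ zpowers u) :
    x = 1 ∨ x = u ∨ x = u ^ 2 ∨ x = u⁻¹ := by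
  classical
  have hf : IsOfFinOrder u := orderOf_pos_iff.mp (by omega)
  rw [← hf.mem_powers_iff_mem_zpowers, hf.mem_powers_iff_mem_range_orderOf, hu] at hx
  simp only [Finset.mem_image, Finset.mem_range] at hx
  obtain ⟨k, hk, rfl⟩ := hx
  interval_cases k
  · simp
  · simp
  · simp
  · refine Or.inr (Or.inr (Or.inr (eq_inv_of_mul_eq_one_left ?_)))
    rw [← pow_succ]
    exact orderOf_dvd_iff_pow_eq_one.mp hu.dvd

omit [Finite G] [IsSimpleGroup G] h in
theorem orderOf_sq {u : G} (hu : orderOf u = 4) : orderOf (u ^ 2) = 2 := by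
  rw [orderOf_pow' _ (by norm_num), hu]; norm_num

omit [Finite G] [IsSimpleGroup G] h in
theorem eq_sq_of_mem_two {u x : G} (hu : orderOf u = 4) (hx : x ∈ zpowers u)
    (hx2 : orderOf x = 2) : x = u ^ 2 := by
  rcases eq_sq_of_mem hu hx with rfl | rfl | h | rfl
  · simp at hx2
  · omega
  · exact h
  · rw [orderOf_inv] at hx2; omega

theorem cent_sq {T : Sylow 2 G} {u : G} (huT : u ∈ (T : Subgroup G)) (hu : orderOf u = 4) :
    centralizer ({u ^ 2} : Set G) = T := by
  refine cent_of_central h (pow_mem huT 2) (H4.ne_one_of_orderOf_two (orderOf_sq hu)) fun t ht => ?_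
  have h1 := le_normalizer_four h (U := zpowers u) (by rw [Nat.card_zpowers, hu])
    (zpowers_le.mpr huT) ht
  have h2 := eq_sq_of_mem_two hu
    ((mem_normalizer_iff.mp h1 (u ^ 2)).mp (pow_mem (mem_zpowers u) 2))
    (by rw [← orderOf_eq_of_isConj (conj_mem_cl _ t), orderOf_sq hu])
  exact mul_inv_eq_iff_eq_mul.mp h2

theorem classes2 : ∃ u : G, orderOf u = 4 ∧ (cl (u ^ 2)).ncard = 21 ∧
    ∀ x, x ≠ 1 → orderOf x ≠ 3 → orderOf x ≠ 7 → x ∈ cl (u ^ 2) ∨ x ∈ cl u := by
  obtain ⟨T⟩ := (inferInstance : Nonempty (Sylow 2 G))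
  obtain ⟨u, huT, hu⟩ := exists_ord4 h T
  have h1 : (cl (u ^ 2)).ncard = 21 := by
    have := ncard_cl_mul_card_centralizer (u ^ 2)
    rw [cent_sq h huT hu, card2 h, h] at this
    omega
  refine ⟨u, hu, h1, ?_⟩
  have h2 : cl (u ^ 2) ∪ cl u = {x : G | x ≠ 1 ∧ orderOf x ≠ 3 ∧ orderOf x ≠ 7} := by
    refine Set.eq_of_subset_of_ncard_le ?_ ?_
    · rintro x (hx | hx)
      · have := (orderOf_eq_of_isConj hx).symm.trans (orderOf_sq hu)
        exact ⟨H4.ne_one_of_orderOf_two this, by omega, by omega⟩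
      · have := (orderOf_eq_of_isConj hx).symm.trans hu
        exact ⟨by rintro rfl; simp at this, by omega, by omega⟩
    · rw [twoElts h, Set.ncard_union_eq, h1, cl4 h hu]
      rw [Set.disjoint_left]
      intro x hx hx'
      have := (orderOf_eq_of_isConj hx).symm.trans (orderOf_sq hu)
      have := (orderOf_eq_of_isConj hx').symm.trans hu
      omega
  intro x h1 h3 h7
  exact (h2.symm.subset ⟨h1, h3, h7⟩ : x ∈ cl (u ^ 2) ∪ cl u)

theorem orders (g : G) :
    orderOf g = 1 ∨ orderOf g = 2 ∨ orderOf g = 3 ∨ orderOf g = 4 ∨ orderOf g = 7 := by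
  obtain ⟨u, hu, -, h2⟩ := classes2 h
  by_cases h1 : g = 1
  · simp [h1]
  by_cases h3 : orderOf g = 3
  · simp [h3]
  by_cases h7 : orderOf g = 7
  · simp [h7]
  rcases h2 g h1 h3 h7 with hx | hx
  · simp [(orderOf_eq_of_isConj hx).symm.trans (orderOf_sq hu)]
  · simp [(orderOf_eq_of_isConj hx).symm.trans hu]

theorem cl2_eq {z : G} (hz : orderOf z = 2) :
    cl z = {x | orderOf x = 2} ∧ (cl z).ncard = 21 := by
  obtain ⟨u, hu, h1, h2⟩ := classes2 h
  have key : ∀ x, orderOf x = 2 → x ∈ cl (u ^ 2) := fun x hx =>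
    (h2 x (H4.ne_one_of_orderOf_two hx) (by omega) (by omega)).resolve_right fun h' => by
      have := (orderOf_eq_of_isConj h').symm.trans hu
      omega
  rw [← cl_eq_of_isConj (key z hz)]
  exact ⟨Set.ext fun x => ⟨fun hx => (orderOf_eq_of_isConj hx).symm.trans (orderOf_sq hu), key x⟩,
    h1⟩

theorem cl4_eq {v : G} (hv : orderOf v = 4) : cl v = {x | orderOf x = 4} := by
  obtain ⟨u, hu, h1, h2⟩ := classes2 h
  have key : ∀ x, orderOf x = 4 → x ∈ cl u := fun x hx =>
    (h2 x (by rintro rfl; simp at hx) (by omega) (by omega)).resolve_left fun h' => by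
      have := (orderOf_eq_of_isConj h').symm.trans (orderOf_sq hu)
      omega
  rw [← cl_eq_of_isConj (key v hv)]
  exact Set.ext fun x => ⟨fun hx => (orderOf_eq_of_isConj hx).symm.trans hu, key x⟩

theorem cent2 {z : G} (hz : orderOf z = 2) : Nat.card (centralizer ({z} : Set G)) = 8 := by
  have := ncard_cl_mul_card_centralizer z
  rw [(cl2_eq h hz).2, h] at this
  omega

theorem cl3_eq {y : G} (hy : orderOf y = 3) : cl y = {x | orderOf x = 3} := by
  refine Set.eq_of_subset_of_ncard_le (fun x hx => (orderOf_eq_of_isConj hx).symm.trans hy) ?_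
  have := ncard_cl_mul_card_centralizer y
  rw [cent3 h hy, Nat.card_zpowers, hy, h] at this
  rw [ord3 h]; omega

theorem orderOf_eq_two {T : Sylow 2 G} {u s : G} (huT : u ∈ (T : Subgroup G)) (hu : orderOf u = 4)
    (hsT : s ∈ (T : Subgroup G)) (hs : s ∉ zpowers u) : orderOf s = 2 := by
  have hsd : orderOf s ∣ 8 := (Subgroup.orderOf_dvd_natCard _ hsT).trans (card2 h T).dvd
  rcases orders h s with h1 | h1 | h1 | h1 | h1
  · exact absurd (orderOf_eq_one_iff.mp h1 ▸ one_mem _) hs
  · exact h1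
  · rw [h1] at hsd; omega
  · exfalso
    have h2 : s ^ 2 = u ^ 2 := eq_sq_of_mem_two hu
      (sq_mem_of_index_two (index_two h (U := zpowers u) (by rw [Nat.card_zpowers, hu])
        (zpowers_le.mpr huT)) (⟨s, hsT⟩ : (T : Subgroup G))) (orderOf_sq h1)
    have h3 := mul_le_ncard_of_fibers (fun x : G => x ^ 2) {x | orderOf x = 4} (cl (u ^ 2))
      (m := 3) (by
        intro b hb
        obtain ⟨c, rfl⟩ := mem_cl_iff.mp hb
        have hne1 : u ≠ u⁻¹ := fun h' => by
          have : u ^ 2 = 1 := by rw [pow_two]; nth_rewrite 1 [h']; exact inv_mul_cancel u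
          exact H4.ne_one_of_orderOf_two (orderOf_sq hu) this
        have hne2 : u ≠ s := fun h' => hs (h' ▸ mem_zpowers u)
        have hne3 : u⁻¹ ≠ s := fun h' => hs (h' ▸ inv_mem (mem_zpowers u))
        have h4 : ((MulAut.conj c) '' {u, u⁻¹, s}).ncard = 3 := by
          rw [Set.ncard_image_of_injective _ (MulAut.conj c).injective, Set.ncard_eq_three]
          exact ⟨u, u⁻¹, s, hne1, hne2, hne3, rfl⟩
        rw [← h4]
        refine Set.ncard_le_ncard ?_
        rintro _ ⟨x, hx, rfl⟩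
        rw [Set.mem_ofPred_eq, Set.mem_ofPred_eq, MulEquiv.orderOf_eq, ← map_pow, MulAut.conj_apply]
        rcases hx with rfl | rfl | rfl
        · exact ⟨hu, rfl⟩
        · refine ⟨by rw [orderOf_inv, hu], ?_⟩
          rw [inv_pow, H4.inv_eq_of_mul_self (H4.mul_self_of_orderOf_two (orderOf_sq hu))]
        · exact ⟨h1, by rw [h2]⟩)
    rw [(cl2_eq h (orderOf_sq hu)).2, ← cl4_eq h hu, cl4 h hu] at h3
    omega
  · rw [h1] at hsd; omega

theorem inverts {T : Sylow 2 G} {u s : G} (huT : u ∈ (T : Subgroup G)) (hu : orderOf u = 4)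
    (hsT : s ∈ (T : Subgroup G)) (hs : s ∉ zpowers u) : s * u * s⁻¹ = u⁻¹ := by
  have h1 := H4.mul_self_of_orderOf_two (orderOf_eq_two h huT hu hsT hs)
  have h2 := H4.mul_self_of_orderOf_two (orderOf_eq_two h huT hu (mul_mem hsT huT)
    fun h' => hs (by simpa using mul_mem h' (inv_mem (mem_zpowers u))))
  rw [H4.inv_eq_of_mul_self h1, eq_inv_iff_mul_eq_one, ← h2]; group

omit [IsSimpleGroup G] in
theorem exists_not_mem {T : Sylow 2 G} {u : G} (hu : orderOf u = 4) :
    ∃ s ∈ (T : Subgroup G), s ∉ zpowers u := by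
  by_contra hne
  push Not at hne
  have := card_le_of_le (hne : (T : Subgroup G) ≤ zpowers u)
  rw [card2 h, Nat.card_zpowers, hu] at this
  omega

theorem dihedral (T : Sylow 2 G) : Nonempty (↥(T : Subgroup G) ≃* DihedralGroup 4) := by
  obtain ⟨u, huT, hu⟩ := exists_ord4 h T
  obtain ⟨s, hsT, hs⟩ := exists_not_mem h (T := T) hu
  obtain ⟨e⟩ := H4.nonempty_closure_equiv_dihedral_of_inverts
    (H4.mul_self_of_orderOf_two (orderOf_eq_two h huT hu hsT hs)) (inverts h huT hu hsT hs) hs
  rw [hu] at e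
  have : closure ({s, u} : Set G) = T := eq_of_le_of_card_ge
    ((closure_le _).mpr (by rintro x (rfl | rfl) <;> assumption))
    (by rw [Nat.card_congr e.toEquiv, DihedralGroup.nat_card, card2 h])
  exact ⟨(MulEquiv.subgroupCongr this.symm).trans e⟩

omit [Finite G] [IsSimpleGroup G] h in
theorem klein_sq {U : Subgroup G} (hU : IsKleinFour U) {x : G} (hx : x ∈ U) : x * x = 1 :=
  congrArg Subtype.val (IsKleinFour.mul_self (⟨x, hx⟩ : U))

omit [Finite G] [IsSimpleGroup G] h in
theorem klein_comm {U : Subgroup G} (hU : IsKleinFour U) {x y : G} (hx : x ∈ U) (hy : y ∈ U) :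
    x * y = y * x := by
  rw [← inv_eq_of_mul_eq_one_right (klein_sq hU (mul_mem hx hy)), mul_inv_rev,
    inv_eq_of_mul_eq_one_right (klein_sq hU hx), inv_eq_of_mul_eq_one_right (klein_sq hU hy)]

omit [IsSimpleGroup G] h in
theorem klein_cj {U : Subgroup G} (hU : IsKleinFour U) (g : G) : IsKleinFour (cj g U) :=
  let e : U ≃* cj g U := (MulAut.conj g).subgroupMap U
  ⟨(card_cj g U).trans hU.card_four, (Monoid.exponent_eq_of_mulEquiv e).symm.trans hU.exponent_two⟩

/-- A Klein four-group lies in two different Sylow `2`-subgroups, meeting in it. -/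
theorem klein_two_sylow {U : Subgroup G} (hU : IsKleinFour U) :
    ∃ S T : Sylow 2 G, S ≠ T ∧ U ≤ S ∧ U ≤ T := by
  have key : ∀ a ∈ U, a ≠ 1 → ∃ S : Sylow 2 G, (S : Subgroup G) = centralizer {a} ∧ U ≤ S := by
    intro a ha ha1
    obtain ⟨S, hS⟩ := exists_sylow2_eq h (cent2 h (H4.orderOf_eq_two_of (klein_sq hU ha) ha1))
    exact ⟨S, hS, fun x hx => hS ▸ mem_centralizer_singleton_iff.mpr (klein_comm hU hx ha)⟩
  by_contra hne
  push Not at hne
  obtain ⟨T, hT⟩ := (IsPGroup.of_card (p := 2) (n := 2) hU.card_four).exists_le_sylow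
  refine not_le_centralizer h hU.card_four hT fun t ht a ha => ?_
  by_cases ha1 : a = 1
  · simp [ha1]
  obtain ⟨S, hS, hUS⟩ := key a ha ha1
  obtain rfl : S = T := by
    by_contra hST
    exact hne S T hST hUS hT
  rw [hS] at ht
  exact (mem_centralizer_singleton_iff.mp ht).symm

theorem card_normalizer_klein {U : Subgroup G} (hU : IsKleinFour U) :
    Nat.card (normalizer (U : Set G)) = 24 := by
  obtain ⟨S, T, hST, hS, hT⟩ := klein_two_sylow h hU
  obtain ⟨n, m, h1, -, -, h2, h3⟩ := exists_card_eq_of_two_sylow hST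
    (le_normalizer_four h hU.card_four hS) (le_normalizer_four h hU.card_four hT)
  have h4 := card_le h (normalizer_ne_top_of_pgroup (na h)
    (IsPGroup.of_card (p := 2) (n := 2) hU.card_four) (by
      rintro rfl
      have := hU.card_four
      rw [card_bot] at this
      omega))
  rw [card2 h] at h3
  have : 3 * (8 * 1) ≤ n * (8 * m) := Nat.mul_le_mul h1 (Nat.mul_le_mul le_rfl h2)
  omega

theorem iso_of_card {H : Subgroup G} (hH : Nat.card H = 24) :
    Nonempty (H ≃* Equiv.Perm (Fin 4)) :=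
  iso_perm_four hH fun g => by rw [← orderOf_coe]; exact ne6 h g

section Klein

variable {T : Sylow 2 G} {u : G} (huT : u ∈ (T : Subgroup G)) (hu : orderOf u = 4)
include huT hu

theorem not_comm_u {s : G} (hsT : s ∈ (T : Subgroup G)) (hs : s ∉ zpowers u) :
    u * s ≠ s * u := fun hc => by
  have h1 := inverts h huT hu hsT hs
  rw [← hc, mul_inv_cancel_right] at h1
  have : u ^ 2 = 1 := by rw [pow_two]; nth_rewrite 1 [h1]; exact inv_mul_cancel u
  exact H4.ne_one_of_orderOf_two (orderOf_sq hu) this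

theorem card_inf_le {s : G} (hsT : s ∈ (T : Subgroup G)) (hs : s ∉ zpowers u) :
    Nat.card ↥((T : Subgroup G) ⊓ centralizer {s}) ≤ 4 := by
  have h1 : Nat.card ↥((T : Subgroup G) ⊓ centralizer {s}) ∣ 8 :=
    card2 h T ▸ card_dvd_of_le inf_le_left
  have h2 : Nat.card ↥((T : Subgroup G) ⊓ centralizer {s}) ≠ 8 := fun h8 => by
    have := eq_of_le_of_card_ge (inf_le_left : (T : Subgroup G) ⊓ centralizer {s} ≤ T)
      (by rw [h8, card2 h])
    exact not_comm_u h huT hu hsT hs (mem_centralizer_singleton_iff.mp (this.ge huT).2)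
  have := Nat.le_of_dvd (by norm_num) h1
  generalize Nat.card ↥((T : Subgroup G) ⊓ centralizer {s}) = c at *
  interval_cases c <;> omega

theorem mem_inf_iff {s : G} (hsT : s ∈ (T : Subgroup G)) (hs : s ∉ zpowers u) {x : G} :
    x ∈ (T : Subgroup G) ⊓ centralizer {s} ↔ x = 1 ∨ x = u ^ 2 ∨ x = s ∨ x = s * u ^ 2 := by
  have hz : s * u ^ 2 = u ^ 2 * s := mem_centralizer_singleton_iff.mp (cent_sq h huT hu ▸ hsT)
  have key : ∀ y ∈ zpowers u, y * s = s * y → y = 1 ∨ y = u ^ 2 := by
    intro y hy hc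
    rcases eq_sq_of_mem hu hy with rfl | rfl | rfl | rfl
    · exact Or.inl rfl
    · exact absurd hc (not_comm_u h huT hu hsT hs)
    · exact Or.inr rfl
    · exact absurd (Commute.inv_left_iff.mp hc) (not_comm_u h huT hu hsT hs)
  constructor
  · rintro ⟨hx, hc⟩
    replace hc := mem_centralizer_singleton_iff.mp hc
    by_cases h1 : x ∈ zpowers u
    · rcases key x h1 hc with h2 | h2 <;> simp [h2]
    · have h2 : s⁻¹ * x ∈ zpowers u := (mul_mem_iff_of_index_two (index_two h (U := zpowers u)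
        (by rw [Nat.card_zpowers, hu]) (zpowers_le.mpr huT)) (a := ⟨s, hsT⟩⁻¹) (b := ⟨x, hx⟩)).mpr
          ⟨fun h => absurd (inv_mem_iff.mp h) hs, fun h => absurd h h1⟩
      rcases key _ h2 (by rw [mul_assoc, hc]; group) with h3 | h3
      · rw [inv_mul_eq_one] at h3; simp [h3]
      · rw [inv_mul_eq_iff_eq_mul] at h3; simp [h3]
  · rintro (rfl | rfl | rfl | rfl)
    · exact one_mem _
    · exact ⟨pow_mem huT 2, mem_centralizer_singleton_iff.mpr hz.symm⟩
    · exact ⟨hsT, mem_centralizer_singleton_iff.mpr rfl⟩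
    · exact ⟨mul_mem hsT (pow_mem huT 2), mem_centralizer_singleton_iff.mpr
        (by rw [mul_assoc, ← hz])⟩

theorem klein_inf {s : G} (hsT : s ∈ (T : Subgroup G)) (hs : s ∉ zpowers u) :
    IsKleinFour ↥((T : Subgroup G) ⊓ centralizer {s}) := by
  have hz1 := H4.ne_one_of_orderOf_two (orderOf_sq hu)
  have hs' : s * u ^ 2 ∉ zpowers u := fun h' =>
    hs (by simpa using mul_mem h' (inv_mem (pow_mem (mem_zpowers u) 2)))
  have h1 : Nat.card ↥((T : Subgroup G) ⊓ centralizer {s}) = 4 := by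
    rw [← ncard_subgroup, Set.ncard_eq_four]
    refine ⟨1, u ^ 2, s, s * u ^ 2, hz1.symm, fun h => hs (h ▸ one_mem _),
      fun h => hs' (h ▸ one_mem _), fun h => hs (h ▸ pow_mem (mem_zpowers u) 2),
      fun h => hs' (h ▸ pow_mem (mem_zpowers u) 2), by simpa using hz1, ?_⟩
    ext x
    exact mem_inf_iff h huT hu hsT hs
  refine ⟨h1, ?_⟩
  have : Nontrivial ↥((T : Subgroup G) ⊓ centralizer {s}) :=
    Finite.one_lt_card_iff_nontrivial.mp (by omega)
  rw [Monoid.exponent_eq_prime_iff Nat.prime_two]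
  rintro ⟨x, hx⟩ hx1
  rw [orderOf_mk]
  rcases (mem_inf_iff h huT hu hsT hs).mp hx with rfl | rfl | rfl | rfl
  · exact absurd rfl hx1
  · exact orderOf_sq hu
  · exact orderOf_eq_two h huT hu hsT hs
  · exact orderOf_eq_two h huT hu hx.1 hs'

theorem klein_eq {s : G} (hsT : s ∈ (T : Subgroup G)) (hs : s ∉ zpowers u) {U : Subgroup G}
    (hU : IsKleinFour U) (hUT : U ≤ T) :
    U = (T : Subgroup G) ⊓ centralizer {s} ∨ U = (T : Subgroup G) ⊓ centralizer {s * u} := by
  have key : ∀ a ∈ U, a ∉ zpowers u → ∀ V : Subgroup G, IsKleinFour V → V ≤ T → a ∈ V →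
      V = (T : Subgroup G) ⊓ centralizer {a} := fun a ha hau V hV hVT haV =>
    eq_of_le_of_card_ge (le_inf hVT fun x hx => mem_centralizer_singleton_iff.mpr
      (klein_comm hV hx haV)) (hV.card_four ▸ card_inf_le h huT hu (hUT ha) hau)
  obtain ⟨a, ha, hau⟩ : ∃ a ∈ U, a ∉ zpowers u := by
    by_contra hne
    push Not at hne
    have := eq_of_le_of_card_ge (hne : U ≤ zpowers u) (by rw [Nat.card_zpowers, hu, hU.card_four])
    have h1 := klein_sq hU (this.ge (mem_zpowers u))
    exact H4.ne_one_of_orderOf_two (orderOf_sq hu) (by rwa [pow_two])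
  have hsu : s * u ∉ zpowers u := fun h' => hs (by simpa using mul_mem h' (inv_mem (mem_zpowers u)))
  rw [key a ha hau U hU hUT ha]
  have h2 : s⁻¹ * a ∈ zpowers u := (mul_mem_iff_of_index_two (index_two h (U := zpowers u)
    (by rw [Nat.card_zpowers, hu]) (zpowers_le.mpr huT)) (a := ⟨s, hsT⟩⁻¹) (b := ⟨a, hUT ha⟩)).mpr
      ⟨fun h => absurd (inv_mem_iff.mp h) hs, fun h => absurd h hau⟩
  have h4 : u ^ 4 = 1 := hu ▸ pow_orderOf_eq_one u
  rcases eq_sq_of_mem hu h2 with h3 | h3 | h3 | h3 <;> rw [inv_mul_eq_iff_eq_mul] at h3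
  · left; rw [h3, mul_one]
  · right; rw [h3]
  · left
    exact (key a ha hau _ (klein_inf h huT hu hsT hs) inf_le_left
      ((mem_inf_iff h huT hu hsT hs).mpr (by simp [h3]))).symm
  · right
    refine (key a ha hau _ (klein_inf h huT hu (mul_mem hsT huT) hsu) inf_le_left
      ((mem_inf_iff h huT hu (mul_mem hsT huT) hsu).mpr (Or.inr (Or.inr (Or.inr ?_))))).symm
    rw [h3, mul_assoc, mul_right_inj, inv_eq_iff_mul_eq_one, ← h4]; group

theorem klein_ne {s : G} (hsT : s ∈ (T : Subgroup G)) (hs : s ∉ zpowers u) :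
    (T : Subgroup G) ⊓ centralizer {s} ≠ (T : Subgroup G) ⊓ centralizer {s * u} := fun he => by
  have h1 : s * u ∈ (T : Subgroup G) ⊓ centralizer {s} :=
    he ▸ ⟨mul_mem hsT huT, mem_centralizer_singleton_iff.mpr rfl⟩
  have h2 := mem_centralizer_singleton_iff.mp h1.2
  rw [mul_assoc, mul_right_inj] at h2
  exact not_comm_u h huT hu hsT hs h2

end Klein

theorem exists_kleins (T : Sylow 2 G) : ∃ U W : Subgroup G, U ≠ W ∧
    ∀ V : Subgroup G, (V ≤ T ∧ IsKleinFour V) ↔ V = U ∨ V = W := by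
  obtain ⟨u, huT, hu⟩ := exists_ord4 h T
  obtain ⟨s, hsT, hs⟩ := exists_not_mem h (T := T) hu
  have hsu : s * u ∉ zpowers u := fun h' => hs (by simpa using mul_mem h' (inv_mem (mem_zpowers u)))
  refine ⟨_, _, klein_ne h huT hu hsT hs, fun V => ⟨fun hV => klein_eq h huT hu hsT hs hV.2 hV.1, ?_⟩⟩
  rintro (rfl | rfl)
  · exact ⟨inf_le_left, klein_inf h huT hu hsT hs⟩
  · exact ⟨inf_le_left, klein_inf h huT hu (mul_mem hsT huT) hsu⟩

theorem klein_not_conj {T : Sylow 2 G} {U W : Subgroup G} (hUT : U ≤ T) (hWT : W ≤ T)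
    (hU : IsKleinFour U) (hW : IsKleinFour W) (hne : U ≠ W) (g : G) : cj g U ≠ W := by
  rintro rfl
  obtain ⟨n, hn, h1⟩ := burnside_fusion_subgroup T (le_normalizer_four h hU.card_four hUT)
    (le_normalizer_four h hW.card_four hWT)
  rw [N2 h] at hn
  exact hne ((cj_eq_self (le_normalizer_four h hU.card_four hUT hn)).symm.trans h1)

theorem klein_eq_of_normalizer_eq {U W : Subgroup G} (hU : IsKleinFour U) (hW : IsKleinFour W)
    (he : normalizer (U : Set G) = normalizer (W : Set G)) : U = W := by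
  obtain ⟨S, T, hST, hS, hT⟩ := klein_two_sylow h hU
  have key : ∀ R : Sylow 2 G, U ≤ R → W ≤ R := fun R hR =>
    ((isSylowIn_top R).of_le (le_normalizer_four h hU.card_four hR) le_top).le_of_le_normalizer
      (IsPGroup.of_card (p := 2) (n := 2) hW.card_four) (he ▸ le_normalizer)
      (he ▸ le_normalizer_four h hU.card_four hR)
  have h1 : Nat.card ↥((S : Subgroup G) ⊓ T) ≤ 4 := by
    have h1 : Nat.card ↥((S : Subgroup G) ⊓ T) ∣ 8 := card2 h S ▸ card_dvd_of_le inf_le_left
    have h2 : Nat.card ↥((S : Subgroup G) ⊓ T) ≠ 8 := fun h8 => by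
      have := eq_of_le_of_card_ge (inf_le_left : (S : Subgroup G) ⊓ T ≤ S) (by rw [h8, card2 h])
      exact hST (sylow_eq_of_le (this.ge.trans inf_le_right))
    have := Nat.le_of_dvd (by norm_num) h1
    generalize Nat.card ↥((S : Subgroup G) ⊓ T) = c at *
    interval_cases c <;> omega
  rw [eq_of_le_of_card_ge (le_inf hS hT) (hU.card_four ▸ h1),
    eq_of_le_of_card_ge (le_inf (key S hS) (key T hT)) (hW.card_four ▸ h1)]

theorem le_of_two {H : Subgroup G} (hH : IsPGroup 2 H) :
    ∃ U : Subgroup G, IsKleinFour U ∧ H ≤ normalizer (U : Set G) := by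
  obtain ⟨T, hT⟩ := hH.exists_le_sylow
  obtain ⟨U, W, -, h1⟩ := exists_kleins h T
  obtain ⟨h2, h3⟩ := (h1 U).mpr (Or.inl rfl)
  exact ⟨U, h3, hT.trans (le_normalizer_four h h3.card_four h2)⟩

theorem normalizer_le_of_two {Q : Subgroup G} (hQ : IsPGroup 2 Q) (hb : Q ≠ ⊥) :
    ∃ U : Subgroup G, IsKleinFour U ∧ normalizer (Q : Set G) ≤ normalizer (U : Set G) := by
  obtain ⟨T, hT⟩ := hQ.exists_le_sylow
  by_cases h8 : Nat.card Q = 8
  · rw [eq_of_le_of_card_ge hT (by rw [h8, card2 h]), N2 h]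
    exact le_of_two h T.2
  have h1 : Nat.card Q ∣ 2 ^ 3 := (card_dvd_of_le hT).trans (card2 h T).dvd
  obtain ⟨k, hk, hk2⟩ := (Nat.dvd_prime_pow Nat.prime_two).mp h1
  by_cases hc : IsCyclic Q
  · refine le_of_two h (IsPGroup.of_card_dvd_pow (n := 4) ?_)
    have h2 := relIndex_centralizer_dvd_totient Q
    obtain ⟨x, hx, hx1⟩ := (bot_or_exists_ne_one Q).resolve_left hb
    have h3 : orderOf x ∣ 8 := (Subgroup.orderOf_dvd_natCard _ (hT hx)).trans (card2 h T).dvd
    have h4 := (card_dvd_of_le (centralizer_le (Set.singleton_subset_iff.mpr hx))).trans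
      (cent_dvd h hx1 (fun h => by rw [h] at h3; omega) (fun h => by rw [h] at h3; omega))
    rw [← relIndex_centralizer_mul_card]
    refine (mul_dvd_mul (h2.trans ?_ : _ ∣ 2) h4).trans (by norm_num)
    rw [hk2] at h8 ⊢
    interval_cases k <;> first | decide | exact absurd rfl h8
  · refine ⟨Q, ?_, le_rfl⟩
    interval_cases k
    · exact absurd (card_eq_one.mp hk2) hb
    · exact absurd (isCyclic_of_prime_card (p := 2) hk2) hc
    · exact ⟨hk2, (not_isCyclic_iff_exponent_eq_prime Nat.prime_two hk2).mp hc⟩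
    · exact absurd hk2 h8

theorem normalizer3_le (P : Sylow 3 G) : ∃ U : Subgroup G, IsKleinFour U ∧
    normalizer ((P : Subgroup G) : Set G) ≤ normalizer (U : Set G) := by
  obtain ⟨U, hU, -⟩ := le_of_two h (IsPGroup.of_bot (p := 2) (G := G))
  obtain ⟨Q, hQ⟩ := exists_isSylowIn 3 (normalizer (U : Set G))
  have h1 : Nat.card Q = 3 := by
    rw [hQ.card_eq, card_normalizer_klein h hU]
    rw [show (24 : ℕ) = 3 * 8 by norm_num, Nat.factorization_mul (by norm_num) (by norm_num),
      Finsupp.add_apply, Nat.Prime.factorization_self Nat.prime_three,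
      Nat.factorization_eq_zero_of_not_dvd (by norm_num)]
    norm_num
  obtain ⟨g, -, hg⟩ := ((isSylowIn_top P).of_card_ge hQ.pgroup le_top
    (by rw [h1, card3 h])).exists_cj_eq (isSylowIn_top P)
  have hP : (P : Subgroup G) ≤ normalizer ((cj g U : Subgroup G) : Set G) := by
    rw [← hg, ← cj_normalizer]; exact cj_mono g hQ.le
  refine ⟨_, klein_cj hU g, ?_⟩
  have hN := card_normalizer_klein h (klein_cj hU g)
  set N := normalizer ((cj g U : Subgroup G) : Set G)
  have h2 := card_sylow_mul_card_normalizer (P.subtype hP)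
  have h3 := card_sylow_modEq_one 3 N
  have h4 := card_sylow_dvd_of (p := 3) (k := 1) (m := 8) hN (by norm_num)
  rw [Sylow.coe_subtype, ← subgroupOf_normalizer_eq hP, hN, ← inf_subgroupOf_right,
    Nat.card_congr (subgroupOfEquivOfLe inf_le_right).toEquiv] at h2
  refine (eq_of_le_of_card_ge (inf_le_left (b := N)) ?_).ge.trans inf_le_right
  rw [N3 h]
  have := Nat.le_of_dvd (by norm_num) h4
  unfold Nat.ModEq at h3
  generalize Nat.card (Sylow 3 N) = n at *
  interval_cases n <;> omega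

omit [IsSimpleGroup G] h in
theorem le_normalizer_of_card_sylow {p : ℕ} [Fact p.Prime]
    (hp : ∀ P : Sylow p G, Nat.card (P : Subgroup G) = p) {H : Subgroup G} (hd : p ∣ Nat.card H)
    (h1 : Nat.card (Sylow p H) = 1) :
    ∃ P : Sylow p G, H ≤ normalizer ((P : Subgroup G) : Set G) := by
  obtain ⟨Q, hQ⟩ := exists_isSylowIn p H
  obtain ⟨P, hP⟩ := hQ.pgroup.exists_le_sylow
  obtain rfl : Q = P := eq_of_le_of_card_ge hP
    ((hp P).le.trans (Nat.le_of_dvd Nat.card_pos (hQ.dvd_card_iff.mpr hd)))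
  refine ⟨P, fun x hx => cj_eq_self_iff.mp ?_⟩
  have : Subsingleton (Sylow p H) := (Nat.card_eq_one_iff_unique.mp h1).1
  have h2 := hQ.cj_of_mem_normalizer (le_normalizer hx)
  rw [← h2.map_toSylow, Subsingleton.elim h2.toSylow hQ.toSylow, hQ.map_toSylow]

theorem le_max {H : Subgroup G} (hH : H ≠ ⊤) :
    (∃ P : Sylow 7 G, H ≤ normalizer ((P : Subgroup G) : Set G)) ∨
      ∃ U : Subgroup G, IsKleinFour U ∧ H ≤ normalizer (U : Set G) := by
  have h1 := card_le h hH
  have h2 : Nat.card H ∣ 168 := h ▸ card_subgroup_dvd_card H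
  by_cases h7 : 7 ∣ Nat.card H
  · left
    refine le_normalizer_of_card_sylow (card7 h) h7 ?_
    obtain ⟨m, hm⟩ := h7
    have h3 := card_sylow_modEq_one 7 H
    have h0 : 0 < Nat.card H := Nat.card_pos
    have h4 := card_sylow_dvd_of (p := 7) (k := 1) (m := m) hm (by omega)
    have := Nat.le_of_dvd (by omega) h4
    unfold Nat.ModEq at h3
    omega
  right
  by_cases h3 : 3 ∣ Nat.card H
  swap
  · refine le_of_two h (IsPGroup.of_card_dvd_pow (n := 3) ?_)
    exact Nat.Coprime.dvd_of_dvd_mul_left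
      ((Nat.Prime.coprime_iff_not_dvd (by norm_num)).mpr h7).symm
      (Nat.Coprime.dvd_of_dvd_mul_left
        ((Nat.Prime.coprime_iff_not_dvd (by norm_num)).mpr h3).symm h2)
  by_cases h4 : 4 ∣ Nat.card H
  swap
  · obtain ⟨P, hP⟩ := le_normalizer_of_card_sylow (card3 h) h3 (by
      obtain ⟨m, hm⟩ := h3
      have h3 := card_sylow_modEq_one 3 H
      have hm2 : m = 1 ∨ m = 2 := by
        rw [hm] at h1 h2 h4 h7
        have : m ≤ 8 := by omega
        interval_cases m <;> omega
      have h4 := card_sylow_dvd_of (p := 3) (k := 1) (m := m) hm (by omega)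
      have := Nat.le_of_dvd (by omega) h4
      unfold Nat.ModEq at h3
      omega)
    obtain ⟨U, hU, h5⟩ := normalizer3_le h P
    exact ⟨U, hU, hP.trans h5⟩
  obtain ⟨S⟩ := (inferInstance : Nonempty (Sylow 2 H))
  have h5 : (S : Subgroup H).index = 3 := by
    have : Nat.card H = 12 ∨ Nat.card H = 24 := by omega
    rcases this with h6 | h6
    · exact sylow_index_of (k := 2) h6 (by norm_num) S
    · exact sylow_index_of (k := 3) h6 (by norm_num) S
  have h6 : (S : Subgroup H).normalCore.index ∣ 6 := by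
    rw [normalCore_eq_ker, index_ker]
    refine (card_subgroup_dvd_card _).trans ?_
    rw [Nat.card_perm, ← index, h5]; rfl
  obtain ⟨U, hU, h8⟩ := normalizer_le_of_two h
    (Q := (S : Subgroup H).normalCore.map H.subtype)
    ((S.2.to_le (normalCore_le _)).map _) (fun hb => by
      rw [map_eq_bot_iff_of_injective _ H.subtype_injective] at hb
      rw [hb, index_bot] at h6
      have := h4.trans h6
      omega)
  refine ⟨U, hU, le_trans ?_ h8⟩
  refine le_trans ?_ (le_normalizer_map _)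
  rw [normalizer_eq_top, ← MonoidHom.range_eq_map, range_subtype]

theorem isCoatom_klein {U : Subgroup G} (hU : IsKleinFour U) :
    IsCoatom (normalizer (U : Set G)) := by
  have h1 := card_normalizer_klein h hU
  refine ⟨fun ht => by rw [ht, card_top, h] at h1; omega, fun K hK => ?_⟩
  by_contra hne
  have := card_le h hne
  have := card_lt_of_lt hK
  omega

theorem coatom_eq {M : Subgroup G} (hM : IsCoatom M) :
    (∃ P : Sylow 7 G, M = normalizer ((P : Subgroup G) : Set G)) ∨
      ∃ U : Subgroup G, IsKleinFour U ∧ M = normalizer (U : Set G) := by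
  rcases le_max h hM.1 with ⟨P, hP⟩ | ⟨U, hU, h1⟩
  · refine Or.inl ⟨P, (hM.le_iff.mp hP).resolve_left (fun ht => ?_) |>.symm⟩
    have := N7 h P
    rw [ht, card_top, h] at this
    omega
  · exact Or.inr ⟨U, hU, (hM.le_iff.mp h1).resolve_left (isCoatom_klein h hU).1 |>.symm⟩

end Cfsg.Agent.H6.O168
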