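import Cfsg.Agent.H6.LemmaA
import Cfsg.Agent.H6.Small
import Cfsg.Agent.H9.BlockTools

/-!
# Groups with a Sylow subgroup of prime order: the set-up
-/

set_option autoImplicit false

namespace Cfsg.Agent.H6

open Finset Subgroup Cfsg.Agent.L0
open scoped ComplexConjugate

/-- `x` generates a Sylow `p`-subgroup, `K` is the `p`-complement of its centralizer and `A` is
the automizer. -/
structure Setup (p : ℕ) (G : Type*) [Group G] where
  x : G
  hx : orderOf x = p
  hidx : ¬ p ∣ (zpowers x).index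
  K : Subgroup G
  hK : ∀ g, g ∈ K ↔ g * x = x * g ∧ ¬ p ∣ orderOf g
  A : Subgroup (ZMod p)ˣ
  hA : ∀ a, a ∈ A ↔ IsConj x (x ^ (a : ZMod p).val)

variable {p : ℕ} {G : Type*} [Group G]

theorem pow_val_mul [NeZero p] {x : G} (hx : x ^ p = 1) (a b : ZMod p) :
    x ^ (a * b).val = (x ^ a.val) ^ b.val := by
  rw [ZMod.val_mul, ← pow_eq_pow_mod _ hx, pow_mul]

theorem exists_setup [Finite G] [hp : Fact p.Prime] {x : G} (hx : orderOf x = p)
    (h2 : ¬ p ^ 2 ∣ Nat.card G) : ∃ D : Setup p G, D.x = x := by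
  have hxp : x ^ p = 1 := hx ▸ pow_orderOf_eq_one x
  have hidx : ¬ p ∣ (zpowers x).index := fun h => h2 (by
    rw [← (zpowers x).card_mul_index, Nat.card_zpowers, hx, sq]
    exact Nat.mul_dvd_mul_left _ h)
  let C := centralizer ({x} : Set G)
  have hxC : x ∈ C := mem_centralizer_singleton_iff.mpr rfl
  have hz : ¬ p ∣ (center C).index := by
    intro h
    apply h2
    have h3 : p ∣ Nat.card (center C) := by
      have : (⟨x, hxC⟩ : C) ∈ center C := mem_center_iff.mpr fun g =>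
        Subtype.ext (mem_centralizer_singleton_iff.mp g.2)
      have h4 := orderOf_dvd_natCard (⟨_, this⟩ : center C)
      rwa [← orderOf_coe, ← orderOf_coe, hx] at h4
    refine dvd_trans ?_ (card_subgroup_dvd_card C)
    rw [← (center C).card_mul_index, sq]
    exact Nat.mul_dvd_mul h3 h
  let _ : CommGroup (center C) := { (inferInstance : Group (center C)) with
    mul_comm := fun a b => Subtype.ext (mem_center_iff.mp b.2 a) }
  let f := (powMonoidHom (α := center C) (zpowers x).index).comp (MonoidHom.transferCenterPow C)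
  have hf : ∀ g : C, g ∈ f.ker ↔ ¬ p ∣ orderOf (g : G) := by
    intro g
    have : g ∈ f.ker ↔ (g : G) ^ ((center C).index * (zpowers x).index) = 1 := by
      rw [MonoidHom.mem_ker, Subtype.ext_iff, Subtype.ext_iff, pow_mul]; rfl
    rw [this, ← orderOf_dvd_iff_pow_eq_one]
    constructor
    · intro h h1
      exact ((Nat.Prime.dvd_mul hp.out).mp (h1.trans h)).elim hz hidx
    · intro h
      have h1 := orderOf_dvd_natCard (g : G)
      rw [← (zpowers x).card_mul_index, Nat.card_zpowers, hx] at h1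
      exact (((Nat.Prime.coprime_iff_not_dvd hp.out).mpr h).symm.dvd_of_dvd_mul_left h1).mul_left _
  have hc : ∀ a b : (ZMod p)ˣ, IsConj x (x ^ (a : ZMod p).val) →
      IsConj (x ^ (b : ZMod p).val) (x ^ ((a * b : (ZMod p)ˣ) : ZMod p).val) := fun a b h => by
    rw [Units.val_mul, pow_val_mul hxp]
    exact h.pow _
  have h1 : x ^ (1 : ZMod p).val = x := by rw [ZMod.val_one, pow_one]
  refine ⟨⟨x, hx, hidx, f.ker.map C.subtype, fun g => ?_,
    { carrier := {a | IsConj x (x ^ (a : ZMod p).val)}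
      mul_mem' := fun {a b} ha hb => IsConj.trans hb (hc a b ha)
      one_mem' := by simp only [Set.mem_ofPred_eq, Units.val_one, h1, IsConj.refl]
      inv_mem' := fun {a} ha => by
        have := hc a a⁻¹ ha
        rw [mul_inv_cancel, Units.val_one, h1] at this
        exact this.symm }, fun _ => Iff.rfl⟩, rfl⟩
  constructor
  · rintro ⟨g, hg, rfl⟩
    exact ⟨mem_centralizer_singleton_iff.mp g.2, (hf g).mp hg⟩
  · rintro ⟨h3, h4⟩
    exact ⟨⟨g, mem_centralizer_singleton_iff.mpr h3⟩, (hf _).mpr h4, rfl⟩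

theorem nonempty_setup [Finite G] [hp : Fact p.Prime] (h1 : p ∣ Nat.card G)
    (h2 : ¬ p ^ 2 ∣ Nat.card G) : Nonempty (Setup p G) := by
  obtain ⟨x, hx⟩ := exists_prime_orderOf_dvd_card' p h1
  obtain ⟨D, -⟩ := exists_setup hx h2
  exact ⟨D⟩

namespace Setup

variable (D : Setup p G)

/-- Powers of `x` indexed by `ZMod p`. -/
def xp (i : ZMod p) : G := D.x ^ i.val

theorem x_pow : D.x ^ p = 1 := orderOf_dvd_iff_pow_eq_one.mp D.hx.dvd

theorem xp_natCast (n : ℕ) : D.xp n = D.x ^ n := by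
  rw [xp, ZMod.val_natCast, ← pow_eq_pow_mod _ D.x_pow]

theorem xp_zero : D.xp 0 = 1 := by rw [xp, ZMod.val_zero, pow_zero]

theorem xp_mem (i : ZMod p) : D.xp i ∈ zpowers D.x := npow_mem_zpowers _ _

theorem xp_pow (i : ZMod p) : D.xp i ^ p = 1 := by
  rw [xp, ← pow_mul, mul_comm, pow_mul, D.x_pow, one_pow]

theorem K_comm {k : G} (hk : k ∈ D.K) (i : ZMod p) : Commute k (D.xp i) :=
  Commute.pow_right ((D.hK k).mp hk).1 _

variable [hp : Fact p.Prime]

theorem xp_one : D.xp 1 = D.x := by rw [xp, ZMod.val_one, pow_one]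

theorem xp_add (i j : ZMod p) : D.xp (i + j) = D.xp i * D.xp j := by
  rw [xp, ZMod.val_add, ← pow_eq_pow_mod _ D.x_pow, pow_add]; rfl

theorem xp_mul (i j : ZMod p) : D.xp (i * j) = D.xp i ^ j.val := pow_val_mul D.x_pow i j

theorem xp_neg (i : ZMod p) : D.xp (-i) = (D.xp i)⁻¹ :=
  eq_inv_of_mul_eq_one_left (by rw [← xp_add, neg_add_cancel, xp_zero])

theorem xp_injective : Function.Injective D.xp := fun i j h =>
  ZMod.val_injective p (pow_injOn_Iio_orderOf (x := D.x) (by simpa [D.hx] using i.val_lt)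
    (by simpa [D.hx] using j.val_lt) h)

theorem xp_eq_one {i : ZMod p} : D.xp i = 1 ↔ i = 0 := by
  rw [← D.xp_zero, D.xp_injective.eq_iff]

theorem orderOf_xp {i : ZMod p} (hi : i ≠ 0) : orderOf (D.xp i) = p :=
  orderOf_eq_prime (D.xp_pow i) (mt D.xp_eq_one.mp hi)

theorem isPPart_xp {i : ZMod p} (hi : i ≠ 0) : IsPPart p (D.xp i) (D.xp i) :=
  isPPart_self hp.out ((D.orderOf_xp hi).trans (pow_one p).symm)

theorem exists_xp {u : G} (hu : u ∈ zpowers D.x) : ∃ i, D.xp i = u := by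
  obtain ⟨n, rfl⟩ := (IsOfFinOrder.mem_powers_iff_mem_zpowers
    (orderOf_pos_iff.mp (hp.out.pos.trans_eq D.hx.symm))).mpr hu
  exact ⟨n, D.xp_natCast n⟩

theorem xp_pow_inv {i : ZMod p} (hi : i ≠ 0) : D.xp i ^ i⁻¹.val = D.x := by
  rw [← xp_mul, mul_inv_cancel₀ hi, xp_one]

theorem comm_xp_iff {i : ZMod p} (hi : i ≠ 0) {g : G} :
    g * D.xp i = D.xp i * g ↔ g * D.x = D.x * g :=
  ⟨fun h => D.xp_pow_inv hi ▸ Commute.pow_right h _, fun h => Commute.pow_right h _⟩

theorem centralizer_xp {i : ZMod p} (hi : i ≠ 0) :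
    centralizer ({D.xp i} : Set G) = centralizer {D.x} := by
  ext g
  simp only [mem_centralizer_singleton_iff, D.comm_xp_iff hi]

theorem isConj_xp_iff {i j : ZMod p} (hi : i ≠ 0) :
    IsConj (D.xp i) (D.xp j) ↔ ∃ a ∈ D.A, j = a * i := by
  constructor
  · intro h
    have hj : j ≠ 0 := by
      rintro rfl
      rw [xp_zero, isConj_one_left, xp_eq_one] at h
      exact hi h
    refine ⟨Units.mk0 (j * i⁻¹) (mul_ne_zero hj (inv_ne_zero hi)), (D.hA _).mpr ?_, by simp [hi]⟩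
    have := h.pow i⁻¹.val
    rwa [D.xp_pow_inv hi, ← xp_mul] at this
  · rintro ⟨a, ha, rfl⟩
    rw [xp_mul]
    exact ((D.hA _).mp ha).pow _

theorem isConj_xp {a : (ZMod p)ˣ} (ha : a ∈ D.A) (i : ZMod p) :
    IsConj (D.xp i) (D.xp (a * i)) := by
  rw [xp_mul]
  exact ((D.hA _).mp ha).pow _

variable [Finite G]

theorem not_dvd_card_K : ¬ p ∣ Nat.card D.K :=
  H9.not_dvd_card_of_forall hp.out fun g hg => ((D.hK g).mp hg).2

omit hp [Finite G] in
theorem card_eq : Nat.card G = p * (zpowers D.x).index := by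
  rw [← (zpowers D.x).card_mul_index, Nat.card_zpowers, D.hx]

/-- The Sylow subgroup generated by `x`. -/
noncomputable def P : Sylow p G :=
  (isPGroup_zpowers ⟨1, by rw [pow_one, D.x_pow]⟩).toSylow D.hidx

omit [Finite G] in
theorem coe_P : (D.P : Subgroup G) = zpowers D.x := rfl

omit [Finite G] in
theorem card_P : Nat.card (D.P : Subgroup G) = p := by rw [coe_P, Nat.card_zpowers, D.hx]

theorem mem_of_comm {u : G} (hu : ∃ k, u ^ p ^ k = 1) (h : u * D.x = D.x * u) :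
    u ∈ zpowers D.x := by
  rw [← coe_P, ← smul_sylow_eq_iff_mem hu, Sylow.smul_eq_iff_mem_normalizer]
  apply centralizer_le_normalizer
  have := Fintype.ofFinite G
  change u ∈ centralizer (zpowers D.x : Set G)
  rw [centralizer_zpowers_eq]
  exact mem_centralizer_singleton_iff.mpr h

theorem exists_of_comm {g : G} (h : g * D.x = D.x * g) : ∃ i, ∃ k ∈ D.K, g = D.xp i * k := by
  obtain ⟨u, hu⟩ := exists_isPPart hp.out g
  obtain ⟨m, hm⟩ := IsPPart.exists_pow hp.out hu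
  obtain ⟨y, h1, -, ⟨k, h2⟩, h3⟩ := hu
  have h4 : Commute u D.x := hm ▸ Commute.pow_left h m
  obtain ⟨i, rfl⟩ := D.exists_xp (D.mem_of_comm ⟨k, h2 ▸ pow_orderOf_eq_one u⟩ h4)
  refine ⟨i, y, (D.hK y).mpr ⟨?_, h3⟩, h1.symm⟩
  rw [← inv_mul_cancel_left (D.xp i) y, h1]
  exact h4.inv_left.mul_left h

omit [Finite G] in
theorem eq_of_mul_eq {i j : ZMod p} {k l : G} (hk : k ∈ D.K) (hl : l ∈ D.K)
    (h : D.xp i * k = D.xp j * l) : i = j := by
  by_contra hij
  apply ((D.hK _).mp (mul_mem hl (inv_mem hk))).2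
  have : l * k⁻¹ = D.xp (i - j) := by
    rw [sub_eq_neg_add, xp_add, xp_neg, eq_inv_mul_iff_mul_eq, ← mul_assoc, ← h,
      mul_inv_cancel_right]
  rw [this, D.orderOf_xp (sub_ne_zero.mpr hij)]

theorem card_C : Nat.card (centralizer ({D.x} : Set G)) = p * Nat.card D.K := by
  rw [← show Nat.card (ZMod p × D.K) = p * Nat.card D.K by rw [Nat.card_prod, Nat.card_zmod],
    eq_comm]
  refine Nat.card_congr (Equiv.ofBijective (fun a : ZMod p × D.K => (⟨D.xp a.1 * a.2,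
    mem_centralizer_singleton_iff.mpr (Commute.mul_left (Commute.pow_left rfl _)
      ((D.hK _).mp a.2.2).1)⟩ : centralizer ({D.x} : Set G))) ⟨?_, ?_⟩)
  · rintro ⟨i, k⟩ ⟨j, l⟩ h
    have h1 := congrArg Subtype.val h
    obtain rfl := D.eq_of_mul_eq k.2 l.2 h1
    exact Prod.ext rfl (Subtype.ext (mul_left_cancel h1))
  · rintro ⟨g, hg⟩
    obtain ⟨i, k, hk, rfl⟩ := D.exists_of_comm (mem_centralizer_singleton_iff.mp hg)
    exact ⟨⟨i, k, hk⟩, rfl⟩

theorem mem_normalizer_iff_conj {n : G} :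
    n ∈ normalizer (zpowers D.x : Set G) ↔ n * D.x * n⁻¹ ∈ zpowers D.x := by
  refine ⟨fun h => (mem_normalizer_iff.mp h _).mp (mem_zpowers _), fun h => ?_⟩
  refine mem_normalizer_fintype fun u hu => ?_
  obtain ⟨i, rfl⟩ := D.exists_xp hu
  rw [xp, ← conj_pow]
  exact pow_mem h _

omit [Finite G] in
theorem exists_conj_eq {n : G} (h : n * D.x * n⁻¹ ∈ zpowers D.x) :
    ∃ a ∈ D.A, n * D.x * n⁻¹ = D.xp a := by
  obtain ⟨i, hi⟩ := D.exists_xp h
  obtain ⟨a, ha, h1⟩ := (D.isConj_xp_iff (j := i) one_ne_zero).mp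
    (by rw [xp_one, hi]; exact isConj_iff.mpr ⟨n, rfl⟩)
  exact ⟨a, ha, by rw [← hi, h1, mul_one]⟩

theorem card_N : Nat.card (normalizer (zpowers D.x : Set G)) =
    Nat.card D.A * (p * Nat.card D.K) := by
  choose g hg using fun a : D.A => isConj_iff.mp ((D.hA a).mp a.2)
  have h1 : ∀ (a : D.A) (c : centralizer ({D.x} : Set G)),
      g a * c * D.x * (g a * c)⁻¹ = D.xp (a : (ZMod p)ˣ) := fun a c => by
    rw [mul_assoc (g a), mem_centralizer_singleton_iff.mp c.2, xp, ← hg]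
    group
  rw [← card_C, ← Nat.card_prod, eq_comm]
  refine Nat.card_congr (Equiv.ofBijective (fun a : D.A × centralizer ({D.x} : Set G) =>
    (⟨g a.1 * a.2, D.mem_normalizer_iff_conj.mpr (h1 _ _ ▸ D.xp_mem _)⟩ :
      normalizer (zpowers D.x : Set G))) ⟨?_, ?_⟩)
  · rintro ⟨a, c⟩ ⟨b, d⟩ h
    have h2 : g a * c = g b * d := congrArg Subtype.val h
    obtain rfl : a = b := Subtype.ext (Units.ext (D.xp_injective (by rw [← h1 a c, h2, h1])))
    exact Prod.ext rfl (Subtype.ext (mul_left_cancel h2))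
  · rintro ⟨n, hn⟩
    obtain ⟨a, ha, h2⟩ := D.exists_conj_eq (D.mem_normalizer_iff_conj.mp hn)
    refine ⟨⟨⟨a, ha⟩, (g ⟨a, ha⟩)⁻¹ * n, mem_centralizer_singleton_iff.mpr ?_⟩,
      Subtype.ext (mul_inv_cancel_left _ _)⟩
    have h3 := (hg ⟨a, ha⟩).trans h2.symm
    rw [mul_assoc, inv_mul_eq_iff_eq_mul, ← mul_assoc, ← mul_assoc, h3, inv_mul_cancel_right]

theorem card_G : Nat.card G = Nat.card (Sylow p G) * (Nat.card D.A * (p * Nat.card D.K)) := by
  rw [← card_N, ← card_sylow_mul_card_normalizer D.P, coe_P]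

theorem index_C : (centralizer ({D.x} : Set G)).index = Nat.card (Sylow p G) * Nat.card D.A := by
  have h := (centralizer ({D.x} : Set G)).card_mul_index
  rw [card_C, D.card_G] at h
  have : 0 < p * Nat.card D.K := Nat.mul_pos hp.out.pos Nat.card_pos
  apply Nat.eq_of_mul_eq_mul_left this
  rw [h]; ring

omit [Finite G] in
theorem card_A_mul_index : Nat.card D.A * D.A.index = p - 1 := by
  rw [card_mul_index, Nat.card_eq_fintype_card, ZMod.card_units]

omit [Finite G] in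
theorem card_A_dvd : Nat.card D.A ∣ p - 1 := ⟨_, D.card_A_mul_index.symm⟩

omit hp [Finite G] in
theorem not_dvd_index_C : ¬ p ∣ (centralizer ({D.x} : Set G)).index := fun h =>
  D.hidx (h.trans (index_dvd_of_le (zpowers_le.mpr (mem_centralizer_singleton_iff.mpr rfl))))

theorem mem_normalizer_K {n : G} (hn : n ∈ normalizer (zpowers D.x : Set G)) :
    n ∈ normalizer (D.K : Set G) := by
  refine mem_normalizer_fintype fun k hk => (D.hK _).mpr ⟨?_, ?_⟩
  · obtain ⟨a, -, h⟩ := D.exists_conj_eq (D.mem_normalizer_iff_conj.mp (inv_mem hn))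
    have h1 := (D.K_comm hk a).eq
    rw [← h] at h1
    calc n * k * n⁻¹ * D.x = n * (k * (n⁻¹ * D.x * n⁻¹⁻¹)) * n⁻¹ := by group
      _ = _ := by rw [h1]; group
  · rw [← orderOf_eq_of_isConj (isConj_iff.mpr ⟨n, rfl⟩)]
    exact ((D.hK k).mp hk).2

theorem exists_nu : ∃ nu ∈ normalizer (zpowers D.x : Set G),
    (∀ n : G, n⁻¹ * D.x * n ∈ zpowers D.x → ∃ (j i : ℕ), ∃ k ∈ D.K, n = nu ^ j * D.x ^ i * k) ∧
    ∃ i : ℕ, ∃ k ∈ D.K, nu ^ p = nu * D.x ^ i * k := by
  obtain ⟨a, ha⟩ := IsCyclic.exists_monoid_generator (α := D.A)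
  obtain ⟨nu, hnu⟩ := isConj_iff.mp ((D.hA a).mp a.2)
  have h1 : ∀ j : ℕ, nu ^ j * D.x * (nu ^ j)⁻¹ = D.xp ((a : (ZMod p)ˣ) ^ j) := by
    intro j
    induction j with
    | zero => simp [xp_one]
    | succ j ih =>
      rw [pow_succ' (_ : ZMod p), xp_mul, xp, ← hnu, conj_pow, ← xp, ← ih, pow_succ']
      group
  refine ⟨nu, D.mem_normalizer_iff_conj.mpr (hnu ▸ D.xp_mem _), fun n hn => ?_, ?_⟩
  · obtain ⟨b, hb, h2⟩ := D.exists_conj_eq (D.mem_normalizer_iff_conj.mp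
      (inv_mem_iff.mp ((D.mem_normalizer_iff_conj (n := n⁻¹)).mpr (by rwa [inv_inv]))))
    obtain ⟨j, hj⟩ := ha ⟨b, hb⟩
    have h3 : ((a : (ZMod p)ˣ) : ZMod p) ^ j = b := by
      rw [← Units.val_pow_eq_pow_val, ← SubgroupClass.coe_pow]
      exact congrArg (fun c : D.A => ((c : (ZMod p)ˣ) : ZMod p)) hj
    have h4 := h1 j
    rw [h3, ← h2] at h4
    obtain ⟨i, k, hk, h5⟩ := D.exists_of_comm (g := (nu ^ j)⁻¹ * n) (by
      rw [mul_assoc, inv_mul_eq_iff_eq_mul, ← mul_assoc, ← mul_assoc, h4, inv_mul_cancel_right])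
    exact ⟨j, i.val, k, hk, by rw [mul_assoc, ← xp, ← h5, mul_inv_cancel_left]⟩
  · have h2 := h1 (p - 1)
    rw [ZMod.pow_card_sub_one_eq_one (Units.ne_zero _), xp_one, mul_inv_eq_iff_eq_mul] at h2
    obtain ⟨i, k, hk, h5⟩ := D.exists_of_comm h2
    exact ⟨i.val, k, hk, by
      rw [mul_assoc, ← xp, ← h5, ← pow_succ', Nat.sub_add_cancel hp.out.one_lt.le]⟩

theorem apply_mul {χ : IrrCharacter G} (hχ : χ ∈ prinBlk p G) {k : G} (hk : k ∈ D.K)
    {i : ZMod p} (hi : i ≠ 0) : χ.1 (k * D.xp i) = χ.1 (D.xp i) := by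
  have := Fintype.ofFinite G
  have hle : D.K ≤ centralizer {D.xp i} := fun k hk =>
    mem_centralizer_singleton_iff.mpr (D.K_comm hk i)
  refine prinBlk_apply_mul hp.out (D.isPPart_xp hi) hle ?_ D.not_dvd_card_K hk hχ
  rw [normal_subgroupOf_iff_le_normalizer hle, D.centralizer_xp hi, ← centralizer_zpowers_eq]
  exact fun n hn => D.mem_normalizer_K (centralizer_le_normalizer _ hn)

/-- The Galois conjugate of an irreducible character. -/
def gal (σ : ℂ →+* ℂ) (χ : IrrCharacter G) : IrrCharacter G :=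
  ⟨fun g => σ (χ.1 g), have := Fintype.ofFinite G; IsIrrCharacter.map_ringHom χ.2 σ⟩

omit hp in
theorem gal_apply (σ : ℂ →+* ℂ) (χ : IrrCharacter G) (g : G) : (gal σ χ).1 g = σ (χ.1 g) := rfl

omit hp in
theorem gal_injective (σ : ℂ →+* ℂ) : Function.Injective (gal (G := G) σ) := fun _ _ h =>
  Subtype.ext (funext fun g => σ.injective (congrFun (congrArg Subtype.val h) g))

omit hp in
theorem gal_mem {σ : ℂ →+* ℂ} {χ : IrrCharacter G} : gal σ χ ∈ prinBlk p G ↔ χ ∈ prinBlk p G :=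
  have := Fintype.ofFinite G
  map_mem_prinBlk_iff σ

omit [Finite G] in
theorem sum_Ico {M : Type*} [AddCommMonoid M] (f : G → M) :
    ∑ i ∈ Ico 1 p, f (D.x ^ i) = ∑ i ∈ univ.erase (0 : ZMod p), f (D.xp i) := by
  refine sum_bij (fun i _ => (i : ZMod p)) (fun i hi => ?_) (fun i hi j hj h => ?_)
    (fun i hi => ⟨i.val, ?_, by simp⟩) fun i _ => by rw [xp_natCast]
  · rw [mem_Ico] at hi
    simpa [ZMod.natCast_eq_zero_iff] using Nat.not_dvd_of_pos_of_lt hi.1 hi.2
  · have := congrArg ZMod.val h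
    rwa [ZMod.val_cast_of_lt (mem_Ico.mp hi).2, ZMod.val_cast_of_lt (mem_Ico.mp hj).2] at this
  · exact mem_Ico.mpr ⟨(ZMod.val_pos).mpr (mem_erase.mp hi).1, i.val_lt⟩

theorem bound (T : Finset (IrrCharacter G)) (hT : T ⊆ prinBlk p G)
    (hσ : ∀ σ, ∀ χ ∈ T, gal σ χ ∈ T) :
    ∃ n : ℕ, ‖∑ χ ∈ T, χ.1 1 * ∑ i ∈ univ.erase (0 : ZMod p), χ.1 (D.xp i)‖ ≤ (p - 1 : ℕ) * n ∧
      n ≤ ∑ χ ∈ T, deg χ ∧
      ((∀ χ ∈ T, ∀ ψ ∈ T, ∀ g, ¬ p ∣ orderOf g → χ.1 g = ψ.1 g) → ∀ χ ∈ T, n ≤ deg χ) := by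
  classical
  have := Fintype.ofFinite G
  have h1 : ∀ g : G, ∃ n : ℤ, ∑ χ ∈ T, χ.1 1 * χ.1 g⁻¹ = n := fun g =>
    exists_int_of_forall_ringHom (IsIntegral.sum _ fun χ _ =>
      (IsCharacter.isIntegral (IsIrrCharacter.isCharacter χ.2) _).mul
        (IsCharacter.isIntegral (IsIrrCharacter.isCharacter χ.2) _)) fun σ => by
      rw [map_sum]
      exact sum_bij (fun χ _ => gal σ χ) (hσ σ) (fun _ _ _ _ h => gal_injective σ h)
        (fun χ hχ => by
          obtain ⟨ψ, h1, h2⟩ := surj_on_of_inj_on_of_card_le (fun χ _ => gal σ χ) (hσ σ)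
            (fun _ _ _ _ h => gal_injective σ h) le_rfl χ hχ
          exact ⟨ψ, h1, h2.symm⟩) fun χ _ => map_mul σ _ _
  choose z hz using h1
  let e : MonoidAlgebra ℤ G := .ofCoeff (Finsupp.equivFunOnFinite.symm z)
  have he : ∀ g, (e.coeff g : ℂ) = Nat.card G * blkIdem T g := fun g => by
    rw [blkIdem_apply, mul_inv_cancel_left₀ (natCard_ne_zero G), hz]; rfl
  have hmul : ∀ a b : MonoidAlgebra ℤ G, ∀ g, ((a * b).coeff g : ℂ) =
      conv (fun g => a.coeff g) (fun g => b.coeff g) g := fun a b g => by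
    rw [MonoidAlgebra.coeff_mul_apply_left, Finsupp.sum_fintype _ _ (fun _ => zero_mul _),
      conv_apply]
    push_cast
    rfl
  obtain ⟨nu, h1, h2, h3⟩ := D.exists_nu
  let E : GreenData p G :=
    { x := D.x, K := D.K, nu := nu, e := e, hx := D.hx, hidx := D.hidx, hK := D.not_dvd_card_K
      hxK := fun k hk => ((D.hK k).mp hk).1, hN := h2, hnu := h1, hnuK := D.mem_normalizer_K h1
      hnup := h3
      comm := fun a => by
        ext g
        apply Int.cast_injective (α := ℂ)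
        rw [hmul, hmul, conv_comm_of_class (a := fun g => (e.coeff g : ℂ))]
        intro a b
        simp only [he, isClassFunction_blkIdem T a b]
      idem := by
        ext g
        apply Int.cast_injective (α := ℂ)
        rw [hmul, MonoidAlgebra.coeff_smul_apply, smul_eq_mul, Int.cast_mul, he,
          ← congrFun (conv_blkIdem_self T) g, conv_apply, conv_apply, mul_sum, mul_sum]
        refine sum_congr rfl fun h _ => ?_
        rw [he, he]; push_cast; ring }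
  obtain ⟨n, h4, h5⟩ := E.bound T fun g => (hz g).symm
  refine ⟨n, ?_, h5⟩
  have h6 : ∑ i ∈ Ico 1 p, ∑ k : D.K, ∑ χ ∈ T, χ.1 1 * χ.1 (k * D.x ^ i) =
      Nat.card D.K * ∑ χ ∈ T, χ.1 1 * ∑ i ∈ univ.erase (0 : ZMod p), χ.1 (D.xp i) := by
    rw [D.sum_Ico fun u => ∑ k : D.K, ∑ χ ∈ T, χ.1 1 * χ.1 (k * u)]
    simp only [mul_sum]
    rw [sum_comm]
    conv_rhs => rw [sum_comm]
    rw [sum_comm]
    refine sum_congr rfl fun i hi => ?_
    rw [sum_comm]
    refine sum_congr rfl fun χ hχ => ?_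
    rw [sum_congr rfl fun k _ => by rw [D.apply_mul (hT hχ) k.2 (mem_erase.mp hi).1], sum_const,
      card_univ, Nat.card_eq_fintype_card, nsmul_eq_mul]
  have h7 : ‖∑ i ∈ Ico 1 p, ∑ k : D.K, ∑ χ ∈ T, χ.1 1 * χ.1 (k * D.x ^ i)‖ ≤
    Nat.card D.K * ((p - 1 : ℕ) * n) := h4
  rw [h6, norm_mul, Complex.norm_natCast] at h7
  exact le_of_mul_le_mul_left h7 (Nat.cast_pos.mpr Nat.card_pos)

theorem sum_mul_conj {i j : ZMod p} (hi : i ≠ 0) (hj : j ≠ 0) :
    ∑ χ ∈ prinBlk p G, χ.1 (D.xp i) * conj (χ.1 (D.xp j)) =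
      open Classical in if IsConj (D.xp j) (D.xp i) then p else 0 := by
  classical
  have := Fintype.ofFinite G
  rw [← blkPart_indicator, H9.blkPart_prinBlk_eq_avg hp.out (x := D.xp i) (K := D.K)
    (fun g => by rw [D.hK, D.comm_xp_iff hi]) (isClassFunction_indicator_isConj _)
    (D.isPPart_xp hi), D.centralizer_xp hj, card_C, sum_eq_single 1]
  · have := natCard_ne_zero D.K
    simp only [OneMemClass.coe_one, one_mul]
    split_ifs
    · push_cast; field_simp
    · simp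
  · intro k _ hk
    rw [if_neg]
    intro h
    have h1 : (k * D.xp i) ^ p = 1 := by
      rw [← orderOf_dvd_iff_pow_eq_one, ← orderOf_eq_of_isConj h, D.orderOf_xp hj]
    rw [(D.K_comm k.2 i).mul_pow, xp_pow, mul_one] at h1
    have h2 := orderOf_eq_prime h1 (fun h => hk (Subtype.ext h))
    exact ((D.hK k).mp k.2).2 h2.symm.dvd
  · simp

theorem sum_mul_reg {i : ZMod p} (hi : i ≠ 0) {g : G} (hg : ¬ p ∣ orderOf g) :
    ∑ χ ∈ prinBlk p G, χ.1 g * conj (χ.1 (D.xp i)) = 0 :=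
  sum_prinBlk_mul_conj_eq_zero hp.out (isPPart_one_iff.mpr hg) (D.isPPart_xp hi) fun h =>
    hi (D.xp_eq_one.mp (isConj_one_right.mp h))

theorem apply_x_ne_zero {χ : IrrCharacter G} (hχ : χ ∈ prinBlk p G) : χ.1 D.x ≠ 0 := by
  have := Fintype.ofFinite G
  obtain ⟨O, hO⟩ := exists_valuationSubring hp.out
  intro h
  have h1 := (mem_prinBlk_iff_centralChar hp.out hO).mp hχ D.x
  rw [centralChar, h, mul_zero, zero_div, zero_sub, Valuation.map_neg] at h1
  exact D.not_dvd_index_C (dvd_of_val_natCast_lt hp.out hO h1)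

end Setup

end Cfsg.Agent.H6
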