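import Cfsg.Agent.H6.DefOne1

/-!
# Brauer's theorem on the principal block when the Sylow subgroup has prime order
-/

set_option autoImplicit false

namespace Cfsg.Agent.H6

open Finset Subgroup Cfsg.Agent.L0
open scoped ComplexConjugate

theorem exists_of_sum_sq_eq_two {I : Type*} [DecidableEq I] (s : Finset I) (v : I → ℤ) (w : I → ℕ)
    (hw : ∀ i, 0 < w i) (h1 : ∑ i ∈ s, v i ^ 2 = 2) (h2 : ∑ i ∈ s, v i * w i = 0) :
    ∃ a ∈ s, ∃ b ∈ s, a ≠ b ∧ ∀ i ∈ s, v i = (if i = a then 1 else 0) - if i = b then 1 else 0 := by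
  have h3 : ∃ a ∈ s, 0 < v a := by
    by_contra h
    push Not at h
    have h4 := (sum_eq_zero_iff_of_nonpos fun i hi =>
      mul_nonpos_of_nonpos_of_nonneg (h i hi) (Int.natCast_nonneg (w i))).mp h2
    rw [sum_eq_zero fun i hi => by
      rw [(mul_eq_zero.mp (h4 i hi)).resolve_right (by have := hw i; omega)]; rfl] at h1
    omega
  have h4 : ∃ b ∈ s, v b < 0 := by
    by_contra h
    push Not at h
    have h4 := (sum_eq_zero_iff_of_nonneg fun i hi =>
      mul_nonneg (h i hi) (Int.natCast_nonneg (w i))).mp h2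
    rw [sum_eq_zero fun i hi => by
      rw [(mul_eq_zero.mp (h4 i hi)).resolve_right (by have := hw i; omega)]; rfl] at h1
    omega
  obtain ⟨a, ha, hva⟩ := h3
  obtain ⟨b, hb, hvb⟩ := h4
  have hab : a ≠ b := fun h => by rw [h] at hva; omega
  rw [← add_sum_erase _ _ ha, ← add_sum_erase _ _ (mem_erase.mpr ⟨hab.symm, hb⟩)] at h1
  have h5 := sum_nonneg fun i (_ : i ∈ (s.erase a).erase b) => sq_nonneg (v i)
  have h6 : 1 ≤ v a ^ 2 := by nlinarith
  have h7 : 1 ≤ v b ^ 2 := by nlinarith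
  have h8 : v a = 1 := by nlinarith
  have h9 : v b = -1 := by nlinarith
  have h10 := (sum_eq_zero_iff_of_nonneg fun i (_ : i ∈ (s.erase a).erase b) =>
    sq_nonneg (v i)).mp (by omega)
  refine ⟨a, ha, b, hb, hab, fun i hi => ?_⟩
  by_cases hia : i = a
  · simp [hia, hab, h8]
  · by_cases hib : i = b
    · simp [hib, hab.symm, h9]
    · simpa [hia, hib] using h10 i (by simp [hia, hib, hi])

theorem exists_exceptional {I Q : Type*} [DecidableEq I] [Nonempty I] [Nontrivial Q] (s : Finset I)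
    (d : Q → I → ℤ) (w : I → ℕ) (hw : ∀ i, 0 < w i)
    (h1 : ∀ q r, q ≠ r → ∑ i ∈ s, (d q i - d r i) ^ 2 = 2)
    (h2 : ∀ q r, ∑ i ∈ s, (d q i - d r i) * w i = 0) :
    ∃ (ε : ℤ) (c : Q → I), (ε = 1 ∨ ε = -1) ∧ Function.Injective c ∧ (∀ q, c q ∈ s) ∧
      ∀ q r, ∀ i ∈ s, d q i - d r i =
        ε * ((if i = c q then 1 else 0) - if i = c r then 1 else 0) := by
  classical
  obtain ⟨q0, q1, h01⟩ := exists_pair_ne Q
  choose! a ha b hb hab hv using fun q (hq : q ≠ q0) =>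
    exists_of_sum_sq_eq_two s (fun i => d q i - d q0 i) w hw (h1 q q0 hq) (h2 q q0)
  have key : ∀ q r, q ≠ q0 → r ≠ q0 → q ≠ r → (a q = a r ∧ b q ≠ b r) ∨ (a q ≠ a r ∧ b q = b r) := by
    intro q r hq hr hqr
    have h3 := h1 q r hqr
    have h4 : ∀ i ∈ s, (d q i - d r i) ^ 2 = (d q i - d q0 i) ^ 2 + (d r i - d q0 i) ^ 2 -
        2 * ((d q i - d q0 i) * (d r i - d q0 i)) := fun i _ => by ring
    rw [sum_congr rfl h4, sum_sub_distrib, sum_add_distrib, h1 q q0 hq, h1 r q0 hr, ← mul_sum,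
      sum_congr rfl fun i hi => by rw [hv q hq i hi]] at h3
    simp only [sub_mul, ite_mul, one_mul, zero_mul, sum_sub_distrib, sum_ite_eq', ha q hq,
      hb q hq, if_true, hv r hr _ (ha q hq), hv r hr _ (hb q hq)] at h3
    have := hab q hq
    have := hab r hr
    split_ifs at h3 <;> simp_all
  by_cases hall : ∀ q r, q ≠ q0 → r ≠ q0 → b q = b r
  · refine ⟨1, fun q => if q = q0 then b q1 else a q, Or.inl rfl, fun q r h => ?_, fun q => ?_,
      fun q r i hi => ?_⟩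
    · by_contra hqr
      simp only at h
      split_ifs at h with h3 h4 h4
      · exact hqr (h3.trans h4.symm)
      · exact hab r h4 (h.symm.trans (hall _ _ h01.symm h4))
      · exact hab q h3 (h.trans (hall _ _ h01.symm h3))
      · exact (key q r h3 h4 hqr).elim (fun h5 => h5.2 (hall _ _ h3 h4)) fun h5 => h5.1 h
    · simp only
      split_ifs with h
      exacts [hb _ h01.symm, ha _ h]
    · have h5 : ∀ q, d q i - d q0 i = (if i = (if q = q0 then b q1 else a q) then 1 else 0) -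
          if i = b q1 then 1 else 0 := fun q => by
        by_cases h : q = q0
        · simp [h]
        · rw [hv q h i hi, if_neg h, hall _ _ h h01.symm]
      linear_combination h5 q - h5 r
  · push Not at hall
    obtain ⟨q2, r2, hq2, hr2, h3⟩ := hall
    have h4 : a q2 = a r2 := ((key q2 r2 hq2 hr2 fun h => h3 (h ▸ rfl)).resolve_right
      fun h => h3 h.2).1
    have hall : ∀ q, q ≠ q0 → a q = a q2 := fun q hq => by
      by_contra h
      have h5 := ((key q q2 hq hq2 fun h' => h (h' ▸ rfl)).resolve_left fun h' => h h'.1).2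
      have h6 := ((key q r2 hq hr2 fun h' => h (h' ▸ h4.symm)).resolve_left
        fun h' => h (h'.1.trans h4.symm)).2
      exact h3 (h5.symm.trans h6)
    refine ⟨-1, fun q => if q = q0 then a q2 else b q, Or.inr rfl, fun q r h => ?_, fun q => ?_,
      fun q r i hi => ?_⟩
    · by_contra hqr
      simp only at h
      split_ifs at h with h3 h4 h4
      · exact hqr (h3.trans h4.symm)
      · exact hab r h4 ((hall _ h4).trans h)
      · exact hab q h3 ((hall _ h3).trans h.symm)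
      · exact (key q r h3 h4 hqr).elim (fun h5 => h5.2 h)
          fun h5 => h5.1 ((hall _ h3).trans (hall _ h4).symm)
    · simp only
      split_ifs with h
      exacts [ha _ hq2, hb _ h]
    · have h5 : ∀ q, d q i - d q0 i = (if i = a q2 then 1 else 0) -
          (if i = (if q = q0 then a q2 else b q) then 1 else 0) := fun q => by
        by_cases h : q = q0
        · simp [h]
        · rw [hv q h i hi, if_neg h, hall _ h]
      linear_combination h5 q - h5 r

variable {p : ℕ} {G : Type*} [Group G] [hp : Fact p.Prime]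

/-- The standard additive character. -/
noncomputable abbrev ee (i : ZMod p) : ℂ := ZMod.stdAddChar i

theorem sum_ee (b : ZMod p) : ∑ i, ee (i * b) = if b = 0 then (p : ℂ) else 0 := by
  rw [AddChar.sum_mulShift b (ZMod.isPrimitive_stdAddChar p), ZMod.card]
  split_ifs <;> simp

theorem ee_add (i j : ZMod p) : ee (i + j) = ee i * ee j := AddChar.map_add_eq_mul _ _ _

theorem ee_zero : ee (0 : ZMod p) = 1 := AddChar.map_zero_eq_one _

theorem conj_ee (i : ZMod p) : conj (ee i) = ee (-i) := (AddChar.map_neg_eq_conj _ _).symm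

theorem sum_erase_ee {b : ZMod p} (hb : b ≠ 0) :
    ∑ i ∈ univ.erase (0 : ZMod p), ee (i * b) = -1 := by
  have := sum_ee b
  rw [if_neg hb, ← add_sum_erase _ _ (mem_univ 0), zero_mul, ee_zero] at this
  exact eq_neg_of_add_eq_zero_right this

theorem p_ne_zero : (p : ℂ) ≠ 0 := Nat.cast_ne_zero.mpr hp.out.ne_zero

namespace Setup

variable (D : Setup p G)

/-- The generalized decomposition numbers, as complex numbers. -/
noncomputable def dd (χ : G → ℂ) (b : ZMod p) : ℂ :=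
  (p : ℂ)⁻¹ * ∑ i, χ (D.xp i) * (ee (-(i * b)) - 1)

theorem exists_int_dd {χ : G → ℂ} (hχ : IsCharacter G χ) (b : ZMod p) :
    ∃ n : ℤ, D.dd χ b = n := by
  let f : Multiplicative (ZMod p) →* G :=
    { toFun := fun i => D.xp i.toAdd, map_one' := D.xp_zero, map_mul' := fun _ _ => D.xp_add _ _ }
  have h : ∀ b : ZMod p, ∃ n : ℕ, (p : ℂ)⁻¹ * ∑ i, χ (D.xp i) * ee (-(i * b)) = n := fun b => by
    obtain ⟨n, hn⟩ := IsCharacter.exists_nat_classInner (IsCharacter.comp hχ f)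
      (IsIrrCharacter.isCharacter (isIrrCharacter_of_monoidHom
        ((ZMod.stdAddChar (N := p)).mulShift b).toMonoidHom))
    refine ⟨n, ?_⟩
    rw [← hn, classInner_def, Nat.card_eq_fintype_card, Fintype.card_multiplicative, ZMod.card]
    congr 1
    refine Fintype.sum_equiv Multiplicative.ofAdd _ _ fun i => ?_
    rw [← conj_ee, mul_comm i]; rfl
  obtain ⟨m, hm⟩ := h b
  obtain ⟨n, hn⟩ := h 0
  refine ⟨m - n, ?_⟩
  simp only [mul_zero, neg_zero, ee_zero] at hn
  simp only [dd, mul_sub, sum_sub_distrib, hm, hn]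
  push_cast; rfl

/-- The generalized decomposition numbers. -/
noncomputable def d (χ : IrrCharacter G) (b : ZMod p) : ℤ :=
  (D.exists_int_dd (IsIrrCharacter.isCharacter χ.2) b).choose

theorem d_eq (χ : IrrCharacter G) (b : ZMod p) :
    (D.d χ b : ℂ) = (p : ℂ)⁻¹ * ∑ i ∈ univ.erase 0, χ.1 (D.xp i) * (ee (-(i * b)) - 1) := by
  rw [d, ← (D.exists_int_dd (IsIrrCharacter.isCharacter χ.2) b).choose_spec, dd,
    sum_erase _ (by simp)]

theorem d_zero (χ : IrrCharacter G) : D.d χ 0 = 0 := by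
  apply Int.cast_injective (α := ℂ)
  simp [d_eq]

theorem apply_xp (χ : IrrCharacter G) {i : ZMod p} (hi : i ≠ 0) :
    χ.1 (D.xp i) = ∑ b, D.d χ b * ee (b * i) := by
  simp only [d_eq, mul_assoc, sum_mul]
  rw [← mul_sum, sum_comm]
  have : ∀ j, ∑ b, χ.1 (D.xp j) * ((ee (-(j * b)) - 1) * ee (b * i)) =
      if j = i then χ.1 (D.xp j) * p else 0 := fun j => by
    have h1 : ∀ b, (ee (-(j * b)) - 1) * ee (b * i) = ee (b * (i - j)) - ee (b * i) := fun b => by
      rw [sub_mul, one_mul, ← ee_add]; congr 2; ring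
    simp only [h1]
    rw [← mul_sum, sum_sub_distrib, sum_ee, sum_ee, if_neg hi, sub_zero]
    simp only [sub_eq_zero, eq_comm (a := i), mul_ite, mul_zero]
  simp only [this, sum_ite_eq', mem_erase, hi, mem_univ, ne_eq, not_false_eq_true, and_self,
    if_true]
  have := p_ne_zero (p := p)
  field_simp

theorem sum_erase_mul {M : Type*} [AddCommMonoid M] (a : (ZMod p)ˣ) (f : ZMod p → M) :
    ∑ i ∈ univ.erase 0, f (a * i) = ∑ i ∈ univ.erase 0, f i :=
  sum_equiv (Units.mulLeft a) (fun i => by simp) fun _ _ => rfl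

theorem d_mul (χ : IrrCharacter G) {a : (ZMod p)ˣ} (ha : a ∈ D.A) (b : ZMod p) :
    D.d χ (a * b) = D.d χ b := by
  apply Int.cast_injective (α := ℂ)
  rw [d_eq, d_eq, ← sum_erase_mul a fun i => χ.1 (D.xp i) * (ee (-(i * b)) - 1)]
  congr 1
  refine sum_congr rfl fun i _ => ?_
  rw [IsClassFunction.eq_of_isConj (IsIrrCharacter.isClassFunction χ.2) (D.isConj_xp ha i),
    mul_left_comm, mul_assoc]

theorem d_of_const {χ : IrrCharacter G} {c : ℂ} (h : ∀ i ≠ 0, χ.1 (D.xp i) = c) {b : ZMod p}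
    (hb : b ≠ 0) : (D.d χ b : ℂ) = -c := by
  rw [d_eq, sum_congr rfl fun i hi => by rw [h i (mem_erase.mp hi).1, ← mul_neg], ← mul_sum,
    sum_sub_distrib, sum_erase_ee (neg_ne_zero.mpr hb), sum_const, card_erase_of_mem (mem_univ _),
    card_univ, ZMod.card, nsmul_one, Nat.cast_pred hp.out.pos]
  have := p_ne_zero (p := p)
  field_simp
  ring

theorem const_of_d {χ : IrrCharacter G} {c : ℤ} (h : ∀ b ≠ 0, D.d χ b = c) {i : ZMod p}
    (hi : i ≠ 0) : χ.1 (D.xp i) = -c := by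
  rw [D.apply_xp χ hi, ← add_sum_erase _ _ (mem_univ 0), d_zero, Int.cast_zero, zero_mul, zero_add,
    sum_congr rfl fun b hb => by rw [h b (mem_erase.mp hb).1], ← mul_sum, sum_erase_ee hi, mul_neg,
    mul_one]

theorem sum_apply_xp (χ : IrrCharacter G) :
    ∑ i ∈ univ.erase 0, χ.1 (D.xp i) = -∑ b ∈ univ.erase 0, (D.d χ b : ℂ) := by
  rw [sum_congr rfl fun i hi => D.apply_xp χ (mem_erase.mp hi).1, sum_comm,
    ← add_sum_erase _ _ (mem_univ 0), ← sum_neg_distrib]
  simp only [d_zero, Int.cast_zero, zero_mul, sum_const_zero, zero_add]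
  refine sum_congr rfl fun b hb => ?_
  simp only [mul_comm b]
  rw [← mul_sum, sum_erase_ee (mem_erase.mp hb).1, mul_neg, mul_one]

theorem conj_d_eq (χ : IrrCharacter G) (b : ZMod p) :
    (D.d χ b : ℂ) = (p : ℂ)⁻¹ * ∑ i ∈ univ.erase 0, conj (χ.1 (D.xp i)) * (ee (i * b) - 1) := by
  rw [← map_intCast (starRingEnd ℂ), d_eq]
  simp only [map_mul, map_inv₀, map_natCast, map_sum, map_sub, conj_ee, neg_neg, map_one]

variable [Finite G]

theorem sum_d_mul {g : G} (hg : ¬ p ∣ orderOf g) (b : ZMod p) :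
    ∑ χ ∈ prinBlk p G, D.d χ b * χ.1 g = 0 := by
  simp only [conj_d_eq, mul_assoc, sum_mul]
  rw [← mul_sum, sum_comm, sum_eq_zero, mul_zero]
  intro i hi
  have := D.sum_mul_reg (mem_erase.mp hi).1 hg
  rw [sum_congr rfl (g := fun χ => (ee (i * b) - 1) * (χ.1 g * conj (χ.1 (D.xp i))))
    fun χ _ => by ring, ← mul_sum, this, mul_zero]

open Classical in
theorem gram (b c : (ZMod p)ˣ) : ∑ χ ∈ prinBlk p G, D.d χ b * D.d χ c =
    Nat.card D.A + if (b : (ZMod p)ˣ ⧸ D.A) = c then 1 else 0 := by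
  apply Int.cast_injective (α := ℂ)
  push_cast
  have hp0 := p_ne_zero (p := p)
  have h1 : ∀ χ : IrrCharacter G, (D.d χ b : ℂ) * D.d χ c = (p : ℂ)⁻¹ * (p : ℂ)⁻¹ *
      ∑ j ∈ univ.erase (0 : ZMod p), ∑ i ∈ univ.erase (0 : ZMod p),
        (ee (-(i * (b : ZMod p))) - 1) * (ee (j * (c : ZMod p)) - 1) *
        (χ.1 (D.xp i) * conj (χ.1 (D.xp j))) := fun χ => by
    rw [d_eq, conj_d_eq, mul_mul_mul_comm, sum_mul_sum, sum_comm]
    congr 1
    exact sum_congr rfl fun _ _ => sum_congr rfl fun _ _ => by ring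
  simp only [h1]
  rw [← mul_sum, sum_comm]
  have h2 : ∀ j ∈ univ.erase (0 : ZMod p), ∑ χ ∈ prinBlk p G, ∑ i ∈ univ.erase (0 : ZMod p),
      (ee (-(i * (b : ZMod p))) - 1) * (ee (j * (c : ZMod p)) - 1) * (χ.1 (D.xp i) * conj (χ.1 (D.xp j))) =
      p * ∑ a : D.A, (ee (-(((a : (ZMod p)ˣ) : ZMod p) * j * (b : ZMod p))) - 1) * (ee (j * (c : ZMod p)) - 1) := by
    intro j hj
    have hj0 := (mem_erase.mp hj).1
    rw [sum_comm, sum_congr rfl fun i hi => by
      rw [← mul_sum, D.sum_mul_conj (mem_erase.mp hi).1 hj0, D.isConj_xp_iff hj0]]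
    simp only [Nat.cast_ite, Nat.cast_zero, mul_ite, mul_zero]
    rw [← sum_filter, mul_sum]
    symm
    refine sum_bij (fun a _ => ((a : (ZMod p)ˣ) : ZMod p) * j) (fun a _ => ?_) (fun a _ a' _ h => ?_)
      (fun i hi => ?_) fun a _ => mul_comm _ _
    · exact mem_filter.mpr ⟨by simp [hj0], a, a.2, rfl⟩
    · exact Subtype.ext (Units.ext (mul_right_cancel₀ hj0 h))
    · obtain ⟨a, ha, rfl⟩ := (mem_filter.mp hi).2
      exact ⟨⟨a, ha⟩, mem_univ _, rfl⟩
  rw [sum_congr rfl h2, ← mul_sum, sum_comm]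
  have h3 : ∀ a : D.A, ∑ j ∈ univ.erase (0 : ZMod p),
      (ee (-(((a : (ZMod p)ˣ) : ZMod p) * j * (b : ZMod p))) - 1) * (ee (j * (c : ZMod p)) - 1) =
      p * (1 + if b * a = c then 1 else 0) := fun a => by
    rw [sum_erase _ (by simp)]
    have h4 : ∀ j : ZMod p, (ee (-(((a : (ZMod p)ˣ) : ZMod p) * j * (b : ZMod p))) - 1) * (ee (j * (c : ZMod p)) - 1) =
        ee (j * ((c : ZMod p) - ((b * a : (ZMod p)ˣ) : ZMod p))) -
          ee (j * (-((b * a : (ZMod p)ˣ) : ZMod p))) - ee (j * (c : ZMod p)) + 1 :=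
      fun j => by
        rw [mul_sub j, sub_eq_add_neg (j * (c : ZMod p)), ee_add, Units.val_mul, mul_neg, mul_comm (b : ZMod p),
          ← mul_assoc, mul_comm j (a : (ZMod p)ˣ)]
        ring
    simp only [h4]
    rw [sum_add_distrib, sum_sub_distrib, sum_sub_distrib, sum_ee, sum_ee, sum_ee,
      if_neg (Units.ne_zero c), if_neg (neg_ne_zero.mpr (Units.ne_zero _)), sum_const, card_univ,
      ZMod.card]
    simp only [sub_eq_zero, Units.val_inj, eq_comm (a := c)]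
    split_ifs
    · simp; ring
    · simp
  simp only [h3]
  rw [← mul_sum, sum_add_distrib, sum_const, card_univ, ← Nat.card_eq_fintype_card, nsmul_one]
  have h5 : ∑ a : D.A, (if b * a = c then (1 : ℂ) else 0) =
      if (b : (ZMod p)ˣ ⧸ D.A) = c then 1 else 0 := by
    split_ifs with h
    · rw [sum_eq_single ⟨_, QuotientGroup.eq.mp h⟩, if_pos (mul_inv_cancel_left _ _)]
      · intro a _ ha
        exact if_neg fun h => ha (Subtype.ext (eq_inv_mul_of_mul_eq h))
      · simp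
    · exact sum_eq_zero fun a _ => if_neg fun h' => h (by
        rw [← h', QuotientGroup.mk_mul_of_mem b a.2])
  rw [h5]
  field_simp

theorem d_of_const_eq {χ : IrrCharacter G} (hχ : χ ∈ prinBlk p G) {c : ℤ}
    (h : ∀ b ≠ 0, D.d χ b = c) : c = 1 ∨ c = -1 := by
  classical
  have h0 : c ≠ 0 := by
    rintro rfl
    apply D.apply_x_ne_zero hχ
    rw [← D.xp_one, D.const_of_d h one_ne_zero, Int.cast_zero, neg_zero]
  let T := (prinBlk p G).filter fun ψ => ∀ i ≠ 0, ψ.1 (D.xp i) = -(c : ℂ)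
  obtain ⟨n, h1, h2, -⟩ := D.bound T (filter_subset _ _) fun σ ψ hψ =>
    mem_filter.mpr ⟨gal_mem.mpr (mem_filter.mp hψ).1, fun i hi => by
      rw [gal_apply, (mem_filter.mp hψ).2 i hi, map_neg, map_intCast]⟩
  rw [sum_congr rfl fun ψ hψ => by
    rw [sum_congr rfl fun i hi => (mem_filter.mp hψ).2 i (mem_erase.mp hi).1, deg_eq],
    ← sum_mul, sum_const, card_erase_of_mem (mem_univ _), card_univ, ZMod.card, ← Nat.cast_sum,
    nsmul_eq_mul, norm_mul, norm_mul, norm_neg, Complex.norm_natCast, Complex.norm_natCast,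
    Complex.norm_intCast] at h1
  have h3 : 0 < ∑ ψ ∈ T, deg ψ := sum_pos (fun ψ _ => deg_pos ψ)
    ⟨χ, mem_filter.mpr ⟨hχ, fun i hi => D.const_of_d h hi⟩⟩
  have h4 : 0 < p - 1 := Nat.sub_pos_of_lt hp.out.one_lt
  have h5 : ((∑ ψ ∈ T, deg ψ : ℕ) : ℤ) * ((p - 1 : ℕ) * |c|) ≤ (p - 1 : ℕ) * n := by
    exact_mod_cast h1
  have h6 : |c| ≤ 1 := by
    by_contra h7
    have h8 : ((p - 1 : ℕ) : ℤ) * n ≤ (p - 1 : ℕ) * (∑ ψ ∈ T, deg ψ : ℕ) := by
      exact_mod_cast Nat.mul_le_mul_left _ h2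
    have h9 : (0 : ℤ) < ((∑ ψ ∈ T, deg ψ : ℕ) : ℤ) * (p - 1 : ℕ) := by
      exact_mod_cast Nat.mul_pos h3 h4
    nlinarith
  rw [abs_le] at h6
  omega

omit [Finite G] in
theorem d_congr (χ : IrrCharacter G) {b c : (ZMod p)ˣ} (h : (b : (ZMod p)ˣ ⧸ D.A) = c) :
    D.d χ b = D.d χ c := by
  rw [← D.d_mul χ (QuotientGroup.eq.mp h), ← Units.val_mul, mul_comm, mul_inv_cancel_left]

end Setup

open Classical in
/-- The structure of the principal block. -/
structure Brauer [Finite G] (D : Setup p G) where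
  S : Finset (IrrCharacter G)
  c : (ZMod p)ˣ ⧸ D.A → IrrCharacter G
  δ : IrrCharacter G → ℤ
  δ0 : ℤ
  inj : Function.Injective c
  one_mem : irrOne G ∈ S
  not_mem : ∀ q, c q ∉ S
  mem_iff : ∀ χ, χ ∈ prinBlk p G ↔ χ ∈ S ∨ ∃ q, c q = χ
  hδ : ∀ χ ∈ S, δ χ = 1 ∨ δ χ = -1
  hδ0 : δ0 = 1 ∨ δ0 = -1
  d_S : ∀ χ ∈ S, ∀ b ≠ 0, D.d χ b = -δ χ
  d_c : ∀ q (b : (ZMod p)ˣ), D.d (c q) b = if (b : (ZMod p)ˣ ⧸ D.A) = q then -δ0 else 0

namespace Setup

variable (D : Setup p G) [Finite G]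

omit [Finite G] in
theorem d_irrOne {b : ZMod p} (hb : b ≠ 0) : D.d (irrOne G) b = -1 := by
  apply Int.cast_injective (α := ℂ)
  rw [D.d_of_const (c := 1) (fun _ _ => rfl) hb]; simp

theorem nonempty_brauer_of_subsingleton [Subsingleton ((ZMod p)ˣ ⧸ D.A)] :
    Nonempty (Brauer D) := by
  classical
  have h1 : ∀ χ, ∀ b ≠ 0, D.d χ b = D.d χ 1 := fun χ b hb =>
    D.d_congr χ (b := Units.mk0 b hb) (c := 1) (Subsingleton.elim _ _)
  have h2 : ∀ χ ∈ prinBlk p G, D.d χ 1 = 1 ∨ D.d χ 1 = -1 := fun χ hχ =>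
    D.d_of_const_eq hχ (h1 χ)
  have h3 := D.gram 1 1
  rw [if_pos rfl, Units.val_one, sum_congr rfl (g := fun _ => 1) fun χ hχ => by
    rcases h2 χ hχ with h | h <;> simp [h], sum_const, nsmul_one] at h3
  have h4 : 1 < (prinBlk p G).card := by
    have := Nat.card_pos (α := D.A)
    omega
  obtain ⟨χ0, h5, h6⟩ := exists_mem_ne h4 (irrOne G)
  refine ⟨⟨(prinBlk p G).erase χ0, fun _ => χ0, fun χ => -D.d χ 1, -D.d χ0 1,
    Function.injective_of_subsingleton _, mem_erase.mpr ⟨h6.symm, irrOne_mem_prinBlk hp.out⟩,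
    fun _ => notMem_erase _ _, fun χ => ?_, fun χ hχ => ?_, ?_, fun χ _ b hb => ?_,
    fun q b => ?_⟩⟩
  · by_cases h : χ = χ0
    · simp [h, h5]
    · simp [h, Ne.symm h]
  · rcases h2 χ (mem_of_mem_erase hχ) with h | h <;> simp [h]
  · rcases h2 χ0 h5 with h | h <;> simp [h]
  · rw [neg_neg, h1 χ b hb]
  · rw [if_pos (Subsingleton.elim _ _), neg_neg, h1 _ _ b.ne_zero]

theorem nonempty_brauer_of_nontrivial [Nontrivial ((ZMod p)ˣ ⧸ D.A)] :
    Nonempty (Brauer D) := by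
  classical
  have : Nonempty (IrrCharacter G) := ⟨irrOne G⟩
  have hg : ∀ q r : (ZMod p)ˣ ⧸ D.A, ∑ χ ∈ prinBlk p G, D.d χ q.out * D.d χ r.out =
      Nat.card D.A + if q = r then 1 else 0 := fun q r => by
    rw [D.gram, QuotientGroup.out_eq', QuotientGroup.out_eq']
  obtain ⟨ε, c, hε, hc, hcB, hd⟩ := exists_exceptional (prinBlk p G)
    (fun (q : (ZMod p)ˣ ⧸ D.A) χ => D.d χ q.out) deg deg_pos (fun q r h => by
      rw [sum_congr rfl (g := fun χ => D.d χ q.out * D.d χ q.out + D.d χ r.out * D.d χ r.out -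
        2 * (D.d χ q.out * D.d χ r.out)) fun χ _ => by ring, sum_sub_distrib, sum_add_distrib,
        ← mul_sum, hg, hg, hg, if_pos rfl, if_pos rfl, if_neg h]
      ring) (fun q r => by
      apply Int.cast_injective (α := ℂ)
      have h1 : ¬ p ∣ orderOf (1 : G) := by rw [orderOf_one, Nat.dvd_one]; exact hp.out.ne_one
      push_cast
      simp only [← deg_eq, sub_mul, sum_sub_distrib, D.sum_d_mul h1, sub_self])
  have hout : ∀ χ (b : (ZMod p)ˣ), D.d χ b = D.d χ (b : (ZMod p)ˣ ⧸ D.A).out := fun χ b =>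
    D.d_congr χ (QuotientGroup.out_eq' _).symm
  let X := univ.image c
  let S := prinBlk p G \ X
  have hS : ∀ χ ∈ S, ∀ b ≠ 0, D.d χ b = D.d χ 1 := fun χ hχ b hb => by
    have h1 : ∀ q, χ ≠ c q := fun q h => (mem_sdiff.mp hχ).2 (h ▸ mem_image_of_mem _ (mem_univ _))
    have := hd (Units.mk0 b hb) (1 : (ZMod p)ˣ) χ (mem_sdiff.mp hχ).1
    rwa [if_neg (h1 _), if_neg (h1 _), sub_self, mul_zero, sub_eq_zero, ← hout, ← hout] at this
  have hS1 : ∀ χ ∈ S, D.d χ 1 = 1 ∨ D.d χ 1 = -1 := fun χ hχ =>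
    D.d_of_const_eq (mem_sdiff.mp hχ).1 (hS χ hχ)
  have hX : X ⊆ prinBlk p G := fun χ hχ => by
    obtain ⟨q, -, rfl⟩ := mem_image.mp hχ
    exact hcB q
  let a := fun r => D.d (c r) r.out - ε
  have ha : ∀ q r, D.d (c r) q.out = a r + if q = r then ε else 0 := fun q r => by
    have := hd q r _ (hcB r)
    simp only [hc.eq_iff, if_true, eq_comm (a := r)] at this
    split_ifs at this ⊢ <;> simp only [a] <;> linarith
  have hsum : ∀ f : IrrCharacter G → ℤ,
      ∑ χ ∈ prinBlk p G, f χ = ∑ χ ∈ S, f χ + ∑ q, f (c q) := fun f => by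
    rw [← sum_sdiff hX, sum_image fun _ _ _ _ h => hc h]
  have hε2 : ε * ε = 1 := by rcases hε with h | h <;> simp [h]
  have ha2 : ∀ q, 2 * ε * a q = Nat.card D.A - S.card - ∑ r, a r * a r := fun q => by
    have := hg q q
    rw [hsum, sum_congr rfl (g := fun _ => 1) fun χ hχ => by
      rw [hS χ hχ _ q.out.ne_zero]; rcases hS1 χ hχ with h | h <;> simp [h], sum_const,
      sum_congr rfl (g := fun r => a r * a r + if q = r then 2 * ε * a r + 1 else 0) fun r _ => by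
        rw [ha]; split_ifs <;> linarith, sum_add_distrib, sum_ite_eq, if_pos rfl,
      if_pos (mem_univ _), nsmul_one] at this
    linarith
  obtain ⟨q0, q1, h01⟩ := exists_pair_ne ((ZMod p)ˣ ⧸ D.A)
  have ha3 : ∀ q, a q = a q0 := fun q => by
    have := (ha2 q).trans (ha2 q0).symm
    rcases hε with h | h <;> rw [h] at this <;> linarith
  simp only [ha3] at ha
  generalize a q0 = a0 at ha
  have hreg : ∀ q r g, ¬ p ∣ orderOf g → (c q).1 g = (c r).1 g := fun q r g hg => by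
    have h1 := D.sum_d_mul hg q.out
    have h2 := D.sum_d_mul hg r.out
    have h3 : ∑ χ ∈ prinBlk p G, ((D.d χ q.out - D.d χ r.out : ℤ) : ℂ) * χ.1 g = 0 := by
      simp only [Int.cast_sub, sub_mul, sum_sub_distrib, h1, h2, sub_self]
    rw [sum_congr rfl fun χ hχ => by rw [hd q r χ hχ]] at h3
    push_cast at h3
    simp only [mul_assoc, ← mul_sum, sub_mul, ite_mul, one_mul, zero_mul, sum_sub_distrib,
      sum_ite_eq', hcB, if_true, mul_eq_zero, Int.cast_eq_zero, sub_eq_zero] at h3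
    exact h3.resolve_left (by rcases hε with h | h <;> simp [h])
  have hnc : ∀ χ ∈ prinBlk p G, χ ∈ X ↔ ¬ ∀ i ≠ 0, χ.1 (D.xp i) = χ.1 D.x := fun χ hχ => by
    constructor
    · intro h h1
      obtain ⟨q, -, rfl⟩ := mem_image.mp h
      obtain ⟨r, hr⟩ := exists_ne q
      have h2 := (D.d_of_const h1 q.out.ne_zero).trans (D.d_of_const h1 r.out.ne_zero).symm
      rw [Int.cast_inj, ha, ha, if_pos rfl, if_neg hr] at h2
      rcases hε with h | h <;> omega
    · intro h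
      by_contra h1
      have h2 := fun i => D.const_of_d (hS χ (mem_sdiff.mpr ⟨hχ, h1⟩)) (i := i)
      exact h fun i hi => by rw [h2 i hi, ← D.xp_one, h2 1 one_ne_zero]
  obtain ⟨n, h1, -, h2⟩ := D.bound X hX fun σ χ hχ => by
    rw [hnc _ (gal_mem.mpr (hX hχ))]
    rw [hnc _ (hX hχ)] at hχ
    exact fun h => hχ fun i hi => σ.injective (h i hi)
  have h3 : n ≤ deg (c q0) := h2 (fun χ hχ ψ hψ => by
    obtain ⟨q, -, rfl⟩ := mem_image.mp hχ
    obtain ⟨r, -, rfl⟩ := mem_image.mp hψ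
    exact hreg q r) _ (mem_image_of_mem _ (mem_univ _))
  have h4 : ∑ χ ∈ X, χ.1 1 * ∑ i ∈ univ.erase (0 : ZMod p), χ.1 (D.xp i) =
      -(deg (c q0) * ((p - 1 : ℕ) * ((Fintype.card ((ZMod p)ˣ ⧸ D.A) * a0 + ε : ℤ) : ℂ))) := by
    have h5 : ¬ p ∣ orderOf (1 : G) := by rw [orderOf_one, Nat.dvd_one]; exact hp.out.ne_one
    rw [sum_image fun _ _ _ _ h => hc h, sum_congr rfl fun q _ => by
      rw [hreg q q0 1 h5, D.sum_apply_xp], ← mul_sum, sum_neg_distrib, mul_neg, deg_eq, sum_comm,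
      sum_congr rfl (g := fun _ => ((Fintype.card ((ZMod p)ˣ ⧸ D.A) * a0 + ε : ℤ) : ℂ)), sum_const,
      card_erase_of_mem (mem_univ _), card_univ, ZMod.card, nsmul_eq_mul]
    intro b hb
    rw [← Int.cast_sum, sum_congr rfl fun q _ => by
      rw [show b = Units.mk0 b (mem_erase.mp hb).1 from rfl, hout, ha], sum_add_distrib, sum_const,
      sum_ite_eq, if_pos (mem_univ _), card_univ, nsmul_eq_mul]
  rw [h4, norm_neg, norm_mul, norm_mul, Complex.norm_natCast, Complex.norm_natCast,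
    Complex.norm_intCast] at h1
  have h5 : (deg (c q0) : ℤ) * ((p - 1 : ℕ) * |Fintype.card ((ZMod p)ˣ ⧸ D.A) * a0 + ε|) ≤
      (p - 1 : ℕ) * n := by exact_mod_cast h1
  have h6 : |Fintype.card ((ZMod p)ˣ ⧸ D.A) * a0 + ε| ≤ 1 := by
    by_contra h7
    have h8 : ((p - 1 : ℕ) : ℤ) * n ≤ (p - 1 : ℕ) * (deg (c q0) : ℕ) := by
      exact_mod_cast Nat.mul_le_mul_left _ h3
    have h9 : (0 : ℤ) < (deg (c q0) : ℤ) * (p - 1 : ℕ) := by
      exact_mod_cast Nat.mul_pos (deg_pos _) (Nat.sub_pos_of_lt hp.out.one_lt)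
    nlinarith
  have h7 : 2 ≤ Fintype.card ((ZMod p)ˣ ⧸ D.A) := Fintype.one_lt_card
  have hone : irrOne G ∈ S := mem_sdiff.mpr ⟨irrOne_mem_prinBlk hp.out, fun h =>
    (hnc _ (irrOne_mem_prinBlk hp.out)).mp h fun _ _ => rfl⟩
  have hfin : ∀ (τ : Equiv.Perm ((ZMod p)ˣ ⧸ D.A)) (δ0 : ℤ), (δ0 = 1 ∨ δ0 = -1) →
      (∀ q r, (a0 + if q = τ r then ε else 0) = if q = r then -δ0 else 0) →
      Nonempty (Brauer D) := fun τ δ0 h8 h9 =>
    ⟨⟨S, fun q => c (τ q), fun χ => -D.d χ 1, δ0, hc.comp τ.injective, hone,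
      fun q h => (mem_sdiff.mp h).2 (mem_image_of_mem _ (mem_univ _)), fun χ => by
        refine ⟨fun h => ?_, fun h => h.elim (fun h => (mem_sdiff.mp h).1)
          fun ⟨q, h⟩ => h ▸ hcB _⟩
        by_cases h1 : χ ∈ X
        · obtain ⟨q, -, rfl⟩ := mem_image.mp h1
          exact Or.inr ⟨τ.symm q, by rw [Equiv.apply_symm_apply]⟩
        · exact Or.inl (mem_sdiff.mpr ⟨h, h1⟩),
      fun χ hχ => by rcases hS1 χ hχ with h | h <;> simp [h], h8,
      fun χ hχ b hb => by rw [neg_neg, hS χ hχ b hb], fun q b => by rw [hout, ha, h9]⟩⟩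
  rw [abs_le] at h6
  by_cases h8 : a0 = 0
  · exact hfin 1 (-ε) (by rcases hε with h | h <;> simp [h]) fun q r => by
      by_cases h : q = r <;> simp [h8, h]
  · have h9 : Fintype.card ((ZMod p)ˣ ⧸ D.A) = 2 ∧ a0 = -ε := by
      generalize Fintype.card ((ZMod p)ˣ ⧸ D.A) = t at h6 h7
      have h10 : (2 : ℤ) ≤ t := by exact_mod_cast h7
      have h11 : a0 ≤ -1 ∨ 1 ≤ a0 := by omega
      rcases hε with rfl | rfl <;> rcases h11 with h11 | h11
      · have : a0 = -1 := by nlinarith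
        subst this; omega
      · nlinarith
      · nlinarith
      · have : a0 = 1 := by nlinarith
        subst this; omega
    have h10 : ∀ q, q = q0 ∨ q = q1 := fun q => by
      have : ({q0, q1} : Finset _) = univ := eq_univ_of_card _ (by rw [card_pair h01, h9.1])
      have h11 : q ∈ ({q0, q1} : Finset _) := this ▸ mem_univ q
      simpa using h11
    refine hfin (Equiv.swap q0 q1) ε hε fun q r => ?_
    rcases h10 q with rfl | rfl <;> rcases h10 r with rfl | rfl <;> simp [h9.2, h01, h01.symm]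

theorem nonempty_brauer : Nonempty (Brauer D) := by
  rcases subsingleton_or_nontrivial ((ZMod p)ˣ ⧸ D.A) with h | h
  exacts [D.nonempty_brauer_of_subsingleton, D.nonempty_brauer_of_nontrivial]

end Setup

end Cfsg.Agent.H6
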