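import Cfsg.Agent.H6.DefOne2
import Cfsg.Agent.L0.Char6

/-!
# Consequences of Brauer's theorem on blocks of defect one
-/

set_option autoImplicit false

namespace Cfsg.Agent.H6

open Finset Subgroup Cfsg.Agent.L0
open scoped ComplexConjugate

variable {p : ℕ} {G : Type*} [Group G]

theorem irr_isChar (χ : IrrCharacter G) : IsCharacter G χ.1 := IsIrrCharacter.isCharacter χ.2

theorem irr_isGen (χ : IrrCharacter G) : IsGeneralizedCharacter G χ.1 :=
  IsIrrCharacter.isGeneralized χ.2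

theorem irr_isClass (χ : IrrCharacter G) : IsClassFunction G χ.1 :=
  IsIrrCharacter.isClassFunction χ.2

theorem ker_eq_bot [Finite G] [IsSimpleGroup G] {χ : IrrCharacter G} (h : χ ≠ irrOne G) :
    charKer χ.1 = ⊥ :=
  IsIrrCharacter.charKer_eq_bot_of_isSimpleGroup χ.2 fun h1 => h (Subtype.ext h1)

theorem two_le_deg (hG : commutator G = ⊤) {χ : IrrCharacter G} (h : χ ≠ irrOne G) :
    2 ≤ deg χ := by
  by_contra h1
  have h2 : deg χ = 1 := by have := deg_pos χ; omega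
  exact h (Subtype.ext (eq_one_of_apply_one_of_commutator_eq_top (irr_isChar χ)
    (by rw [deg_eq, h2, Nat.cast_one]) hG))

theorem sum_deg_sq [Finite G] : ∑ χ : IrrCharacter G, deg χ ^ 2 = Nat.card G := by
  have := sum_irr_degree_sq (G := G)
  simp only [deg_eq] at this
  exact_mod_cast this

/-- Eigenvalues, with product one, in a perfect group. -/
theorem exists_eigen_det [Finite G] (hG : commutator G = ⊤) {χ : G → ℂ} (h : IsCharacter G χ)
    (g : G) : ∃ (n : ℕ) (ε : Fin n → ℂ), χ 1 = n ∧ (∀ i, ε i ^ orderOf g = 1) ∧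
      (∀ k : ℕ, χ (g ^ k) = ∑ i, ε i ^ k) ∧ ∏ i, ε i = 1 := by
  classical
  obtain ⟨n, ρ, rfl⟩ := h
  have hm : (orderOf g : ℂ) ≠ 0 := Nat.cast_ne_zero.mpr (orderOf_pos g).ne'
  have h1 : Module.End.IsSemisimple (ρ g) :=
    Module.End.isSemisimple_of_squarefree_aeval_eq_zero
      (Polynomial.separable_X_pow_sub_C (1 : ℂ) hm one_ne_zero).squarefree
      (by rw [map_sub, Polynomial.aeval_X_pow, ← map_pow, pow_orderOf_eq_one, map_one, map_one,
        map_one, sub_self])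
  let D := DirectSum.isInternal_submodule_of_iSupIndep_of_iSup_eq_top
    (Module.End.eigenspaces_iSupIndep (ρ g)) h1.iSup_eigenspace_eq_top
  let v := D.collectedBasis fun μ ↦ Module.finBasis ℂ (Module.End.eigenspace (ρ g) μ)
  let e := v.indexEquiv (Pi.basisFun ℂ (Fin n))
  let b := v.reindex e
  let μ := fun i => (e.symm i).1
  have hb : ∀ i, ρ g (b i) = μ i • b i := fun i => by
    rw [Module.Basis.reindex_apply]
    exact Module.End.mem_eigenspace_iff.mp (D.collectedBasis_mem _ _)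
  have hk : ∀ (k : ℕ) i, ρ (g ^ k) (b i) = μ i ^ k • b i := fun k i => by
    induction k with
    | zero => simp
    | succ k ih => rw [pow_succ', map_mul, Module.End.mul_apply, ih, map_smul, hb, smul_smul,
        pow_succ]
  have hM : ∀ k : ℕ, LinearMap.toMatrix b b (ρ (g ^ k)) = Matrix.diagonal fun i => μ i ^ k :=
    fun k => by
      ext i j
      rw [LinearMap.toMatrix_apply, hk]
      by_cases h : i = j
      · simp [h]
      · simp [h]
  refine ⟨n, μ, by simp [Representation.char_one], fun i => ?_, fun k => ?_, ?_⟩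
  · have := hk (orderOf g) i
    rw [pow_orderOf_eq_one, map_one, Module.End.one_apply] at this
    exact (smul_left_injective ℂ (b.ne_zero i) ((one_smul ℂ _).trans this)).symm
  · rw [Representation.character, LinearMap.trace_eq_matrix_trace ℂ b, hM, Matrix.trace_diagonal]
  · have h2 : g ∈ (LinearMap.det.comp ρ).toHomUnits.ker :=
      Abelianization.commutator_subset_ker _ (hG ▸ mem_top g)
    have h3 : LinearMap.det (ρ g) = 1 := congrArg Units.val h2
    rw [← LinearMap.det_toMatrix b, ← pow_one g, hM, Matrix.det_diagonal] at h3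
    simpa using h3

theorem sum_pow_root {z : ℂ} {r : ℕ} (h : z ^ r = 1) :
    ∑ l ∈ range r, z ^ l = if z = 1 then (r : ℂ) else 0 := by
  split_ifs with h1
  · simp [h1]
  · have := mul_geom_sum z r
    rw [h, sub_self] at this
    exact (mul_eq_zero.mp this).resolve_left (sub_ne_zero.mpr h1)

theorem apply_ne_zero_of_mem_prinBlk [Finite G] {q : ℕ} (hq : q.Prime) {χ : IrrCharacter G}
    (hχ : χ ∈ prinBlk q G) {z : G} (hz : ¬ q ∣ (centralizer ({z} : Set G)).index) :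
    χ.1 z ≠ 0 := by
  have := Fintype.ofFinite G
  obtain ⟨O, hO⟩ := exists_valuationSubring hq
  intro h
  have h1 := (mem_prinBlk_iff_centralChar hq hO).mp hχ z
  rw [centralChar, h, mul_zero, zero_div, zero_sub, Valuation.map_neg] at h1
  exact hz (dvd_of_val_natCast_lt hq hO h1)

theorem not_mem_prinBlk_of_coprime [Finite G] [IsSimpleGroup G] (hG : ¬ IsMulCommutative G)
    {q : ℕ} (hq : q.Prime) {χ : IrrCharacter G} (h1 : χ ≠ irrOne G) {z : G} (hz1 : z ≠ 1)
    (hz : ¬ q ∣ (centralizer ({z} : Set G)).index)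
    (hc : (deg χ).Coprime (centralizer ({z} : Set G)).index) : χ ∉ prinBlk q G := fun hχ => by
  have h2 := (IsIrrCharacter.eq_zero_or_mem_charCenter χ.2 (deg_eq χ) hc).resolve_left
    (apply_ne_zero_of_mem_prinBlk hq hχ hz)
  have h3 := IsCharacter.charCenter_le_center (irr_isClass χ) (ker_eq_bot h1) h2
  exact centralizer_ne_top_of_simple hG hz1 (centralizer_eq_top_iff_subset.mpr (by simpa using h3))

theorem exists_central_in_sylow [Finite G] {q : ℕ} (hq : q.Prime) (hd : q ∣ Nat.card G) :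
    ∃ z : G, orderOf z = q ∧ ¬ q ∣ (centralizer ({z} : Set G)).index := by
  have := Fact.mk hq
  obtain ⟨Q⟩ := (inferInstance : Nonempty (Sylow q G))
  have : Nontrivial (Q : Subgroup G) := (nontrivial_iff_ne_bot _).mpr (Q.ne_bot_of_dvd_card hd)
  have h1 := Q.isPGroup'.center_nontrivial
  obtain ⟨k, hk0, hk⟩ := (Q.isPGroup'.to_subgroup (center Q)).nontrivial_iff_card.mp h1
  obtain ⟨z, hz⟩ := exists_prime_orderOf_dvd_card' (G := center (Q : Subgroup G)) q
    (hk ▸ dvd_pow_self q hk0.ne')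
  refine ⟨z, by rw [orderOf_coe, orderOf_coe, hz], fun h => Q.not_dvd_index (h.trans ?_)⟩
  refine index_dvd_of_le fun g hg => mem_centralizer_singleton_iff.mpr ?_
  exact congrArg Subtype.val (mem_center_iff.mp z.2 ⟨g, hg⟩)

theorem not_mem_prinBlk_of_dvd_pow [Finite G] [IsSimpleGroup G] (hG : ¬ IsMulCommutative G)
    {q b : ℕ} (hq : q.Prime) {χ : IrrCharacter G} (h1 : χ ≠ irrOne G) (hd : deg χ ∣ q ^ b) :
    χ ∉ prinBlk q G := by
  have h2 : q ∣ Nat.card G := by
    obtain ⟨c, -, hc⟩ := (Nat.dvd_prime_pow hq).mp hd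
    have h3 := two_le_deg (perfect_of_simple hG) h1
    refine dvd_trans (dvd_pow_self q ?_) (hc ▸ deg_dvd χ)
    rintro rfl
    rw [pow_zero] at hc
    omega
  obtain ⟨z, hz1, hz⟩ := exists_central_in_sylow hq h2
  refine not_mem_prinBlk_of_coprime hG hq h1 (fun h => ?_) hz
    ((((Nat.Prime.coprime_iff_not_dvd hq).mpr hz).pow_left b).coprime_dvd_left hd)
  rw [h, orderOf_one] at hz1
  exact hq.one_lt.ne hz1

open Classical in
theorem blkPart_sum_smul [Fintype G] (B T : Finset (IrrCharacter G)) (z : IrrCharacter G → ℂ)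
    (g : G) : blkPart B (∑ χ ∈ T, z χ • χ.1) g = ∑ χ ∈ T with χ ∈ B, z χ * χ.1 g := by
  simp only [blkPart_apply, classInner_sum_left, classInner_smul_left, classInner_irr, mul_ite,
    mul_one, mul_zero, sum_ite_eq', ite_mul, zero_mul, ← sum_filter]
  congr 1
  ext χ
  simp [and_comm]

variable [hp : Fact p.Prime]

theorem ee_mul (a i : ZMod p) : ee (i * a) = ee a ^ i.val := by
  rw [← AddChar.map_nsmul_eq_pow, nsmul_eq_mul, ZMod.natCast_zmod_val]

theorem exists_ee {z : ℂ} (h : z ^ p = 1) : ∃ a : ZMod p, ee a = z := by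
  obtain ⟨i, -, hi⟩ := (Complex.isPrimitiveRoot_exp p hp.out.ne_zero).eq_pow_of_pow_eq_one h
  refine ⟨(i : ℤ), ?_⟩
  rw [ee, ZMod.stdAddChar_coe, ← hi, ← Complex.exp_nat_mul]
  congr 1
  push_cast
  ring

theorem sum_units {M : Type*} [AddCommMonoid M] (f : ZMod p → M) :
    ∑ b : (ZMod p)ˣ, f b = ∑ i ∈ univ.erase 0, f i :=
  sum_bij (fun b _ => (b : ZMod p)) (fun b _ => by simp) (fun _ _ _ _ h => Units.ext h)
    (fun i hi => ⟨Units.mk0 i (mem_erase.mp hi).1, mem_univ _, rfl⟩) fun _ _ => rfl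

open Classical in
theorem card_fiber {H : Type*} [Group H] [Fintype H] {A : Subgroup H} (q : H ⧸ A) :
    (univ.filter fun b : H => (b : H ⧸ A) = q).card = Nat.card A := by
  rw [Nat.card_eq_fintype_card, ← card_univ]
  symm
  refine card_bij (fun a _ => q.out * a) (fun a _ => ?_) (fun a _ b _ h => ?_) fun b hb => ?_
  · simp [QuotientGroup.mk_mul_of_mem _ a.2]
  · exact Subtype.ext (mul_left_cancel h)
  · exact ⟨⟨q.out⁻¹ * b, QuotientGroup.eq.mp (q.out_eq'.trans (mem_filter.mp hb).2.symm)⟩,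
      mem_univ _, mul_inv_cancel_left _ _⟩

variable [Finite G]

namespace Setup

variable (D : Setup p G)

theorem exists_conj_of_dvd {g : G} (hg : p ∣ orderOf g) :
    ∃ i ≠ 0, ∃ k ∈ D.K, IsConj g (k * D.xp i) := by
  obtain ⟨u, hu⟩ := exists_isPPart hp.out g
  have hu1 := IsPPart.ne_one_of_dvd hu hg
  obtain ⟨Q, hQ⟩ := exists_sylow_mem (p := p) (x := u) (by
    obtain ⟨-, -, -, ⟨k, h⟩, -⟩ := hu
    exact ⟨k, h ▸ pow_orderOf_eq_one u⟩)
  obtain ⟨a, ha⟩ := MulAction.exists_smul_eq G Q D.P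
  have h1 : a * u * a⁻¹ ∈ zpowers D.x := by
    rw [← coe_P, ← ha, coe_smul_sylow]
    exact ⟨u, hQ, rfl⟩
  obtain ⟨i, hi⟩ := D.exists_xp h1
  have hi0 : i ≠ 0 := by
    rintro rfl
    rw [xp_zero, eq_comm, mul_inv_eq_one, mul_eq_left] at hi
    exact hu1 hi
  obtain ⟨y, h2, h3, -, h4⟩ := IsPPart.conj hu a
  rw [← hi] at h2 h3
  exact ⟨i, hi0, y, (D.hK y).mpr ⟨(D.comm_xp_iff hi0).mp h3.symm.eq, h4⟩,
    isConj_iff.mpr ⟨a, by rw [← h2, h3.eq]⟩⟩

theorem not_dvd_orderOf {q : ℕ} (hq : q.Prime) (hqp : q ≠ p) (hK : ¬ q ∣ Nat.card D.K) {g : G}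
    (hg : q ∣ orderOf g) : ¬ p ∣ orderOf g := fun h => by
  obtain ⟨i, hi, k, hk, h1⟩ := D.exists_conj_of_dvd h
  rw [orderOf_eq_of_isConj h1] at hg
  rcases (Nat.Prime.dvd_mul hq).mp (hg.trans (D.K_comm hk i).orderOf_mul_dvd_mul_orderOf) with h | h
  · exact hK (h.trans (D.K.orderOf_dvd_natCard hk))
  · rw [D.orderOf_xp hi, Nat.prime_dvd_prime_iff_eq hq hp.out] at h
    exact hqp h

open Classical in
/-- The Brauer–Tuan congruence. -/
theorem brauer_tuan_of {q : ℕ} [hq : Fact q.Prime] {Γ : Type*} [LinearOrderedCommGroupWithZero Γ]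
    {v : Valuation ℂ Γ} (hv : v q < 1) {B : Finset (IrrCharacter G)}
    (hB : haveI := Fintype.ofFinite G; IsBlkUnion v B) (Q : Subgroup G)
    (hQ : ∀ y ∈ Q, y ≠ 1 → (∃ k, orderOf y = q ^ k) ∧
      ∀ h z, IsPPart q h z → IsConj y z → ¬ p ∣ orderOf h) (b : ZMod p) :
    (Nat.card Q : ℤ) ∣ ∑ χ ∈ prinBlk p G with χ ∈ B, D.d χ b * deg χ := by
  let _ := Fintype.ofFinite G
  let θ : G → ℂ := ∑ χ ∈ prinBlk p G, (D.d χ b : ℂ) • χ.1
  let ψ : G → ℂ := ∑ χ ∈ prinBlk p G with χ ∈ B, D.d χ b • χ.1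
  have h1 : ∀ g, ψ g = blkPart B θ g := fun g => by
    rw [blkPart_sum_smul]
    simp [ψ]
  have h0 : IsGeneralizedCharacter G ψ :=
    isGeneralized_sum _ _ fun χ _ => IsGeneralizedCharacter.zsmul (irr_isGen χ) (D.d χ b)
  refine IsGeneralizedCharacter.card_dvd_of_vanish (IsGeneralizedCharacter.restrict h0 Q)
    (by simp [ψ, deg_eq]; congr) fun y hy => ?_
  obtain ⟨⟨k, hk⟩, h2⟩ := hQ y y.2 fun h => hy (Subtype.ext h)
  refine (h1 y).trans (hB.blkPart_eq_zero hq.out hv (fun h z h3 h4 => ?_) (isPPart_self hq.out hk))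
  simpa [θ] using D.sum_d_mul (h2 h z h3 h4) b

open Classical in
theorem brauer_tuan {q a : ℕ} (hq : q.Prime) (hqp : q ≠ p) (hK : ¬ q ∣ Nat.card D.K)
    (ha : q ^ a ∣ Nat.card G) (b : ZMod p) :
    ((q ^ a : ℕ) : ℤ) ∣ ∑ χ ∈ prinBlk p G with χ ∈ prinBlk q G, D.d χ b * deg χ := by
  have := Fact.mk hq
  obtain ⟨O, hO⟩ := exists_valuationSubring hq
  obtain ⟨Q, hQ⟩ := Sylow.exists_subgroup_card_pow_prime q ha
  rw [← hQ]
  refine D.brauer_tuan_of hO (@isBlkUnion_prinBlk _ _ _ _ _ _ (Fintype.ofFinite G) hq hO) Q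
    (fun y hy hy1 => ?_) b
  have h1 : ∃ k, orderOf y = q ^ k := by
    have := orderOf_dvd_natCard (⟨y, hy⟩ : Q)
    rw [hQ, orderOf_mk] at this
    obtain ⟨k, -, hk⟩ := (Nat.dvd_prime_pow hq).mp this
    exact ⟨k, hk⟩
  refine ⟨h1, fun h z h2 h3 => D.not_dvd_orderOf hq hqp hK ?_⟩
  by_contra h4
  rw [IsPPart.unique hq h2 (isPPart_one_iff.mpr h4), isConj_one_left] at h3
  exact hy1 h3

/-- Stanton's condition. -/
theorem stanton (hG : commutator G = ⊤) {χ : IrrCharacter G} (hχ : χ ∈ prinBlk p G)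
    (hk : ¬ D.K ≤ charKer χ.1) (b : ZMod p) :
    2 * p + ∑ c, D.d χ c ≤ deg χ + p * D.d χ b := by
  classical
  obtain ⟨k, hkK, hk⟩ := SetLike.not_le_iff_exists.mp hk
  rw [IsCharacter.mem_charKer_iff (irr_isChar χ)] at hk
  have hc : Commute k D.x := ((D.hK k).mp hkK).1
  set r := orderOf k with hr
  have hco : r.Coprime p := ((Nat.Prime.coprime_iff_not_dvd hp.out).mpr ((D.hK k).mp hkK).2).symm
  obtain ⟨n, ε, h1, h2, h3, h4⟩ := exists_eigen_det hG (irr_isChar χ) (k * D.x)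
  rw [hc.orderOf_mul_eq_mul_orderOf_of_coprime (by rwa [D.hx]), D.hx, ← hr] at h2
  obtain ⟨u, hu1, hu2⟩ := Nat.chineseRemainder hco 0 1
  obtain ⟨v, hv1, hv2⟩ := Nat.chineseRemainder hco 1 0
  have hu : (k * D.x) ^ u = D.x := by
    rw [hc.mul_pow, pow_eq_pow_iff_modEq.mpr hu1, pow_zero, one_mul,
      pow_eq_pow_iff_modEq.mpr (hu2.of_dvd D.hx.dvd), pow_one]
  have hv : (k * D.x) ^ v = k := by
    rw [hc.mul_pow, pow_eq_pow_iff_modEq.mpr hv1, pow_one,
      pow_eq_pow_iff_modEq.mpr (hv2.of_dvd D.hx.dvd), pow_zero, mul_one]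
  let α := fun j => ε j ^ u
  let β := fun j => ε j ^ v
  have hα : ∀ j, α j ^ p = 1 := fun j => by
    obtain ⟨w, hw⟩ := Nat.modEq_zero_iff_dvd.mp hu1
    simp only [α, ← pow_mul, hw, mul_right_comm r w p]
    rw [pow_mul, h2, one_pow]
  have hβ : ∀ j, β j ^ r = 1 := fun j => by
    obtain ⟨w, hw⟩ := Nat.modEq_zero_iff_dvd.mp hv2
    simp only [β, ← pow_mul, hw, mul_right_comm p w r, mul_comm p r]
    rw [pow_mul, h2, one_pow]
  have h5 : ∀ l i : ℕ, χ.1 (k ^ l * D.x ^ i) = ∑ j, β j ^ l * α j ^ i := fun l i => by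
    have := h3 (v * l + u * i)
    simpa only [pow_add, pow_mul, hu, hv] using this
  have hr0 : (r : ℂ) ≠ 0 := Nat.cast_ne_zero.mpr (orderOf_pos k).ne'
  have hp0 := p_ne_zero (p := p)
  have h6 : ∀ γ : ℂ, γ ^ r = 1 → ∀ i ≠ 0, ∑ j with β j = γ, α j ^ (i : ZMod p).val =
      if γ = 1 then χ.1 (D.xp i) else 0 := fun γ hγ i hi => by
    have hγ0 : γ ≠ 0 := by
      rintro rfl
      rw [zero_pow (orderOf_pos k).ne'] at hγ
      exact zero_ne_one hγ
    have h7 : ∑ l ∈ range r, γ⁻¹ ^ l * χ.1 (k ^ l * D.xp i) =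
        r * ∑ j with β j = γ, α j ^ (i : ZMod p).val := by
      simp only [xp, h5, mul_sum, ← mul_assoc, ← mul_pow]
      rw [sum_comm, sum_filter]
      refine sum_congr rfl fun j _ => ?_
      rw [← sum_mul, sum_pow_root (by rw [mul_pow, hβ, inv_pow, hγ, inv_one, one_mul])]
      simp only [inv_mul_eq_one₀ hγ0, eq_comm (a := γ), ite_mul, zero_mul]
    rw [sum_congr rfl fun l _ => by rw [D.apply_mul hχ (pow_mem hkK l) hi], ← sum_mul,
      sum_pow_root (by rw [inv_pow, hγ, inv_one])] at h7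
    apply mul_left_cancel₀ hr0
    rw [← h7]
    simp only [inv_eq_one, ite_mul, zero_mul, mul_ite, mul_zero]
  choose a ha using fun j => exists_ee (hα j)
  have h8 : ∀ γ : ℂ, γ ^ r = 1 → ∀ c : ZMod p, ∃ m : ℕ, (p * m : ℂ) =
      (univ.filter fun j => β j = γ).card + if γ = 1 then
        ∑ i ∈ univ.erase (0 : ZMod p), ee (-(i * c)) * χ.1 (D.xp i) else 0 := fun γ hγ c => by
    refine ⟨((univ.filter fun j => β j = γ).filter fun j => a j = c).card, ?_⟩
    have h9 : ∑ i : ZMod p, ee (-(i * c)) * ∑ j with β j = γ, α j ^ i.val =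
        p * (((univ.filter fun j => β j = γ).filter fun j => a j = c).card : ℂ) := by
      simp only [mul_sum]
      rw [sum_comm, card_filter, Nat.cast_sum, mul_sum]
      refine sum_congr rfl fun j _ => ?_
      have h9 : ∀ i : ZMod p, ee (-(i * c)) * α j ^ i.val = ee (i * (a j - c)) := fun i => by
        rw [← ha, ← ee_mul, ← ee_add]; congr 1; ring
      simp only [h9, sum_ee, sub_eq_zero]
      split_ifs <;> simp
    rw [← h9, ← add_sum_erase _ _ (mem_univ 0), sum_congr (s₁ := univ.erase (0 : ZMod p)) rfl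
      fun i hi => by rw [h6 γ hγ i (mem_erase.mp hi).1]]
    split_ifs <;> simp
  have h9 : ∑ c, D.d χ c ≤ (univ.filter fun j => β j = 1).card + p * D.d χ b := by
    obtain ⟨m, hm⟩ := h8 1 (one_pow _) b
    have h10 : (p * m : ℂ) =
        (univ.filter fun j => β j = 1).card + p * D.d χ b - ∑ c, (D.d χ c : ℂ) := by
      rw [hm, if_pos rfl, d_eq, mul_inv_cancel_left₀ hp0, ← sum_erase (a := (0 : ZMod p)) univ
        (f := fun c => (D.d χ c : ℂ)) (by simp [d_zero]), sub_eq_add_neg, ← sum_apply_xp, add_assoc,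
        ← sum_add_distrib]
      congr 1
      exact sum_congr rfl fun _ _ => by ring
    have h11 : (p * m : ℤ) =
        (univ.filter fun j => β j = 1).card + p * D.d χ b - ∑ c, D.d χ c := by exact_mod_cast h10
    have : (0 : ℤ) ≤ p * m := by positivity
    omega
  have h10 : ∀ j, β j ≠ 1 → ∃ m, 0 < m ∧ (univ.filter fun i => β i = β j).card = p * m := by
    intro j hj
    obtain ⟨m, hm⟩ := h8 _ (hβ j) 0
    rw [if_neg hj, add_zero] at hm
    have h11 : (univ.filter fun i => β i = β j).card = p * m := by exact_mod_cast hm.symm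
    refine ⟨m, Nat.pos_of_ne_zero ?_, h11⟩
    rintro rfl
    exact (card_pos.mpr ⟨j, by simp⟩).ne' h11
  have h11 : 2 * p ≤ (univ.filter fun j => ¬ β j = 1).card := by
    obtain ⟨j, hj⟩ : ∃ j, β j ≠ 1 := by
      by_contra h
      push Not at h
      have := h5 1 0
      simp [h] at this
      exact hk (this.trans h1.symm)
    obtain ⟨m, hm0, hm⟩ := h10 j hj
    by_cases h : ∀ i, β i ≠ 1 → β i = β j
    · have h12 : (univ.filter fun j => ¬ β j = 1) = univ.filter fun i => β i = β j := by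
        ext i
        simp only [mem_filter, mem_univ, true_and]
        exact ⟨h i, fun h' => h' ▸ hj⟩
      have h13 : ∏ i, β i = 1 := by rw [prod_pow, h4, one_pow]
      rw [← prod_filter_mul_prod_filter_not univ fun j => β j = 1,
        prod_eq_one fun i hi => (mem_filter.mp hi).2, one_mul, h12,
        prod_congr rfl fun i hi => (mem_filter.mp hi).2, prod_const, hm] at h13
      have h14 : m ≠ 1 := by
        rintro rfl
        rw [mul_one] at h13
        exact hj (by simpa [hco.gcd_eq_one] using pow_gcd_eq_one.mpr ⟨hβ j, h13⟩)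
      rw [h12, hm, mul_comm]
      exact Nat.mul_le_mul_left _ (by omega)
    · push Not at h
      obtain ⟨i, hi, hij⟩ := h
      obtain ⟨m', hm0', hm'⟩ := h10 i hi
      have h12 := card_le_card (s := (univ.filter fun l => β l = β j) ∪
          univ.filter fun l => β l = β i) (t := univ.filter fun j => ¬ β j = 1) fun l hl => by
        simp only [mem_union, mem_filter, mem_univ, true_and] at hl ⊢
        rcases hl with h | h <;> rwa [h]
      rw [card_union_of_disjoint (disjoint_filter.mpr fun l _ h h' => hij (h'.symm.trans h)), hm,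
        hm'] at h12
      nlinarith
  have h12 := card_filter_add_card_filter_not (s := univ) fun j => β j = 1
  have h13 : deg χ = n := by exact_mod_cast (deg_eq χ).symm.trans h1
  rw [card_univ, Fintype.card_fin] at h12
  omega

theorem apply_eq_zero_of_K_eq_bot (hK : D.K = ⊥) {χ : IrrCharacter G} (hχ : χ ∉ prinBlk p G)
    {i : ZMod p} (hi : i ≠ 0) : χ.1 (D.xp i) = 0 := by
  classical
  have h1 := sum_irr_mul_conj (D.xp i) (D.xp i)
  have h2 := D.sum_mul_conj hi hi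
  rw [if_pos (IsConj.refl _)] at h1 h2
  rw [D.centralizer_xp hi, card_C, hK, card_bot, mul_one, ← h2,
    ← sum_sdiff (subset_univ (prinBlk p G)), add_eq_right] at h1
  simp only [Complex.mul_conj] at h1
  have h3 : ∑ ψ ∈ univ \ prinBlk p G, Complex.normSq (ψ.1 (D.xp i)) = 0 := by exact_mod_cast h1
  exact Complex.normSq_eq_zero.mp ((sum_eq_zero_iff_of_nonneg fun _ _ => Complex.normSq_nonneg _).mp
    h3 χ (by simpa using hχ))

theorem dvd_deg_of_K_eq_bot (hK : D.K = ⊥) {χ : IrrCharacter G} (hχ : χ ∉ prinBlk p G) :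
    p ∣ deg χ := by
  have := IsGeneralizedCharacter.dvd_sub_one hp.out (irr_isGen χ) (k := 1) (x := D.xp 1)
    (by rw [pow_one, xp_pow]) (a := 0) (b := deg χ)
    (by rw [D.apply_eq_zero_of_K_eq_bot hK hχ one_ne_zero, Int.cast_zero]) (by simp [deg_eq])
  rwa [zero_sub, dvd_neg, Int.natCast_dvd_natCast] at this

omit [Finite G] in
theorem one_not_dvd : ¬ p ∣ orderOf (1 : G) := by
  rw [orderOf_one, Nat.dvd_one]; exact hp.out.ne_one

end Setup

namespace Brauer

variable {D : Setup p G} (B : Brauer D)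

theorem S_mem {χ : IrrCharacter G} (h : χ ∈ B.S) : χ ∈ prinBlk p G := (B.mem_iff χ).mpr (Or.inl h)

theorem c_mem (q : (ZMod p)ˣ ⧸ D.A) : B.c q ∈ prinBlk p G := (B.mem_iff _).mpr (Or.inr ⟨q, rfl⟩)

theorem c_ne_one (q : (ZMod p)ˣ ⧸ D.A) : B.c q ≠ irrOne G := fun h => B.not_mem q (h ▸ B.one_mem)

open Classical in
theorem sum_blk {M : Type*} [AddCommMonoid M] (f : IrrCharacter G → M) :
    ∑ χ ∈ prinBlk p G, f χ = ∑ χ ∈ B.S, f χ + ∑ q, f (B.c q) := by
  rw [← sum_image (s := univ) fun _ _ _ _ h => B.inj h, ← sum_union (disjoint_left.mpr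
    fun χ h1 h2 => by obtain ⟨q, -, rfl⟩ := mem_image.mp h2; exact B.not_mem q h1)]
  congr 1
  ext χ
  simp [B.mem_iff]

theorem val_S {χ : IrrCharacter G} (h : χ ∈ B.S) {i : ZMod p} (hi : i ≠ 0) :
    χ.1 (D.xp i) = B.δ χ := by
  rw [D.const_of_d (B.d_S χ h) hi]; simp

theorem δ_one : B.δ (irrOne G) = 1 := by
  have := B.d_S _ B.one_mem 1 one_ne_zero
  rw [D.d_irrOne one_ne_zero] at this
  omega

theorem δ_mul_self {χ : IrrCharacter G} (h : χ ∈ B.S) : B.δ χ * B.δ χ = 1 := by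
  rcases B.hδ χ h with h | h <;> simp [h]

theorem δ0_mul_self : B.δ0 * B.δ0 = 1 := by rcases B.hδ0 with h | h <;> simp [h]

theorem sum_d_mul {R : Type*} [CommRing R] (f : IrrCharacter G → R) (b : (ZMod p)ˣ) :
    ∑ χ ∈ prinBlk p G, D.d χ b * f χ = -(∑ χ ∈ B.S, B.δ χ * f χ + B.δ0 * f (B.c b)) := by
  classical
  rw [B.sum_blk, sum_congr rfl fun χ hχ => by rw [B.d_S χ hχ _ b.ne_zero], neg_add,
    ← sum_neg_distrib, sum_eq_single (b : (ZMod p)ˣ ⧸ D.A) (fun q _ hq => by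
      rw [B.d_c, if_neg hq.symm, Int.cast_zero, zero_mul]) (by simp), B.d_c, if_pos rfl]
  simp

theorem card_S : B.S.card = Nat.card D.A := by
  have h1 := D.gram 1 1
  have h2 := B.sum_d_mul (fun χ => D.d χ (1 : (ZMod p)ˣ)) 1
  simp only [Int.cast_id] at h2
  rw [h2, if_pos rfl, B.d_c, if_pos rfl, sum_congr rfl (g := fun _ => -1) fun χ hχ => by
    rw [B.d_S χ hχ _ (Units.ne_zero _), mul_neg, B.δ_mul_self hχ], mul_neg, B.δ0_mul_self,
    sum_const] at h1
  simp only [smul_neg, nsmul_eq_mul, mul_one] at h1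
  omega

theorem eqn (q : (ZMod p)ˣ ⧸ D.A) {g : G} (hg : ¬ p ∣ orderOf g) :
    ∑ χ ∈ B.S, B.δ χ * χ.1 g + B.δ0 * (B.c q).1 g = 0 := by
  have := D.sum_d_mul hg q.out
  rwa [B.sum_d_mul (fun χ => χ.1 g), QuotientGroup.out_eq', neg_eq_zero] at this

theorem δ0_ne_zero : (B.δ0 : ℂ) ≠ 0 := by rcases B.hδ0 with h | h <;> simp [h]

theorem reg (q r : (ZMod p)ˣ ⧸ D.A) {g : G} (hg : ¬ p ∣ orderOf g) :
    (B.c q).1 g = (B.c r).1 g :=
  mul_left_cancel₀ B.δ0_ne_zero (add_left_cancel ((B.eqn q hg).trans (B.eqn r hg).symm))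

/-- The common degree of the exceptional characters. -/
noncomputable def f0 : ℕ := deg (B.c 1)

theorem deg_c (q : (ZMod p)ˣ ⧸ D.A) : deg (B.c q) = B.f0 := by
  have := B.reg q 1 Setup.one_not_dvd
  rw [deg_eq, deg_eq] at this
  exact_mod_cast this

theorem deg_eqn : ∑ χ ∈ B.S, B.δ χ * deg χ + B.δ0 * B.f0 = 0 := by
  have := B.eqn 1 Setup.one_not_dvd
  simp only [deg_eq] at this
  exact_mod_cast this

theorem dvd_deg_sub {χ : IrrCharacter G} (h : χ ∈ B.S) : (p : ℤ) ∣ B.δ χ * deg χ - 1 := by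
  have := IsGeneralizedCharacter.dvd_sub_one hp.out (irr_isGen χ) (k := 1) (x := D.xp 1)
    (by rw [pow_one, D.xp_pow]) (B.val_S h one_ne_zero) (b := deg χ) (by simp [deg_eq])
  have h1 := this.mul_left (-B.δ χ)
  rwa [mul_sub, neg_mul, B.δ_mul_self h, neg_mul, sub_neg_eq_add, neg_add_eq_sub] at h1

theorem dvd_f0_add : (p : ℤ) ∣ B.δ0 * B.f0 + Nat.card D.A := by
  have h1 := dvd_sum fun χ (h : χ ∈ B.S) => B.dvd_deg_sub h
  rw [sum_sub_distrib, sum_const, card_S, eq_neg_of_add_eq_zero_left B.deg_eqn, nsmul_one,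
    ← dvd_neg, neg_sub, sub_neg_eq_add, add_comm] at h1
  exact h1

theorem deg_dvd_index {χ : IrrCharacter G} (h : χ ∈ B.S) :
    deg χ ∣ Nat.card (Sylow p G) * Nat.card D.A := by
  have h1 := IsIrrCharacter.isIntegral_centralChar χ.2 (D.xp 1)
  rw [B.val_S h one_ne_zero, D.xp_one, D.index_C, deg_eq] at h1
  have h2 := int_dvd_of_isIntegral_div (a := (Nat.card (Sylow p G) * Nat.card D.A : ℕ) * B.δ χ)
    (b := deg χ) (by have := deg_pos χ; omega) (by simpa using h1)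
  have h3 := h2.mul_right (B.δ χ)
  rwa [mul_assoc, B.δ_mul_self h, mul_one, Int.natCast_dvd_natCast] at h3

open Classical in
theorem val_c (q : (ZMod p)ˣ ⧸ D.A) {i : ZMod p} (hi : i ≠ 0) :
    (B.c q).1 (D.xp i) = -B.δ0 * ∑ b ∈ univ.filter fun b : (ZMod p)ˣ => (b : (ZMod p)ˣ ⧸ D.A) = q,
      ee ((b : ZMod p) * i) := by
  rw [D.apply_xp _ hi, ← add_sum_erase _ _ (mem_univ 0), D.d_zero, Int.cast_zero, zero_mul,
    zero_add, ← sum_units, sum_filter, mul_sum]
  refine sum_congr rfl fun b _ => ?_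
  rw [B.d_c]
  split_ifs <;> simp

open Classical in
theorem sum_val_c {i : ZMod p} (hi : i ≠ 0) : ∑ q, (B.c q).1 (D.xp i) = B.δ0 := by
  simp only [B.val_c _ hi]
  rw [← mul_sum, sum_fiberwise univ (fun b : (ZMod p)ˣ => (b : (ZMod p)ˣ ⧸ D.A)),
    sum_units fun b => ee (b * i), sum_erase_ee hi]
  simp

open Classical in
theorem sum_val_c' (q : (ZMod p)ˣ ⧸ D.A) :
    ∑ r : (ZMod p)ˣ ⧸ D.A, (B.c q).1 (D.xp r.out) = B.δ0 := by
  simp only [B.val_c _ (Units.ne_zero _)]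
  rw [← mul_sum]
  have : ∑ r : (ZMod p)ˣ ⧸ D.A, ∑ b ∈ univ.filter fun b : (ZMod p)ˣ =>
      (b : (ZMod p)ˣ ⧸ D.A) = q, ee ((b : ZMod p) * ((r.out : (ZMod p)ˣ) : ZMod p)) = ∑ b : (ZMod p)ˣ, ee ((b : ZMod p) * 1) := by
    rw [← sum_fiberwise univ (fun b : (ZMod p)ˣ => (b : (ZMod p)ˣ ⧸ D.A))]
    refine Fintype.sum_equiv (Equiv.mulLeft q) _ _ fun r =>
      sum_equiv (Equiv.mulRight r.out) (fun b => ?_) fun b _ => by simp
    rw [mem_filter, mem_filter]
    simp only [mem_univ, true_and, Equiv.coe_mulRight, Equiv.coe_mulLeft,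
      QuotientGroup.mk_mul, QuotientGroup.out_eq', mul_left_inj]
  rw [this, sum_units fun b => ee (b * 1), sum_erase_ee one_ne_zero]
  simp

theorem f0_dvd_index : B.f0 ∣ Nat.card (Sylow p G) * Nat.card D.A := by
  classical
  have h1 := IsIntegral.sum (s := univ) (fun r : (ZMod p)ˣ ⧸ D.A => _) fun r _ =>
    IsIrrCharacter.isIntegral_centralChar (B.c 1).2 (D.xp r.out)
  simp only [D.centralizer_xp (Units.ne_zero _), D.index_C, ← sum_div, ← mul_sum, B.sum_val_c',
    deg_eq] at h1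
  have h2 := int_dvd_of_isIntegral_div (a := (Nat.card (Sylow p G) * Nat.card D.A : ℕ) * B.δ0)
    (b := B.f0) (by have := deg_pos (B.c 1); unfold f0; omega) (by simpa [f0] using h1)
  have h3 := h2.mul_right B.δ0
  rwa [mul_assoc, B.δ0_mul_self, mul_one, Int.natCast_dvd_natCast] at h3

theorem sum_blk_deg_sq :
    ∑ χ ∈ prinBlk p G, deg χ ^ 2 = ∑ χ ∈ B.S, deg χ ^ 2 + D.A.index * B.f0 ^ 2 := by
  classical
  simp only [B.sum_blk, B.deg_c, sum_const, card_univ, smul_eq_mul, index,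
    Nat.card_eq_fintype_card]

theorem sum_sq_le : ∑ χ ∈ B.S, deg χ ^ 2 + D.A.index * B.f0 ^ 2 ≤ Nat.card G := by
  rw [← sum_blk_deg_sq, ← sum_deg_sq]
  exact sum_le_sum_of_subset (subset_univ _)

theorem sum_d_S {χ : IrrCharacter G} (h : χ ∈ B.S) : ∑ b, D.d χ b = -(p - 1) * B.δ χ := by
  rw [← add_sum_erase _ _ (mem_univ 0), D.d_zero, zero_add, sum_congr rfl fun b hb =>
    B.d_S χ h b (mem_erase.mp hb).1, sum_const, card_erase_of_mem (mem_univ _), card_univ,
    ZMod.card, nsmul_eq_mul, Nat.cast_pred hp.out.pos]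
  ring

theorem sum_d_c (q : (ZMod p)ˣ ⧸ D.A) : ∑ b, D.d (B.c q) b = -(Nat.card D.A) * B.δ0 := by
  classical
  rw [← add_sum_erase _ _ (mem_univ 0), D.d_zero, zero_add, ← sum_units]
  simp only [B.d_c]
  rw [← sum_filter, sum_const, card_fiber, nsmul_eq_mul]
  ring

theorem stanton_S (hG : commutator G = ⊤) {χ : IrrCharacter G} (h : χ ∈ B.S)
    (hk : ¬ D.K ≤ charKer χ.1) :
    (B.δ χ = 1 → 2 * p + 1 ≤ deg χ) ∧ (B.δ χ = -1 → 3 * p ≤ deg χ + 1) := by
  have h1 := D.stanton hG (B.S_mem h) hk 0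
  have h2 := D.stanton hG (B.S_mem h) hk 1
  rw [B.sum_d_S h] at h1 h2
  rw [D.d_zero] at h1
  rw [B.d_S χ h 1 one_ne_zero] at h2
  constructor <;> intro h3 <;> rw [h3] at h1 h2 <;> omega

theorem stanton_c (hG : commutator G = ⊤) {q : (ZMod p)ˣ ⧸ D.A}
    (hk : ¬ D.K ≤ charKer (B.c q).1) :
    (B.δ0 = 1 → 3 * p ≤ B.f0 + Nat.card D.A) ∧ (B.δ0 = -1 → 2 * p + Nat.card D.A ≤ B.f0) := by
  have h1 := D.stanton hG (B.c_mem q) hk 0
  have h2 := D.stanton hG (B.c_mem q) hk q.out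
  rw [B.sum_d_c, B.deg_c] at h1 h2
  rw [D.d_zero] at h1
  rw [B.d_c, if_pos (QuotientGroup.out_eq' q)] at h2
  constructor <;> intro h3 <;> rw [h3] at h1 h2 <;> omega

open Classical in
theorem sum_filter_d (T : Finset (IrrCharacter G)) (b : (ZMod p)ˣ) :
    ∑ χ ∈ prinBlk p G with χ ∈ T, D.d χ b * deg χ =
      -(∑ χ ∈ B.S with χ ∈ T, B.δ χ * deg χ + if B.c b ∈ T then B.δ0 * B.f0 else 0) := by
  have := B.sum_d_mul (fun χ => if χ ∈ T then (deg χ : ℤ) else 0) b
  simpa only [Int.cast_id, mul_ite, mul_zero, sum_filter, B.deg_c] using this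

theorem val_S_of_dvd {χ : IrrCharacter G} (h : χ ∈ B.S) {g : G} (hg : p ∣ orderOf g) :
    χ.1 g = B.δ χ := by
  obtain ⟨i, hi, k, hk, h1⟩ := D.exists_conj_of_dvd hg
  rw [IsClassFunction.eq_of_isConj (irr_isClass χ) h1, D.apply_mul (B.S_mem h) hk hi, B.val_S h hi]

include B in
theorem two_le_card_A (hG : commutator G = ⊤) : 2 ≤ Nat.card D.A := by
  by_contra h
  have h1 : B.S.card = 1 := by have := Nat.card_pos (α := D.A); rw [card_S]; omega
  obtain ⟨χ, h2⟩ := card_eq_one.mp h1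
  obtain rfl : irrOne G = χ := by simpa [h2] using B.one_mem
  have h3 := B.deg_eqn
  have h4 := two_le_deg hG (B.c_ne_one 1)
  rw [h2, sum_singleton, δ_one, deg_irrOne] at h3
  rw [deg_c] at h4
  rcases B.hδ0 with h | h <;> rw [h] at h3 <;> omega

end Brauer

end Cfsg.Agent.H6
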