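import Mathlib

/-!
# Lifting idempotents over a valuation ring of `ℂ`, and some linear algebra
-/

set_option autoImplicit false

namespace Cfsg.Agent.H6

open Finset Module Polynomial

theorem isCoprime_multiset_prod {R : Type*} [CommSemiring R] {s t : Multiset R}
    (h : ∀ a ∈ s, ∀ b ∈ t, IsCoprime a b) : IsCoprime s.prod t.prod := by
  induction s using Multiset.induction_on with
  | empty => exact isCoprime_one_left
  | cons a s ih =>
    rw [Multiset.prod_cons]
    refine IsCoprime.mul_left ?_ (ih fun x hx => h x (Multiset.mem_cons_of_mem hx))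
    have h1 := h a (Multiset.mem_cons_self a s)
    clear ih h
    induction t using Multiset.induction_on with
    | empty => exact isCoprime_one_right
    | cons b t ih =>
      rw [Multiset.prod_cons]
      exact IsCoprime.mul_right (h1 b (Multiset.mem_cons_self b t))
        (ih fun x hx => h1 x (Multiset.mem_cons_of_mem hx))

theorem exists_eq_prod_of_monic (O : ValuationSubring ℂ) {f : O[X]} (hf : f.Monic) :
    ∃ s : Multiset O, f = (s.map fun a => X - C a).prod := by
  have h1 := (IsAlgClosed.splits (f.map (algebraMap O ℂ))).eq_prod_roots_of_monic (hf.map _)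
  have h2 : ∀ μ ∈ (f.map (algebraMap O ℂ)).roots, μ ∈ O := by
    intro μ hμ
    have h3 : IsIntegral O μ := ⟨f, hf, by
      rw [← eval_map]; exact (isRoot_of_mem_roots hμ).eq_zero⟩
    obtain ⟨y, rfl⟩ := IsIntegrallyClosed.isIntegral_iff.mp h3
    exact y.2
  generalize (f.map (algebraMap O ℂ)).roots = t at h1 h2
  lift t to Multiset O using h2
  refine ⟨t, map_injective (algebraMap O ℂ) Subtype.val_injective ?_⟩
  rw [h1, Polynomial.map_multiset_prod, Multiset.map_map, Multiset.map_map]
  congr 2
  ext a : 1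
  simp

open IsLocalRing in
theorem exists_idempotents (O : ValuationSubring ℂ) {A : Type*} [Ring A] [Algebra O A]
    [Algebra.IsIntegral O A] {ι : Type*} [Fintype ι] [DecidableEq ι]
    (Φ : A →ₐ[O] Matrix ι ι (ResidueField O)) (y : A) (l : ι → O)
    (hl : Function.Injective fun i => residue O (l i))
    (hy : Φ y = Matrix.diagonal fun i => residue O (l i)) :
    ∃ E : ι → A, (∀ i, E i * E i = E i) ∧ (∀ i j, i ≠ j → E i * E j = 0) ∧ ∀ i, Φ (E i) ≠ 0 := by
  classical
  obtain ⟨f, hf, hfy⟩ := Algebra.IsIntegral.isIntegral (R := O) y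
  obtain ⟨s, hs⟩ := exists_eq_prod_of_monic O hf
  rw [← aeval_def] at hfy
  let f1 : ι → O[X] := fun i =>
    ((s.filter fun a => residue O a = residue O (l i)).map fun a => X - C a).prod
  let g1 : ι → O[X] := fun i =>
    ((s.filter fun a => ¬ residue O a = residue O (l i)).map fun a => X - C a).prod
  have hfg : ∀ i, f1 i * g1 i = f := fun i => by
    rw [hs, ← Multiset.prod_add, ← Multiset.map_add, Multiset.filter_add_not]
  have hco : ∀ i, IsCoprime (f1 i) (g1 i) := fun i => isCoprime_multiset_prod (by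
    intro _ ha _ hb
    obtain ⟨a, ha', rfl⟩ := Multiset.mem_map.mp ha
    obtain ⟨b, hb', rfl⟩ := Multiset.mem_map.mp hb
    refine isCoprime_X_sub_C_of_isUnit_sub ?_
    rw [← residue_ne_zero_iff_isUnit, map_sub, sub_ne_zero, (Multiset.mem_filter.mp ha').2]
    exact fun h => (Multiset.mem_filter.mp hb').2 h.symm)
  choose a b hab using hco
  have hev : ∀ (q : O[X]) (i : ι), Φ (aeval y q) i i = aeval (residue O (l i)) q := fun q i => by
    rw [← aeval_algHom_apply, hy]
    exact (congrFun (congrFun (aeval_algHom_apply (Matrix.diagonalAlgHom (n := ι) O)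
      (fun i => residue O (l i)) q) i) i).trans ((Matrix.diagonal_apply_eq _ i).trans
        (aeval_algHom_apply (Pi.evalAlgHom O (fun _ => ResidueField O) i) _ q).symm)
  refine ⟨fun i => aeval y (b i * g1 i), fun i => ?_, fun i j hij => ?_, fun i h => ?_⟩
  · rw [← map_mul, ← sub_eq_zero, ← map_sub]
    have : b i * g1 i * (b i * g1 i) - b i * g1 i = -(a i * b i) * f := by
      rw [← hfg i]; linear_combination (b i * g1 i) * hab i
    rw [this, map_mul, hfy, mul_zero]
  · obtain ⟨c, hc⟩ : f1 i ∣ g1 j := Multiset.prod_dvd_prod_of_le (Multiset.map_le_map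
      (Multiset.monotone_filter_right s fun x hx h => hij (hl (hx.symm.trans h))))
    rw [← map_mul]
    have : b i * g1 i * (b j * g1 j) = b i * b j * c * f := by rw [← hfg i, hc]; ring
    rw [this, map_mul, hfy, mul_zero]
  · have h1 := hev f i
    rw [hfy, map_zero, ← hfg i, map_mul] at h1
    have h2 : aeval (residue O (l i)) (g1 i) ≠ 0 := by
      rw [map_multiset_prod, Multiset.map_map]
      refine Multiset.prod_ne_zero fun h => ?_
      obtain ⟨x, hx, hx2⟩ := Multiset.mem_map.mp h
      simp only [Function.comp_apply, map_sub, aeval_X, aeval_C, sub_eq_zero] at hx2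
      exact (Multiset.mem_filter.mp hx).2 hx2.symm
    have h3 := (mul_eq_zero.mp h1.symm).resolve_right h2
    have h4 := congrArg (aeval (residue O (l i))) (hab i)
    rw [map_add, map_mul, h3, mul_zero, zero_add, ← hev, h, map_one] at h4
    exact zero_ne_one h4

theorem trace_eq_mul_finrank {M : Type*} [AddCommGroup M] [Module.Free ℤ M] [Module.Finite ℤ M]
    (φ : End ℤ M) (c : ℤ) (h : ∀ w, φ (φ w) = c • φ w) :
    LinearMap.trace ℤ M φ = c * finrank ℤ (LinearMap.range φ) := by
  have h1 : φ = (LinearMap.range φ).subtype ∘ₗ φ.rangeRestrict := rfl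
  have h2 : φ.rangeRestrict ∘ₗ (LinearMap.range φ).subtype = c • LinearMap.id := by
    ext ⟨_, w, rfl⟩
    exact h w
  conv_lhs => rw [h1]
  rw [LinearMap.trace_comp_comm', h2, map_smul, LinearMap.trace_id, smul_eq_mul]

theorem sum_filter_ne_mem {X M : Type*} [Fintype X] [DecidableEq X] [AddCommGroup M] {p : ℕ}
    [hp : Fact p.Prime] (σ : Equiv.Perm X) (hσ : σ ^ p = 1) (h : X → M) (S : AddSubgroup M)
    (H : ∀ q, σ q ≠ q → ∑ i ∈ range p, h ((σ ^ i) q) ∈ S) :
    ∑ q ∈ univ.filter (fun q => σ q ≠ q), h q ∈ S := by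
  suffices key : ∀ T : Finset X, (∀ q ∈ T, σ q ≠ q) → (∀ q ∈ T, σ q ∈ T) → ∑ q ∈ T, h q ∈ S from
    key _ (fun q hq => (mem_filter.mp hq).2) fun q hq =>
      mem_filter.mpr ⟨mem_univ _, fun h => (mem_filter.mp hq).2 (σ.injective h)⟩
  intro T
  induction T using Finset.strongInduction with
  | H T ih =>
    intro h1 h2
    rcases T.eq_empty_or_nonempty with rfl | ⟨q, hq⟩
    · simp
    have hper : Function.minimalPeriod σ q = p := Function.minimalPeriod_eq_prime
      (by rw [Function.IsPeriodicPt, Function.IsFixedPt, ← Equiv.Perm.coe_pow, hσ]; rfl) (h1 q hq)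
    have hinj : Set.InjOn (fun i => (σ ^ i) q) (range p : Set ℕ) := by
      have := Function.iterate_injOn_Iio_minimalPeriod (f := σ) (x := q)
      rw [hper] at this
      simpa [Equiv.Perm.coe_pow] using this
    have hsub : (range p).image (fun i => (σ ^ i) q) ⊆ T := by
      intro x hx
      obtain ⟨i, -, rfl⟩ := mem_image.mp hx
      clear hx
      induction i with
      | zero => exact hq
      | succ i ih => rw [pow_succ']; exact h2 _ ih
    rw [← sum_sdiff hsub, sum_image hinj]
    refine add_mem (ih _ (sdiff_ssubset hsub ⟨q, mem_image.mpr ⟨0, mem_range.mpr hp.out.pos, rfl⟩⟩)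
      (fun x hx => h1 x (mem_sdiff.mp hx).1) fun x hx => ?_) (H q (h1 q hq))
    refine mem_sdiff.mpr ⟨h2 x (mem_sdiff.mp hx).1, fun h3 => (mem_sdiff.mp hx).2 ?_⟩
    obtain ⟨i, -, hi⟩ := mem_image.mp h3
    refine mem_image.mpr ⟨(i + (p - 1)) % p, mem_range.mpr (Nat.mod_lt _ hp.out.pos), ?_⟩
    apply σ.injective
    rw [← pow_eq_pow_mod _ hσ, ← hi, ← Equiv.Perm.mul_apply, ← pow_succ', add_assoc,
      Nat.sub_add_cancel hp.out.one_lt.le, pow_add, hσ, mul_one]

theorem exists_eigenbasis {p : ℕ} [hp : Fact p.Prime] {V : Type*} [AddCommGroup V]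
    [Module (ZMod p) V] [Module.Finite (ZMod p) V] (ν : End (ZMod p) V) (hν : ν ^ p = ν) :
    ∃ (b : Basis (Fin (finrank (ZMod p) V)) (ZMod p) V) (μ : Fin (finrank (ZMod p) V) → ZMod p),
      ∀ i, ν (b i) = μ i • b i := by
  classical
  have key : ∀ s : Finset (ZMod p), LinearMap.ker (aeval ν (∏ a ∈ s, (X - C a))) ≤
      ⨆ a, ν.eigenspace a := by
    intro s
    induction s using Finset.induction_on with
    | empty => simp [End.one_eq_id]
    | insert a s ha ih =>
      rw [prod_insert ha, ← sup_ker_aeval_eq_ker_aeval_mul_of_coprime _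
        (IsCoprime.prod_right fun b hb => isCoprime_X_sub_C_of_isUnit_sub
          (sub_ne_zero.mpr fun h : a = b => ha (h ▸ hb)).isUnit)]
      refine sup_le (le_trans ?_ (le_iSup _ a)) ih
      intro v hv
      rw [End.mem_eigenspace_iff]
      simpa [sub_eq_zero] using hv
  have h1 : ∏ a : ZMod p, (X - C a) = X ^ p - X := by
    have h2 := FiniteField.roots_X_pow_card_sub_X (ZMod p)
    rw [ZMod.card] at h2
    have hm : (X ^ p - X : (ZMod p)[X]).Monic := monic_X_pow_sub
      (by rw [degree_X]; exact_mod_cast hp.out.one_lt)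
    have h3 := prod_multiset_X_sub_C_of_monic_of_roots_card_eq hm (by
      rw [h2, FiniteField.X_pow_card_sub_X_natDegree_eq _ hp.out.one_lt]
      simp)
    rw [h2] at h3
    exact h3
  have h2 : ⨆ a, ν.eigenspace a = ⊤ := by
    refine top_le_iff.mp (le_trans ?_ (key univ))
    rw [h1]
    intro v _
    simp [hν]
  let D := DirectSum.isInternal_submodule_of_iSupIndep_of_iSup_eq_top ν.eigenspaces_iSupIndep h2
  let v := D.collectedBasis fun μ ↦ finBasis (ZMod p) (ν.eigenspace μ)
  let e := v.indexEquiv (finBasis (ZMod p) V)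
  refine ⟨v.reindex e, fun i => (e.symm i).1, fun i => ?_⟩
  rw [Basis.reindex_apply]
  exact End.mem_eigenspace_iff.mp (D.collectedBasis_mem _ _)

end Cfsg.Agent.H6
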