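import Cfsg.Agent.H6.Tate
import Cfsg.Agent.H6.IdemLift

/-!
# A substitute for the Green correspondence when the Sylow subgroup has prime order
-/

set_option autoImplicit false

namespace Cfsg.Agent.H6

open Finset Module MonoidAlgebra

/-- The data: `x` generates a Sylow `p`-subgroup, `K` is the `p`-complement of its centralizer,
`ν` generates `N / C`, and `e` is a multiple of a central idempotent of `ℚ G`. -/
structure GreenData (p : ℕ) (G : Type*) [Group G] where
  x : G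
  K : Subgroup G
  nu : G
  e : MonoidAlgebra ℤ G
  hx : orderOf x = p
  hidx : ¬ p ∣ (Subgroup.zpowers x).index
  hK : ¬ p ∣ Nat.card K
  hxK : ∀ k ∈ K, k * x = x * k
  hN : ∀ n : G, n⁻¹ * x * n ∈ Subgroup.zpowers x → ∃ (j i : ℕ), ∃ k ∈ K, n = nu ^ j * x ^ i * k
  hnu : nu ∈ Subgroup.normalizer (Subgroup.zpowers x : Set G)
  hnuK : nu ∈ Subgroup.normalizer (K : Set G)
  hnup : ∃ i : ℕ, ∃ k ∈ K, nu ^ p = nu * x ^ i * k
  comm : ∀ a, a * e = e * a
  idem : e * e = (Nat.card G : ℤ) • e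

namespace GreenData

variable {p : ℕ} {G : Type*} [Group G] [Fintype G] (D : GreenData p G)

/-- The sum of the elements of a subgroup. -/
noncomputable def hat (H : Subgroup G) : MonoidAlgebra ℤ G :=
  open Classical in ∑ k : H, of ℤ G k

theorem hat_mul_of {H : Subgroup G} {k : G} (hk : k ∈ H) : hat H * of ℤ G k = hat H := by
  classical
  rw [hat, sum_mul]
  exact Fintype.sum_equiv (Equiv.mulRight ⟨k, hk⟩) _ _ fun a => (map_mul _ _ _).symm

theorem hat_mul_hat (H : Subgroup G) : hat H * hat H = (Nat.card H : ℤ) • hat H := by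
  classical
  nth_rewrite 2 [hat]
  rw [mul_sum, sum_congr rfl fun a _ => hat_mul_of a.2, sum_const, card_univ, natCast_zsmul,
    Nat.card_eq_fintype_card]

theorem of_mul_hat {H : Subgroup G} {n : G} (hn : n ∈ Subgroup.normalizer (H : Set G)) :
    of ℤ G n * hat H = hat H * of ℤ G n := by
  classical
  rw [hat, sum_mul, mul_sum]
  refine Fintype.sum_equiv (H.normalizerMonoidHom ⟨n, hn⟩).toEquiv _ _ fun a => ?_
  rw [← map_mul, ← map_mul]
  congr 1
  change n * a = n * a * n⁻¹ * n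
  group

/-- The generator of the left ideal. -/
noncomputable def c : MonoidAlgebra ℤ G := D.e * hat D.K

/-- The lattice. -/
noncomputable def L : Submodule ℤ (MonoidAlgebra ℤ G) := LinearMap.range (LinearMap.mulRight ℤ D.c)

theorem mem_L {w : MonoidAlgebra ℤ G} : w ∈ D.L ↔ ∃ b, b * D.c = w := Iff.rfl

omit [Fintype G] in
theorem x_mem : D.x ∈ Subgroup.normalizer (D.K : Set G) :=
  Subgroup.centralizer_le_normalizer _ (Subgroup.mem_centralizer_iff.mpr D.hxK)

theorem of_mul_c {n : G} (hn : n ∈ Subgroup.normalizer (D.K : Set G)) :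
    of ℤ G n * D.c = D.c * of ℤ G n := by
  rw [c, ← mul_assoc, D.comm, mul_assoc, of_mul_hat hn, mul_assoc]

/-- Left multiplication. -/
noncomputable def Lm (a : MonoidAlgebra ℤ G) : End ℤ D.L :=
  (LinearMap.mulLeft ℤ a).restrict (by
    rintro _ ⟨b, rfl⟩
    exact ⟨a * b, mul_assoc _ _ _⟩)

theorem Lm_coe (a : MonoidAlgebra ℤ G) (w : D.L) : (D.Lm a w : MonoidAlgebra ℤ G) = a * w := rfl

/-- Right multiplication by an element normalizing `K`. -/
noncomputable def R (n : G) (hn : n ∈ Subgroup.normalizer (D.K : Set G)) : End ℤ D.L :=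
  (LinearMap.mulRight ℤ (of ℤ G n)).restrict (by
    rintro _ ⟨b, rfl⟩
    exact ⟨b * of ℤ G n, (mul_assoc _ _ _).trans ((congrArg _ (D.of_mul_c hn)).trans
      (mul_assoc _ _ _).symm)⟩)

theorem R_coe (n : G) (hn : n ∈ Subgroup.normalizer (D.K : Set G)) (w : D.L) :
    (D.R n hn w : MonoidAlgebra ℤ G) = w * of ℤ G n := rfl

/-- Right multiplication by `g` followed by the projection to the `K`-fixed part. -/
noncomputable def M (g : G) : End ℤ D.L :=
  (LinearMap.mulRight ℤ (of ℤ G g * hat D.K)).restrict (by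
    rintro _ ⟨b, rfl⟩
    refine ⟨b * hat D.K * of ℤ G g, ?_⟩
    simp only [LinearMap.mulRight_apply, c, mul_assoc]
    rw [← mul_assoc _ D.e, D.comm, mul_assoc, ← mul_assoc (hat D.K) D.e, D.comm, mul_assoc])

theorem M_coe (g : G) (w : D.L) :
    (D.M g w : MonoidAlgebra ℤ G) = w * (of ℤ G g * hat D.K) := rfl

/-- The action of the generator of the Sylow subgroup. -/
noncomputable def Y : End ℤ D.L := D.R D.x D.x_mem

/-- The inverse of `Y`. -/
noncomputable def Z : End ℤ D.L := D.R D.x⁻¹ (inv_mem D.x_mem)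

theorem R_pow (n : G) (hn : n ∈ Subgroup.normalizer (D.K : Set G)) (i : ℕ) :
    D.R n hn ^ i = D.R (n ^ i) (pow_mem hn i) := by
  induction i with
  | zero => ext w; simp [R_coe, ← one_def]
  | succ i ih =>
    ext w : 2
    rw [pow_succ', End.mul_apply, ih, R_coe, R_coe, R_coe, mul_assoc, ← map_mul, pow_succ]

theorem Y_pow_coe (i : ℕ) (w : D.L) :
    ((D.Y ^ i) w : MonoidAlgebra ℤ G) = w * of ℤ G (D.x ^ i) := by rw [Y, R_pow, R_coe]

theorem Z_pow_coe (i : ℕ) (w : D.L) :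
    ((D.Z ^ i) w : MonoidAlgebra ℤ G) = w * of ℤ G (D.x ^ i)⁻¹ := by rw [Z, R_pow, R_coe, inv_pow]

omit [Fintype G] in
theorem x_pow : D.x ^ p = 1 := orderOf_dvd_iff_pow_eq_one.mp D.hx.dvd

theorem Y_pow : D.Y ^ p = 1 := by
  ext w : 2
  rw [Y_pow_coe, D.x_pow, map_one, mul_one]; rfl

theorem Z_pow : D.Z ^ p = 1 := by
  ext w : 2
  rw [Z_pow_coe, D.x_pow, inv_one, map_one, mul_one]; rfl

theorem Z_eq [hp : Fact p.Prime] : D.Z = D.Y ^ (p - 1) := by
  ext w : 2
  rw [Y_pow_coe, Z, R_coe, inv_eq_of_mul_eq_one_right]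
  rw [← pow_succ', Nat.sub_add_cancel hp.out.one_lt.le, D.x_pow]

theorem mul_hat (w : D.L) : (w : MonoidAlgebra ℤ G) * hat D.K = (Nat.card D.K : ℤ) • w := by
  obtain ⟨_, b, rfl⟩ := w
  simp only [LinearMap.mulRight_apply, c, mul_assoc, hat_mul_hat, mul_smul_comm]

theorem mul_of_K (w : D.L) {k : G} (hk : k ∈ D.K) : (w : MonoidAlgebra ℤ G) * of ℤ G k = w := by
  obtain ⟨_, b, rfl⟩ := w
  simp only [LinearMap.mulRight_apply, c, mul_assoc, hat_mul_of hk]

theorem M_eq {n : G} (hn : n ∈ Subgroup.normalizer (D.K : Set G)) :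
    D.M n = (Nat.card D.K : ℤ) • D.R n hn := by
  ext w : 2
  rw [M_coe, ← mul_assoc, ← D.R_coe n hn, mul_hat]; rfl

theorem commute_Lm (a : MonoidAlgebra ℤ G) : Commute (D.Lm a) D.Y := by
  ext w : 2
  exact (mul_assoc _ _ _).symm

theorem exists_pow {u : G} (hu : u ∈ Subgroup.zpowers D.x) : ∃ i : ℕ, D.x ^ i = u :=
  mem_powers_iff_mem_zpowers.mpr hu

theorem exists_transfer (f : End ℤ D.L) (hf : Commute f D.Y) :
    ∃ a : MonoidAlgebra ℤ G, ∀ w : D.L, (Nat.card D.K : ℤ) • D.Lm a w =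
      ∑ᶠ q : G ⧸ Subgroup.zpowers D.x, D.M q.out⁻¹ (f (D.M q.out w)) := by
  classical
  let T : MonoidAlgebra ℤ G → G → MonoidAlgebra ℤ G := fun b g =>
    (f ⟨b * of ℤ G g * D.c, _, rfl⟩ : MonoidAlgebra ℤ G) * of ℤ G g⁻¹
  have hT : ∀ b g, T b (QuotientGroup.mk (s := Subgroup.zpowers D.x) g).out = T b g := by
    intro b g
    obtain ⟨⟨u, hu⟩, h⟩ := QuotientGroup.mk_out_eq_mul (Subgroup.zpowers D.x) g
    obtain ⟨i, rfl⟩ := D.exists_pow hu
    rw [h]
    have : (⟨b * of ℤ G (g * D.x ^ i) * D.c, _, rfl⟩ : D.L) =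
        (D.Y ^ i) ⟨b * of ℤ G g * D.c, _, rfl⟩ := by
      apply Subtype.ext
      rw [Y_pow_coe, map_mul, mul_assoc _ D.c, ← D.of_mul_c (pow_mem D.x_mem i)]
      simp only [mul_assoc]
    simp only [T]
    rw [this, ← End.mul_apply, (hf.pow_right i).eq, End.mul_apply, Y_pow_coe, mul_assoc, ← map_mul]
    congr 2
    group
  let F : MonoidAlgebra ℤ G → MonoidAlgebra ℤ G := fun b =>
    ∑ q : G ⧸ Subgroup.zpowers D.x, T b q.out
  have hF : ∀ b h, F (b * of ℤ G h) = F b * of ℤ G h := by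
    intro b h
    simp only [F]
    rw [sum_mul]
    refine Fintype.sum_equiv (MulAction.toPerm h) _ _ fun q => ?_
    have : MulAction.toPerm h q = QuotientGroup.mk (h * q.out) := by
      conv_lhs => rw [← q.out_eq']
      rfl
    rw [this, hT]
    simp only [T, map_mul, mul_inv_rev, mul_assoc]
    rw [← map_mul (of ℤ G) h⁻¹, inv_mul_cancel, map_one, mul_one]
  have hF2 : ∀ b, F b = F 1 * b := by
    intro b
    induction b using MonoidAlgebra.induction_on with
    | of g => rw [← hF, one_mul]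
    | add a b ha hb =>
      rw [mul_add, ← ha, ← hb]
      simp only [F, T]
      rw [← sum_add_distrib]
      refine sum_congr rfl fun q _ => ?_
      rw [← add_mul, ← Submodule.coe_add, ← map_add]
      congr 3
      exact Subtype.ext (by simp [add_mul])
    | smul r a ha =>
      rw [mul_smul_comm, ← ha]
      simp only [F, T]
      rw [smul_sum]
      refine sum_congr rfl fun q _ => ?_
      rw [← smul_mul_assoc, ← Submodule.coe_smul, ← map_smul]
      congr 3
      exact Subtype.ext (by simp only [Submodule.coe_smul, smul_mul_assoc])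
  obtain ⟨a, ha⟩ : ∃ a, a * D.e = F 1 := by
    refine (Submodule.sum_mem (LinearMap.range (LinearMap.mulRight ℤ D.e)) fun q _ => ?_ :
      F 1 ∈ LinearMap.range (LinearMap.mulRight ℤ D.e))
    obtain ⟨z, hz⟩ := (f ⟨1 * of ℤ G q.out * D.c, _, rfl⟩).2
    refine ⟨z * hat D.K * of ℤ G q.out⁻¹, ?_⟩
    simp only [T]
    rw [← hz]
    simp only [LinearMap.mulRight_apply, c, mul_assoc]
    rw [← mul_assoc (hat D.K), D.comm]
  refine ⟨a, ?_⟩
  rintro ⟨_, b, rfl⟩
  apply Subtype.ext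
  rw [Submodule.coe_smul, ← mul_hat, Lm_coe, finsum_eq_sum_of_fintype, Submodule.coe_sum]
  have : a * (b * D.c) = F (b * hat D.K) := by
    rw [hF2, ← ha, c, ← mul_assoc b, D.comm]
    simp only [mul_assoc]
  refine (congrArg (· * hat D.K) this).trans ?_
  simp only [F]
  rw [sum_mul]
  refine sum_congr rfl fun q _ => ?_
  rw [M_coe, mul_assoc]
  congr 3
  apply Subtype.ext
  simp only [M_coe, LinearMap.mulRight_apply, c, mul_assoc]
  rw [← mul_assoc _ D.e, D.comm, mul_assoc, ← mul_assoc (hat D.K) D.e, D.comm, mul_assoc]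

theorem H_eq (f : End ℤ D.L) (hf : Commute f D.Y) (g : G) (i : ℕ) (w : D.L) :
    D.M (QuotientGroup.mk (s := Subgroup.zpowers D.x) (D.x ^ i * g)).out⁻¹
      (f (D.M (QuotientGroup.mk (s := Subgroup.zpowers D.x) (D.x ^ i * g)).out w)) =
    (D.Z ^ i) (D.M g⁻¹ (f (D.M g ((D.Y ^ i) w)))) := by
  obtain ⟨⟨u, hu⟩, h⟩ := QuotientGroup.mk_out_eq_mul (Subgroup.zpowers D.x) (D.x ^ i * g)
  obtain ⟨j, rfl⟩ := D.exists_pow hu
  have h1 : D.M (D.x ^ i * g * D.x ^ j) w = (D.Y ^ j) (D.M g ((D.Y ^ i) w)) := by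
    apply Subtype.ext
    simp only [M_coe, Y_pow_coe, map_mul, mul_assoc]
    rw [of_mul_hat (pow_mem D.x_mem j)]
  rw [h, h1, ← End.mul_apply f, (hf.pow_right j).eq, End.mul_apply]
  apply Subtype.ext
  simp only [M_coe, Y_pow_coe, Z_pow_coe, mul_assoc]
  rw [← of_mul_hat (inv_mem (pow_mem D.x_mem i)), ← mul_assoc (of ℤ G (D.x ^ j)), ← map_mul,
    ← mul_assoc (of ℤ G g⁻¹), ← map_mul]
  congr 3
  group

/-- A pair of sublattices defining a Tate cohomology group. -/
structure Pair [Fact p.Prime] (S S' : Submodule ℤ D.L) : Prop where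
  le : S' ≤ S
  map : ∀ f : End ℤ D.L, Commute f D.Y → ∀ w ∈ S, f w ∈ S
  map' : ∀ f : End ℤ D.L, Commute f D.Y → ∀ w ∈ S', f w ∈ S'
  nu : ∀ w ∈ S, D.R D.nu D.hnuK w ∈ S
  nu' : ∀ w ∈ S', D.R D.nu D.hnuK w ∈ S'
  smul : ∀ w ∈ S, p • w ∈ S'
  sub : ∀ w ∈ S, D.Y w - w ∈ S'
  tr : ∀ (h : End ℤ D.L), ∀ w ∈ S, ∑ i ∈ range p, (D.Z ^ i) (h ((D.Y ^ i) w)) ∈ S'
  lift : ∀ lam : S →+ ZMod p, (∀ w : S, (w : D.L) ∈ S' → lam w = 0) → ∀ u ∈ S,
    ∃ f : End ℤ D.L, Commute f D.Y ∧ ∀ w : S, f w - (lam w).val • u ∈ S'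

theorem normOp_coe (w : D.L) :
    (normOp p D.Y w : MonoidAlgebra ℤ G) = w * hat (Subgroup.zpowers D.x) := by
  classical
  rw [normOp_apply, Submodule.coe_sum, hat, mul_sum]
  simp only [Y_pow_coe]
  refine sum_bij (fun i _ => ⟨D.x ^ i, Subgroup.npow_mem_zpowers _ i⟩) (fun _ _ => mem_univ _)
    (fun i hi j hj h => pow_injOn_Iio_orderOf (x := D.x) (by simpa [D.hx] using hi)
      (by simpa [D.hx] using hj) (congrArg Subtype.val h)) (fun ⟨u, hu⟩ _ => ?_) fun _ _ => rfl
  obtain ⟨i, rfl⟩ := D.exists_pow hu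
  refine ⟨i % p, mem_range.mpr (Nat.mod_lt _ (D.hx ▸ orderOf_pos D.x)), Subtype.ext ?_⟩
  exact (pow_eq_pow_mod i D.x_pow).symm

theorem normOp_Z : normOp p D.Z = normOp p D.Y := by
  classical
  ext w : 2
  rw [normOp_coe, normOp_apply, Submodule.coe_sum, hat, mul_sum]
  simp only [Z_pow_coe]
  refine sum_bij (fun i _ => ⟨(D.x ^ i)⁻¹, inv_mem (Subgroup.npow_mem_zpowers _ i)⟩)
    (fun _ _ => mem_univ _)
    (fun i hi j hj h => pow_injOn_Iio_orderOf (x := D.x) (by simpa [D.hx] using hi)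
      (by simpa [D.hx] using hj) (inv_injective (congrArg Subtype.val h)))
    (fun ⟨u, hu⟩ _ => ?_) fun _ _ => rfl
  obtain ⟨i, hi⟩ := D.exists_pow (inv_mem hu)
  refine ⟨i % p, mem_range.mpr (Nat.mod_lt _ (D.hx ▸ orderOf_pos D.x)), Subtype.ext ?_⟩
  change (D.x ^ (i % p))⁻¹ = u
  rw [← pow_eq_pow_mod i D.x_pow, hi, inv_inv]

theorem R_normOp (w : D.L) :
    D.R D.nu D.hnuK (normOp p D.Y w) = normOp p D.Y (D.R D.nu D.hnuK w) := by
  apply Subtype.ext
  rw [R_coe, normOp_coe, normOp_coe, R_coe, mul_assoc, mul_assoc, of_mul_hat D.hnu]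

theorem exists_Y_R : ∃ j, ∀ w, D.Y (D.R D.nu D.hnuK w) = D.R D.nu D.hnuK ((D.Y ^ j) w) := by
  obtain ⟨j, hj⟩ := D.exists_pow ((Subgroup.mem_normalizer_iff.mp D.hnu _).mp
    (Subgroup.mem_zpowers D.x))
  refine ⟨j, fun w => Subtype.ext ?_⟩
  rw [Y, R_coe, R_coe, R_coe, ← Y, Y_pow_coe, hj, mul_assoc, mul_assoc, ← map_mul, ← map_mul,
    inv_mul_cancel_right]

theorem exists_R_Y : ∃ j, ∀ w, D.R D.nu D.hnuK (D.Y w) = (D.Y ^ j) (D.R D.nu D.hnuK w) := by
  obtain ⟨j, hj⟩ := D.exists_pow ((Subgroup.mem_normalizer_iff''.mp D.hnu _).mp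
    (Subgroup.mem_zpowers D.x))
  refine ⟨j, fun w => Subtype.ext ?_⟩
  rw [Y_pow_coe, Y, R_coe, R_coe, R_coe, hj, mul_assoc, mul_assoc, ← map_mul, ← map_mul]
  congr 2
  group

instance instFreeL : Module.Free ℤ D.L :=
  have := Module.Free.of_basis (MonoidAlgebra.basis G ℤ)
  have := Module.Finite.of_basis (MonoidAlgebra.basis G ℤ)
  inferInstance

instance instFiniteL : Module.Finite ℤ D.L :=
  have := Module.Finite.of_basis (MonoidAlgebra.basis G ℤ)
  inferInstance

variable [hp : Fact p.Prime]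

omit hp in
theorem pow_sub_mem (W : End ℤ D.L) (i : ℕ) (z : D.L) :
    (W ^ i) z - z ∈ LinearMap.range (W - 1) :=
  ⟨(∑ j ∈ range i, W ^ j) z, by rw [← End.mul_apply, mul_geom_sum]; rfl⟩

theorem pair_zero : D.Pair (LinearMap.ker (D.Y - 1)) (LinearMap.range (normOp p D.Y)) where
  le := range_normOp_le D.Y_pow
  map f hf w hw := by
    rw [mem_ker_sub_one] at hw ⊢
    rw [← End.mul_apply, ← hf.eq, End.mul_apply, hw]
  map' f hf := by
    rintro _ ⟨w, rfl⟩
    exact ⟨f w, (LinearMap.congr_fun (commute_normOp hf).eq w).symm⟩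
  nu w hw := by
    obtain ⟨j, hj⟩ := D.exists_Y_R
    rw [mem_ker_sub_one] at hw ⊢
    rw [hj, pow_apply_of_fixed hw]
  nu' := by
    rintro _ ⟨w, rfl⟩
    exact ⟨_, (D.R_normOp w).symm⟩
  smul w hw := ⟨w, normOp_of_fixed (mem_ker_sub_one.mp hw)⟩
  sub w hw := by rw [mem_ker_sub_one.mp hw, sub_self]; exact zero_mem _
  tr h w hw := by
    refine ⟨h w, ?_⟩
    rw [← normOp_Z, normOp_apply]
    exact sum_congr rfl fun i _ => by rw [pow_apply_of_fixed (mem_ker_sub_one.mp hw)]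
  lift lam hlam u hu := exists_lift_zero D.Y_pow lam hlam hu

theorem pair_one : D.Pair (LinearMap.ker (normOp p D.Y)) (LinearMap.range (D.Y - 1)) where
  le := range_sub_one_le D.Y_pow
  map f hf w hw := by
    rw [LinearMap.mem_ker] at hw ⊢
    rw [← End.mul_apply, ← (commute_normOp hf).eq, End.mul_apply, hw, map_zero]
  map' f hf := by
    rintro _ ⟨w, rfl⟩
    exact ⟨f w, (LinearMap.congr_fun (hf.sub_right (Commute.one_right f)).eq w).symm⟩
  nu w hw := by
    rw [LinearMap.mem_ker] at hw ⊢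
    rw [← R_normOp, hw, map_zero]
  nu' := by
    rintro _ ⟨w, rfl⟩
    obtain ⟨j, hj⟩ := D.exists_R_Y
    rw [LinearMap.sub_apply, map_sub, hj]
    exact D.pow_sub_mem _ j _
  smul w hw := by
    have h1 : ∑ i ∈ range p, ((D.Y ^ i) w - w) ∈ LinearMap.range (D.Y - 1) :=
      Submodule.sum_mem _ fun i _ => D.pow_sub_mem _ i _
    rwa [sum_sub_distrib, ← normOp_apply, LinearMap.mem_ker.mp hw, zero_sub, neg_mem_iff,
      sum_const, card_range] at h1
  sub w _ := ⟨w, rfl⟩
  tr h w hw := by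
    have h1 : ∑ i ∈ range p, ((D.Z ^ i) (h ((D.Y ^ i) w)) - h ((D.Y ^ i) w)) ∈
        LinearMap.range (D.Y - 1) := Submodule.sum_mem _ fun i _ => by
      rw [Z_eq, ← pow_mul]; exact D.pow_sub_mem _ _ _
    rwa [sum_sub_distrib, ← map_sum, ← normOp_apply, LinearMap.mem_ker.mp hw, map_zero,
      sub_zero] at h1
  lift lam hlam u hu := exists_lift_one D.Y_pow lam hlam hu

namespace Pair

variable {D} {S S' : Submodule ℤ D.L} (hP : D.Pair S S')
include hP

theorem pow_sub (i : ℕ) {w : D.L} (hw : w ∈ S) : (D.Y ^ i) w - w ∈ S' := by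
  induction i with
  | zero => simp
  | succ i ih =>
    have := add_mem (hP.sub _ (hP.map _ ((Commute.refl D.Y).pow_left i) w hw)) ih
    rwa [sub_add_sub_cancel, ← End.mul_apply, ← pow_succ'] at this

theorem nu_pow (j : ℕ) {w : D.L} (hw : w ∈ S) : (D.R D.nu D.hnuK ^ j) w ∈ S := by
  induction j with
  | zero => exact hw
  | succ j ih => rw [pow_succ']; exact hP.nu _ ih

theorem nu_pow' (j : ℕ) {w : D.L} (hw : w ∈ S') : (D.R D.nu D.hnuK ^ j) w ∈ S' := by
  induction j with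
  | zero => exact hw
  | succ j ih => rw [pow_succ']; exact hP.nu' _ ih

omit hp hP in
theorem R_eq (j i : ℕ) {k : G} (hk : k ∈ D.K) (hn) (w : D.L) :
    D.R (D.nu ^ j * D.x ^ i * k) hn w = (D.Y ^ i) ((D.R D.nu D.hnuK ^ j) w) := by
  apply Subtype.ext
  rw [← D.mul_of_K ((D.Y ^ i) ((D.R D.nu D.hnuK ^ j) w)) hk, Y_pow_coe, R_pow, R_coe, R_coe,
    map_mul, map_mul, ← mul_assoc, ← mul_assoc]

/-- The transfer of an endomorphism commuting with `ν` on the Tate group. -/
theorem exists_eq_Lm (f : End ℤ D.L) (hf : Commute f D.Y)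
    (hfn : ∀ w ∈ S, f (D.R D.nu D.hnuK w) - D.R D.nu D.hnuK (f w) ∈ S') :
    ∃ a : MonoidAlgebra ℤ G, ∀ w ∈ S, D.Lm a w - f w ∈ S' := by
  classical
  obtain ⟨a, ha⟩ := D.exists_transfer f hf
  let σ : Equiv.Perm (G ⧸ Subgroup.zpowers D.x) := MulAction.toPerm D.x
  have hσi : ∀ (i : ℕ) (q : G ⧸ Subgroup.zpowers D.x),
      (σ ^ i) q = QuotientGroup.mk (D.x ^ i * q.out) := fun i q => by
    conv_lhs => rw [← q.out_eq']
    exact congrFun (congrArg _ (map_pow (MulAction.toPermHom G _) D.x i).symm) _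
  have hσ : σ ^ p = 1 := by
    ext q
    rw [hσi, D.x_pow, one_mul, QuotientGroup.out_eq']; rfl
  set m := (univ.filter fun q => σ q = q).card with hm
  have hm1 : ¬ p ∣ m := by
    have h1 := sum_filter_ne_mem σ hσ (fun _ => (1 : ZMod p)) ⊥ (fun q _ => by simp)
    have h2 := card_filter_add_card_filter_not (s := univ) fun q => σ q = q
    rw [AddSubgroup.mem_bot, sum_const, nsmul_one, ZMod.natCast_eq_zero_iff] at h1
    intro h
    apply D.hidx
    rw [Subgroup.index, Nat.card_eq_fintype_card, ← card_univ, ← h2]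
    exact dvd_add h h1
  have hfix : ∀ q, σ q = q → ∀ w ∈ S, D.M q.out⁻¹ (f (D.M q.out w)) -
      ((Nat.card D.K : ℤ) * Nat.card D.K) • f w ∈ S' := by
    intro q hq w hw
    have h1 : q.out⁻¹ * D.x * q.out ∈ Subgroup.zpowers D.x := by
      have h2 := (hσi 1 q).symm.trans hq
      rw [pow_one] at h2
      rw [mul_assoc]
      exact QuotientGroup.eq.mp (q.out_eq'.trans h2.symm)
    obtain ⟨j, i, k, hk, h2⟩ := D.hN _ h1
    have hn : q.out ∈ Subgroup.normalizer (D.K : Set G) := h2 ▸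
      mul_mem (mul_mem (pow_mem D.hnuK j) (pow_mem D.x_mem i)) (Subgroup.le_normalizer hk)
    have h3 : ∀ (j : ℕ), ∀ w ∈ S, f ((D.R D.nu D.hnuK ^ j) w) -
        (D.R D.nu D.hnuK ^ j) (f w) ∈ S' := by
      intro j w hw
      induction j with
      | zero => simp
      | succ j ih =>
        have := add_mem (hfn _ (hP.nu_pow j hw)) (hP.nu' _ ih)
        simpa only [map_sub, sub_add_sub_cancel, pow_succ', End.mul_apply] using this
    have h4 : f (D.R q.out hn w) - D.R q.out hn (f w) ∈ S' := by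
      generalize q.out = n at hn h2
      subst h2
      rw [R_eq j i hk, R_eq j i hk, ← End.mul_apply f, (hf.pow_right i).eq, End.mul_apply,
        ← map_sub]
      exact hP.map' _ ((Commute.refl D.Y).pow_left i) _ (h3 j w hw)
    have h5 : ∀ w ∈ S', D.R q.out⁻¹ (inv_mem hn) w ∈ S' := by
      intro w hw
      have h6 : ∀ (t : ℕ), (D.R q.out hn ^ t) w ∈ S' := by
        intro t
        induction t with
        | zero => exact hw
        | succ t ih =>
          rw [pow_succ', End.mul_apply]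
          generalize (D.R q.out hn ^ t) w = z at ih
          generalize q.out = n at hn h2
          subst h2
          rw [R_eq j i hk]
          exact hP.map' _ ((Commute.refl D.Y).pow_left i) _ (hP.nu_pow' j ih)
      have h7 := h6 (orderOf q.out - 1)
      rw [R_pow] at h7
      convert h7 using 3
      rw [inv_eq_iff_mul_eq_one, ← pow_succ', Nat.sub_add_cancel (orderOf_pos _),
        pow_orderOf_eq_one]
    have h6 : D.R q.out⁻¹ (inv_mem hn) (D.R q.out hn (f w)) = f w := by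
      apply Subtype.ext
      rw [R_coe, R_coe, mul_assoc, ← map_mul, mul_inv_cancel, map_one, mul_one]
    rw [D.M_eq hn, D.M_eq (inv_mem hn), LinearMap.smul_apply, LinearMap.smul_apply, map_smul,
      map_smul, smul_smul, ← smul_sub, ← h6, ← map_sub]
    exact Submodule.smul_mem _ _ (h5 _ h4)
  have h1 : ∀ w ∈ S, (Nat.card D.K : ℤ) • D.Lm a w -
      ((m : ℤ) * (Nat.card D.K * Nat.card D.K)) • f w ∈ S' := by
    intro w hw
    have h2 := sum_filter_ne_mem σ hσ (fun q => D.M q.out⁻¹ (f (D.M q.out w))) S'.toAddSubgroup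
      (fun q _ => by
        simp only [hσi, D.H_eq f hf]
        exact hP.tr (D.M q.out⁻¹ * f * D.M q.out) w hw)
    have h3 := Submodule.sum_mem S' fun q (hq : q ∈ univ.filter fun q => σ q = q) =>
      hfix q (mem_filter.mp hq).2 w hw
    rw [sum_sub_distrib, sum_const, ← hm, ← natCast_zsmul, smul_smul] at h3
    have h4 := add_mem h3 h2
    rwa [sub_add_eq_add_sub, sum_filter_add_sum_filter_not, ← finsum_eq_sum_of_fintype,
      ← ha] at h4
  have h2 : IsCoprime ((m : ℤ) * (Nat.card D.K * Nat.card D.K)) p := by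
    have h3 := (Nat.isCoprime_iff_coprime.mpr ((Nat.Prime.coprime_iff_not_dvd hp.out).mpr hm1)).symm
    have h4 := (Nat.isCoprime_iff_coprime.mpr
      ((Nat.Prime.coprime_iff_not_dvd hp.out).mpr D.hK)).symm
    exact h3.mul_left (h4.mul_left h4)
  obtain ⟨r, s, hrs⟩ := h2
  refine ⟨(r * Nat.card D.K) • a, fun w hw => ?_⟩
  have h3 := sub_mem (Submodule.smul_mem _ r (h1 w hw))
    (Submodule.smul_mem _ s (hP.smul _ (hP.map f hf w hw)))
  rw [← natCast_zsmul (f w), smul_sub, smul_smul, smul_smul, smul_smul, sub_sub, ← add_smul, hrs,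
    one_smul] at h3
  convert h3 using 2
  apply Subtype.ext
  rw [Lm_coe, smul_mul_assoc]; rfl

theorem exists_rep : ∃ (n : ℕ) (ρ : G →* Matrix (Fin n) (Fin n) (ZMod p)),
    S'.toAddSubgroup.relIndex S.toAddSubgroup = p ^ n ∧
    (∀ a, a * D.e = 0 → MonoidAlgebra.lift ℤ _ G ρ a = 0) ∧
    ∀ i, ∃ a, MonoidAlgebra.lift ℤ _ G ρ a = Matrix.diagonal (Pi.single i 1) := by
  classical
  let H : AddSubgroup S := S'.toAddSubgroup.addSubgroupOf S.toAddSubgroup
  have inst : Module (ZMod p) (S ⧸ H) := QuotientAddGroup.zmodModule fun w => hP.smul w w.2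
  let ind : ∀ f : End ℤ D.L, (∀ w ∈ S, f w ∈ S) → (∀ w ∈ S', f w ∈ S') →
      ((S ⧸ H) →ₗ[ZMod p] (S ⧸ H)) := fun f h1 h2 =>
    (QuotientAddGroup.map H H (f.restrict h1).toAddMonoidHom fun w hw => h2 w hw).toZModLinearMap p
  have hind : ∀ f h1 h2 (w : S), ind f h1 h2 (w : S ⧸ H) = ((⟨f w, h1 w w.2⟩ : S) : S ⧸ H) :=
    fun _ _ _ _ => rfl
  have heq : ∀ {w w' : S}, (w : D.L) - w' ∈ S' → (w : S ⧸ H) = w' := fun h =>
    QuotientAddGroup.eq_iff_sub_mem.mpr h
  have heq' : ∀ {w w' : S}, (w : S ⧸ H) = w' → (w : D.L) - w' ∈ S' := fun h =>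
    QuotientAddGroup.eq_iff_sub_mem.mp h
  have : Module.Finite ℤ (S ⧸ H) := Module.Finite.of_surjective
    (QuotientAddGroup.mk' H).toIntLinearMap (QuotientAddGroup.mk'_surjective H)
  have : Module.Finite (ZMod p) (S ⧸ H) := Module.Finite.of_restrictScalars_finite ℤ _ _
  let ρ0 : MonoidAlgebra ℤ G →+* End (ZMod p) (S ⧸ H) :=
    { toFun := fun a => ind (D.Lm a) (hP.map _ (D.commute_Lm a)) (hP.map' _ (D.commute_Lm a))
      map_one' := LinearMap.ext fun v => QuotientAddGroup.induction_on v fun w =>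
        congrArg QuotientAddGroup.mk (Subtype.ext (Subtype.ext (one_mul _)))
      map_mul' := fun a b => LinearMap.ext fun v => QuotientAddGroup.induction_on v fun w =>
        congrArg QuotientAddGroup.mk (Subtype.ext (Subtype.ext (mul_assoc _ _ _)))
      map_zero' := LinearMap.ext fun v => QuotientAddGroup.induction_on v fun w =>
        congrArg QuotientAddGroup.mk (Subtype.ext (Subtype.ext (zero_mul (w.1.1))))
      map_add' := fun a b => LinearMap.ext fun v => QuotientAddGroup.induction_on v fun w =>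
        congrArg QuotientAddGroup.mk (Subtype.ext (Subtype.ext (add_mul _ _ _))) }
  have hρ0 : ∀ a (w : S), ρ0 a (w : S ⧸ H) =
      ((⟨D.Lm a w, hP.map _ (D.commute_Lm a) w w.2⟩ : S) : S ⧸ H) := fun _ _ => rfl
  let ν : End (ZMod p) (S ⧸ H) := ind (D.R D.nu D.hnuK) hP.nu hP.nu'
  have hνj : ∀ (j : ℕ) (w : S), (ν ^ j) (w : S ⧸ H) =
      ((⟨(D.R D.nu D.hnuK ^ j) w, hP.nu_pow j w.2⟩ : S) : S ⧸ H) := by
    intro j w
    induction j with
    | zero => rfl
    | succ j ih => rw [pow_succ', End.mul_apply, ih, hind]; simp only [pow_succ', End.mul_apply]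
  obtain ⟨b, μ, hb⟩ := exists_eigenbasis ν (LinearMap.ext fun v =>
    QuotientAddGroup.induction_on v fun w => by
      obtain ⟨i, k, hk, h⟩ := D.hnup
      rw [hνj, hind]
      refine heq ?_
      have h1 := R_eq (D := D) 1 i hk (by rw [pow_one, ← h]; exact pow_mem D.hnuK p) w
      simp only [pow_one, ← h] at h1
      simp only [R_pow, h1]
      exact hP.pow_sub i (hP.nu _ w.2))
  let Φ := (LinearMap.toMatrixAlgEquiv b).toRingEquiv.toRingHom.comp ρ0
  have hΦ : ∀ a, MonoidAlgebra.lift ℤ _ G (Φ.toMonoidHom.comp (of ℤ G)) a = Φ a := fun a =>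
    (congrFun (congrArg _ ((MonoidAlgebra.lift ℤ _ G).apply_symm_apply Φ.toIntAlgHom)) a :)
  refine ⟨_, Φ.toMonoidHom.comp (of ℤ G), ?_, fun a ha => ?_, fun i => ?_⟩
  · have := Module.natCard_eq_pow_finrank (K := ZMod p) (V := S ⧸ H)
    rw [Nat.card_zmod] at this
    exact this
  · have : ρ0 a = 0 := LinearMap.ext fun v => QuotientAddGroup.induction_on v fun w => by
      rw [hρ0]
      refine congrArg QuotientAddGroup.mk (Subtype.ext (Subtype.ext ?_))
      obtain ⟨⟨_, z, rfl⟩, -⟩ := w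
      change a * (z * D.c) = 0
      rw [c, ← mul_assoc z, D.comm, mul_assoc, ← mul_assoc, ha, zero_mul]
    rw [hΦ, RingHom.comp_apply, this, map_zero]
  · obtain ⟨u, hu⟩ := QuotientAddGroup.mk_surjective (b i)
    obtain ⟨f, hf, h1⟩ := hP.lift ((b.coord i).toAddMonoidHom.comp (QuotientAddGroup.mk' H))
      (fun w hw => by
        rw [AddMonoidHom.comp_apply, QuotientAddGroup.mk'_apply,
          (QuotientAddGroup.eq_zero_iff w).mpr hw, map_zero]) u u.2
    have h2 : ∀ v, ind f (hP.map f hf) (hP.map' f hf) v = b.coord i v • b i := fun v =>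
      QuotientAddGroup.induction_on v fun w => by
        rw [hind, ← hu, ← ZMod.natCast_zmod_val (b.coord i w), Nat.cast_smul_eq_nsmul,
          ← QuotientAddGroup.mk_nsmul]
        exact heq (h1 w)
    have h3 : ind f (hP.map f hf) (hP.map' f hf) * ν = ν * ind f (hP.map f hf) (hP.map' f hf) := by
      refine b.ext fun j => ?_
      rw [End.mul_apply, End.mul_apply, hb, map_smul, h2, map_smul, hb, smul_smul, smul_smul]
      by_cases hij : j = i
      · rw [hij, mul_comm]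
      · simp [hij]
    obtain ⟨a, ha⟩ := hP.exists_eq_Lm f hf fun w hw =>
      heq' (LinearMap.congr_fun h3 ((⟨w, hw⟩ : S) : S ⧸ H))
    have h4 : ρ0 a = ind f (hP.map f hf) (hP.map' f hf) :=
      LinearMap.ext fun v => QuotientAddGroup.induction_on v fun w => heq (ha w w.2)
    refine ⟨a, ?_⟩
    rw [hΦ, RingHom.comp_apply, h4]
    ext j k
    change LinearMap.toMatrixAlgEquiv b _ j k = _
    rw [LinearMap.toMatrixAlgEquiv_apply, h2]
    by_cases h5 : j = k
    · subst h5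
      by_cases h6 : j = i <;> simp [h6]
    · by_cases h6 : k = i
      · subst h6; simp [h5]
      · simp [h5, h6]

end Pair

end GreenData

end Cfsg.Agent.H6
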