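import Cfsg.Agent.H6.Sieve
import Cfsg.Agent.H9.Fusion
import Cfsg.Agent.S0985

/-!
# Orders that survive the numerical sieve
-/

set_option autoImplicit false

namespace Cfsg.Agent.H6

open Finset Subgroup Cfsg.Agent.L0

namespace Sieve

variable {G : Type*} [Group G] [Finite G]

section

variable {p : ℕ} [hp : Fact p.Prime] {D : Setup p G} (B : Brauer D)

theorem exists_mem_degs {χ : IrrCharacter G} (h : χ ∈ prinBlk p G) (h1 : χ ≠ irrOne G) :
    ∃ x ∈ degs B, x.natAbs = deg χ := by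
  classical
  rcases (B.mem_iff χ).mp h with h | ⟨q, rfl⟩
  · exact ⟨_, Multiset.mem_cons_of_mem (Multiset.mem_map_of_mem _
      (show χ ∈ B.S.erase (irrOne G) from mem_erase.mpr ⟨h1, h⟩)), natAbs_S B h⟩
  · exact ⟨_, Multiset.mem_cons_self _ _, (natAbs_f0 B).trans (B.deg_c q).symm⟩

omit hp in
theorem exists_int_of_unique {χ : IrrCharacter G} (h : χ ∈ prinBlk p G)
    (hu : ∀ ψ ∈ prinBlk p G, deg ψ = deg χ → ψ = χ) (g : G) : ∃ n : ℤ, χ.1 g = n := by
  refine exists_int_of_forall_ringHom (IsCharacter.isIntegral (irr_isChar χ) g) fun σ => ?_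
  rw [← Setup.gal_apply, hu _ (Setup.gal_mem.mpr h)]
  have := Setup.gal_apply σ χ 1
  rw [deg_eq, deg_eq, map_natCast] at this
  exact_mod_cast this

theorem exists_unique_deg {d : ℕ} (hd : d ≠ 1) (h1 : D.A.index = 1 ∨ B.f0 ≠ d)
    (h2 : (degs B).countP (fun x => x.natAbs = d) = 1) :
    ∃ χ ∈ prinBlk p G, deg χ = d ∧ χ ≠ irrOne G ∧ ∀ ψ ∈ prinBlk p G, deg ψ = deg χ → ψ = χ := by
  classical
  have h3 : ((insert (B.c 1) (B.S.erase (irrOne G))).filter fun χ => deg χ = d).card = 1 := by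
    rw [← h2, degs, Multiset.countP_cons, Multiset.countP_map, filter_insert, natAbs_f0,
      Multiset.filter_congr (q := fun χ => deg χ = d) fun χ hχ => by
        rw [natAbs_S B (mem_of_mem_erase (show χ ∈ B.S.erase (irrOne G) from hχ))], B.deg_c]
    split_ifs
    · rw [card_insert_of_notMem fun h => B.not_mem 1 (mem_of_mem_erase (mem_filter.mp h).1)]; rfl
    · rfl
  obtain ⟨χ, h4⟩ := card_eq_one.mp h3
  have h5 := mem_filter.mp (h4 ▸ mem_singleton_self χ)
  have h6 : χ ∈ prinBlk p G := by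
    rcases mem_insert.mp h5.1 with h | h
    exacts [h ▸ B.c_mem 1, B.S_mem (mem_of_mem_erase h)]
  refine ⟨χ, h6, h5.2, fun h => hd (by rw [← h5.2, h, deg_irrOne]), fun ψ h7 h8 => ?_⟩
  rw [← mem_singleton, ← h4, mem_filter, mem_insert]
  refine ⟨?_, h8.trans h5.2⟩
  rcases (B.mem_iff ψ).mp h7 with h | ⟨q, rfl⟩
  · exact Or.inr (mem_erase.mpr ⟨fun h => hd (by rw [← h5.2, ← h8, h, deg_irrOne]), h⟩)
  · rcases h1 with h1 | h1
    · have : Subsingleton ((ZMod p)ˣ ⧸ D.A) := (Nat.card_eq_one_iff_unique.mp h1).1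
      exact Or.inl (congrArg _ (Subsingleton.elim _ _))
    · exact absurd ((B.deg_c q).symm.trans (h8.trans h5.2)) h1

end

theorem exists_brauer {p : ℕ} [Fact p.Prime] {g : ℕ} (h : Nat.card G = g) (h1 : p ∣ g)
    (h2 : ¬ p ^ 2 ∣ g) : ∃ D : Setup p G, Nonempty (Brauer D) := by
  obtain ⟨D⟩ := nonempty_setup (h ▸ h1) (h ▸ h2)
  exact ⟨D, D.nonempty_brauer⟩

variable [IsSimpleGroup G]

theorem cross {s g p q d : ℕ} {qs : List (ℕ × ℕ)} (hp : p.Prime) (hq : q.Prime) (hg : ¬ g.Prime)
    (hs : g < s * s) (hp1 : p ∣ g) (hp2 : ¬ p ^ 2 ∣ g) (hq1 : q ∣ g) (hq2 : ¬ q ^ 2 ∣ g)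
    (hd : ¬ q ∣ d) (h1 : elimOne s g p qs (fun _ _ _ l => !(l.any fun x => x.natAbs == d)) = true)
    (h2 : elimOne s g q qs (fun _ _ k l => !(k == 1 && l.all fun x => x.natAbs != d)) = true) :
    Nat.card G ≠ g := by
  rintro rfl
  have := Fact.mk hp
  have := Fact.mk hq
  have hG := not_isMulCommutative_of_card hg
  obtain ⟨D, ⟨B⟩⟩ := exists_brauer rfl hp1 hp2
  obtain ⟨D', ⟨B'⟩⟩ := exists_brauer rfl hq1 hq2
  obtain ⟨l, h3, h4⟩ := elimOne_sound B hG hs _ _ h1
  obtain ⟨l', h5, h6⟩ := elimOne_sound B' hG hs _ _ h2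
  simp only [Bool.not_eq_false', List.any_eq_true, beq_iff_eq, Bool.and_eq_true, List.all_eq_true,
    bne_iff_ne] at h4 h6
  obtain ⟨x, h7, rfl⟩ := h4
  obtain ⟨χ, -, h8, h9⟩ := exists_of_mem_degs B (h3 ▸ Multiset.mem_coe.mpr h7)
  have h10 : χ ∈ prinBlk q G := by
    by_contra h
    exact hd (h9 ▸ D'.dvd_deg_of_K_eq_bot (card_eq_one.mp h6.1) h)
  obtain ⟨y, h11, h12⟩ := exists_mem_degs B' h10 h8
  exact h6.2 y (Multiset.mem_coe.mp (h5 ▸ h11)) (h12.trans h9.symm)

theorem ne_4620 : Nat.card G ≠ 4620 :=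
  cross (s := 80) (p := 7) (q := 11) (d := 6) (qs := facs 80 2 4620 []) (by norm_num) (by norm_num)
    (by norm_num) (by norm_num) (by norm_num) (by norm_num) (by norm_num) (by norm_num)
    (by norm_num) (by decide +kernel) (by decide +kernel)

theorem ne_5460 : Nat.card G ≠ 5460 :=
  cross (s := 80) (p := 13) (q := 7) (d := 12) (qs := facs 80 2 5460 []) (by norm_num) (by norm_num)
    (by norm_num) (by norm_num) (by norm_num) (by norm_num) (by norm_num) (by norm_num)
    (by norm_num) (by decide +kernel) (by decide +kernel)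

theorem card_dvd_of_int {χ : IrrCharacter G} (h1 : χ ≠ irrOne G) (h : ∀ g, ∃ n : ℤ, χ.1 g = n) :
    (Nat.card G : ℤ) ∣ ∏ i ∈ Ico (-(deg χ : ℤ)) (deg χ), (deg χ - i) := by
  refine IsGeneralizedCharacter.blichfeldt_int (irr_isGen χ) (by simp [deg_eq]) _ fun g hg => ?_
  obtain ⟨n, hn⟩ := h g
  refine ⟨n, ?_, hn⟩
  have h2 := IsCharacter.norm_le (irr_isChar χ) g
  rw [hn, deg_eq, Complex.norm_intCast, Complex.norm_natCast] at h2
  have h3 : |n| ≤ deg χ := by exact_mod_cast h2
  have h4 : n ≠ deg χ := fun h => hg (by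
    rw [← mem_bot, ← ker_eq_bot h1, IsCharacter.mem_charKer_iff (irr_isChar χ), hn, h, deg_eq]
    simp)
  rw [abs_le] at h3
  rw [mem_Ico]
  omega

theorem ne_4320 : Nat.card G ≠ 4320 := by
  intro h
  have : Fact (Nat.Prime 5) := ⟨by norm_num⟩
  have hG : ¬ IsMulCommutative G := not_isMulCommutative_of_card (by rw [h]; norm_num)
  obtain ⟨D, ⟨B⟩⟩ := exists_brauer (p := 5) h (by norm_num) (by norm_num)
  obtain ⟨l, h3, h4⟩ := elimOne_sound B hG (s := 80) (by rw [h]; norm_num) (facs 80 2 4320 [])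
    (fun _ e _ l => !(e == 4 && l.countP (fun x => x.natAbs = 4) == 1)) (by rw [h]; decide +kernel)
  simp only [Bool.not_eq_false', beq_iff_eq, Bool.and_eq_true] at h4
  have h5 := D.card_A_mul_index
  rw [h4.1] at h5
  obtain ⟨χ, h6, h7, h8, h9⟩ := exists_unique_deg B (d := 4) (by norm_num) (Or.inl (by omega))
    (by rw [← h3, Multiset.coe_countP, h4.2])
  have h10 := card_dvd_of_int h8 (exists_int_of_unique h6 h9)
  rw [h, h7] at h10
  revert h10
  decide

theorem ne_4900 : Nat.card G ≠ 4900 := by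
  intro h
  have hG : ¬ IsMulCommutative G := not_isMulCommutative_of_card (by rw [h]; norm_num)
  obtain ⟨q, c, hq, h1, h2, h3, h4, h5⟩ := exists_prime_dvd_pow_sub_one (p := 2)
    (perfect_of_simple hG) (by rw [h]; norm_num)
  rw [h] at h2 h4
  have h6 : c < 3 := by
    by_contra h7
    exact absurd ((pow_dvd_pow 2 (not_lt.mp h7)).trans h4) (by norm_num)
  interval_cases c
  · exact hq.one_lt.ne' (by simpa using h5)
  · obtain rfl := (Nat.prime_dvd_prime_iff_eq hq (by norm_num : Nat.Prime 3)).mp h5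
    norm_num at h2

theorem ne_5292 : Nat.card G ≠ 5292 := by
  intro h
  have hG : ¬ IsMulCommutative G := not_isMulCommutative_of_card (by rw [h]; norm_num)
  have : Fact (Nat.Prime 7) := ⟨by norm_num⟩
  obtain ⟨P⟩ := (inferInstance : Nonempty (Sylow 7 G))
  have hP : ∀ P : Sylow 7 G, Nat.card (P : Subgroup G) = 7 ^ 2 :=
    sylow_card_of (k := 2) (m := 108) h (by norm_num)
  obtain ⟨j, h1, h2, h3, h4⟩ := exists_syl hG (p := 7) (a := 2) (m := 108) (by norm_num) h
    (by norm_num)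
  rw [h] at h4
  have hn : Nat.card (Sylow 7 G) = 36 := by
    rw [h3]
    interval_cases j <;> first | rfl | (exfalso; revert h4 h2; decide)
  obtain ⟨R, hR, x, hx1, hxP, hxR⟩ := exists_sylow_inf_ne_bot P (by rw [hn, hP]; decide)
  obtain ⟨n, m, h5, h5', -, h6, h7⟩ := exists_card_eq_of_two_sylow hR
    (le_centralizer_singleton_of_comm (isMulCommutative_of_card_sq (hP R)) hxR)
    (le_centralizer_singleton_of_comm (isMulCommutative_of_card_sq (hP P)) hxP)
  have h8 := two_mul_card_dvd_factorial_index hG (centralizer_ne_top_of_simple hG hx1)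
  have h9 := (centralizer ({x} : Set G)).index_mul_card
  rw [h7, hP, h] at h9
  rw [h] at h8
  generalize (centralizer ({x} : Set G)).index = i at *
  have h10 : i ≤ 13 := by
    have : 8 * (49 * 1) ≤ n * (7 ^ 2 * m) := Nat.mul_le_mul h5 (Nat.mul_le_mul le_rfl h6)
    nlinarith
  interval_cases i <;> (revert h8; decide)

theorem ne_4500 : Nat.card G ≠ 4500 := by
  intro h
  have hG : ¬ IsMulCommutative G := not_isMulCommutative_of_card (by rw [h]; norm_num)
  have : Fact (Nat.Prime 5) := ⟨by norm_num⟩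
  have hP : ∀ P : Sylow 5 G, Nat.card (P : Subgroup G) = 5 ^ 3 :=
    sylow_card_of (k := 3) (m := 36) h (by norm_num)
  obtain ⟨j, h1, h2, h3, h4⟩ := exists_syl hG (p := 5) (a := 3) (m := 36) (by norm_num) h
    (by norm_num)
  rw [h] at h4
  have hn : Nat.card (Sylow 5 G) = 36 := by
    rw [h3]
    interval_cases j <;> first | rfl | (exfalso; revert h4 h2; decide)
  obtain ⟨P, R, hne, h5⟩ := S0985.result (G := G) 5 2 (by rw [hn]; decide)
  have key : ∀ P R : Sylow 5 G, P ≠ R → Nat.card ((R : Subgroup G) ⊓ P : Subgroup G) = 25 →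
      (P : Subgroup G) ≤ normalizer (((R : Subgroup G) ⊓ P : Subgroup G) : Set G) := by
    intro P R _ h6
    rw [← normal_subgroupOf_iff_le_normalizer inf_le_right]
    refine normal_of_index_eq_minFac_card ?_
    have h7 := relIndex_mul_card_of_le (inf_le_right : (R : Subgroup G) ⊓ P ≤ P)
    rw [h6, hP] at h7
    rw [hP]
    change relIndex _ _ = _
    norm_num
    omega
  have h6 : Nat.card ((R : Subgroup G) ⊓ P : Subgroup G) = 25 := by
    have h7 := relIndex_mul_card_of_le (inf_le_right : (R : Subgroup G) ⊓ P ≤ P)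
    rw [hP, inf_relIndex_right] at h7
    have h8 : (R : Subgroup G).relIndex P ≠ 1 := fun h =>
      hne (sylow_eq_of_le (relIndex_eq_one.mp h))
    have h9 : (R : Subgroup G).relIndex P ≤ 5 := h5
    generalize (R : Subgroup G).relIndex P = i at *
    interval_cases i <;> omega
  obtain ⟨n, m, h7, -, -, h8, h9⟩ := exists_card_eq_of_two_sylow hne (key P R hne h6)
    (inf_comm (P : Subgroup G) R ▸ key R P hne.symm (inf_comm (R : Subgroup G) P ▸ h6))
  have h10 := two_mul_card_dvd_factorial_index hG (normalizer_ne_top_of_pgroup hG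
    (R.isPGroup'.to_le (inf_le_left : (R : Subgroup G) ⊓ P ≤ R)) fun h => by
      rw [h, card_bot] at h6; omega)
  have h11 := (normalizer (((R : Subgroup G) ⊓ P : Subgroup G) : Set G)).index_mul_card
  rw [h9, hP, h] at h11
  rw [h] at h10
  generalize (normalizer (((R : Subgroup G) ⊓ P : Subgroup G) : Set G)).index = i at *
  have h12 : i ≤ 6 := by
    have : 6 * (125 * 1) ≤ n * (5 ^ 3 * m) := Nat.mul_le_mul h7 (Nat.mul_le_mul le_rfl h8)
    nlinarith
  interval_cases i <;> (revert h10; decide)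

omit [IsSimpleGroup G] in
theorem exists_card_eq_of_two_sylow' {p : ℕ} [hp : Fact p.Prime] {P R : Sylow p G} (hne : P ≠ R)
    {H : Subgroup G} (hP : (P : Subgroup G) ≤ H) (hR : (R : Subgroup G) ≤ H) :
    ∃ n, p + 1 ≤ n ∧ n ≡ 1 [MOD p] ∧ n ≤ Nat.card (Sylow p G) ∧
      Nat.card H = n * Nat.card (normalizer ((P : Subgroup G) : Set G) ⊓ H : Subgroup G) := by
  have h1 := card_sylow_mul_card_normalizer (P.subtype hP)
  have h2 := card_sylow_modEq_one p H
  have h4 : 1 < Nat.card (Sylow p H) := Finite.one_lt_card_iff_nontrivial.mpr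
    ⟨P.subtype hP, R.subtype hR, fun h => hne (Sylow.subtype_injective h)⟩
  refine ⟨_, ?_, h2, card_sylow_subgroup_le H, ?_⟩
  · have := Nat.le_of_dvd (by omega) ((Nat.modEq_iff_dvd' h4.le).mp h2.symm)
    omega
  · rw [← h1, Sylow.coe_subtype, ← subgroupOf_normalizer_eq hP, ← inf_subgroupOf_right]
    congr 1
    exact Nat.card_congr (subgroupOfEquivOfLe inf_le_right).toEquiv

omit [IsSimpleGroup G] in
theorem exists_index_two {H : Subgroup G} {m : ℕ} (h : Nat.card H = 2 * m) (hm : ¬ 2 ∣ m) :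
    ∃ K : Subgroup G, K ≤ H ∧ Nat.card K = m ∧ ∀ g ∈ H, (orderOf g).Coprime 2 → g ∈ K := by
  obtain ⟨S⟩ := (inferInstance : Nonempty (Sylow 2 H))
  have h1 : Nat.card (S : Subgroup H) = 2 ^ 1 := sylow_card_of (by rw [h, pow_one]) hm S
  have h2 := H9.hasNormalPComplement_two_of_isCyclic S (isCyclic_of_prime_card (p := 2) h1)
  have h3 := (HasNormalPComplement.isComplement' h2 S).card_mul_card
  refine ⟨(pResidual 2 H).map H.subtype, map_subtype_le _, ?_, fun g hg h4 =>
    ⟨⟨g, hg⟩, mem_pResidual_of_coprime (by rwa [orderOf_mk]), rfl⟩⟩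
  rw [card_map_of_injective H.subtype_injective]
  rw [h1, h] at h3
  omega

omit [IsSimpleGroup G] in
theorem mem_centralizer_of_coprime {p : ℕ} [hp : Fact p.Prime] {H : Subgroup G}
    (hH : Nat.card H = p) {z : G} (hz : z ∈ normalizer (H : Set G))
    (hc : (orderOf z).Coprime (p - 1)) : z ∈ centralizer (H : Set G) := by
  have h1 := relIndex_centralizer_dvd_sub_one hH
  have : ((centralizer (H : Set G)).subgroupOf (normalizer (H : Set G))).Normal :=
    normal_subgroupOf_centralizer_normalizer _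
  have h2 := ((centralizer (H : Set G)).subgroupOf (normalizer (H : Set G))).pow_index_mem ⟨z, hz⟩
  have h3 : z ^ (centralizer (H : Set G)).relIndex (normalizer (H : Set G)) ∈
    centralizer (H : Set G) := h2
  obtain ⟨k, hk⟩ := exists_pow_eq_self_of_coprime (hc.coprime_dvd_right h1).symm
  exact hk ▸ pow_mem h3 k

theorem ne_5400 : Nat.card G ≠ 5400 := by
  intro h
  have hG : ¬ IsMulCommutative G := not_isMulCommutative_of_card (by rw [h]; norm_num)
  have : Fact (Nat.Prime 5) := ⟨by norm_num⟩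
  have : Fact (Nat.Prime 3) := ⟨by norm_num⟩
  obtain ⟨P⟩ := (inferInstance : Nonempty (Sylow 5 G))
  have hP : ∀ P : Sylow 5 G, Nat.card (P : Subgroup G) = 5 ^ 2 :=
    sylow_card_of (k := 2) (m := 216) h (by norm_num)
  have hc := fun P => isMulCommutative_of_card_sq (hP P)
  have hN := card_sylow_mul_card_normalizer P
  obtain ⟨j, h1, h2, h3, h4⟩ := exists_syl hG (p := 5) (a := 2) (m := 216) (by norm_num) h
    (by norm_num)
  rw [h] at h4
  have hn : Nat.card (Sylow 5 G) = 36 := by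
    have h5 := relIndex_centralizer_ne_one (perfect_of_simple hG) (by rw [h]; norm_num) P
    have h6 := relIndex_centralizer_mul_card (P : Subgroup G)
    have h7 := card_le_of_le (le_centralizer_of_comm (hc P))
    have h8 : Nat.card (Sylow 5 G) ≠ 216 := fun h8 => by
      rw [h8, ← h6, h] at hN
      rw [hP] at h7
      generalize (centralizer ((P : Subgroup G) : Set G)).relIndex _ = a at *
      rcases a with _ | _ | a
      · omega
      · omega
      · nlinarith
    rw [h3] at h8 ⊢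
    interval_cases j <;> first | rfl | (exfalso; revert h4 h2 h8; decide)
  rw [hn, h] at hN
  obtain ⟨z, hz⟩ := exists_prime_orderOf_dvd_card' (G := normalizer ((P : Subgroup G) : Set G)) 3
    (by omega)
  rw [← orderOf_coe] at hz
  obtain ⟨z, hzN⟩ := z
  simp only at hz
  have key : ∀ R : Sylow 5 G, R ≠ P → (R : Subgroup G) ⊓ P ≠ ⊥ → z • R ≠ R := by
    intro R hR hb hzR
    have h5 : Nat.card ((R : Subgroup G) ⊓ P : Subgroup G) = 5 := by
      have h6 := card_dvd_of_le (inf_le_right : (R : Subgroup G) ⊓ P ≤ P)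
      rw [hP] at h6
      obtain ⟨k, hk, h7⟩ := (Nat.dvd_prime_pow (by norm_num)).mp h6
      interval_cases k
      · exact absurd (card_eq_one.mp h7) hb
      · exact h7
      · exact absurd (sylow_eq_of_le (inf_eq_right.mp (eq_of_le_of_card_ge inf_le_right
          (by rw [h7, hP])))).symm hR
    have h6 := mem_centralizer_of_coprime h5 (z := z) (inf_normalizer_le_normalizer_inf
      ⟨Sylow.smul_eq_iff_mem_normalizer.mp hzR, hzN⟩) (by rw [hz]; norm_num)
    have h7 : ∀ Q : Sylow 5 G, (R : Subgroup G) ⊓ P ≤ Q →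
        (Q : Subgroup G) ≤ centralizer (((R : Subgroup G) ⊓ P : Subgroup G) : Set G) :=
      fun Q hQ => (le_centralizer_of_comm (hc Q)).trans (centralizer_le hQ)
    set C := centralizer (((R : Subgroup G) ⊓ P : Subgroup G) : Set G)
    obtain ⟨n, h8, h9, -, h10⟩ := exists_card_eq_of_two_sylow' hR.symm (h7 P inf_le_right)
      (h7 R inf_le_left)
    have h11 : 25 ∣ Nat.card (normalizer ((P : Subgroup G) : Set G) ⊓ C : Subgroup G) := by
      have := card_dvd_of_le (le_inf le_normalizer (h7 P inf_le_right) :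
        (P : Subgroup G) ≤ normalizer ((P : Subgroup G) : Set G) ⊓ C)
      rwa [hP] at this
    have h12 : 3 ∣ Nat.card (normalizer ((P : Subgroup G) : Set G) ⊓ C : Subgroup G) :=
      hz ▸ Subgroup.orderOf_dvd_natCard _ ⟨hzN, h6⟩
    obtain ⟨m, hm⟩ := Nat.Coprime.mul_dvd_of_dvd_of_dvd (by norm_num) h11 h12
    have h13 := two_mul_card_dvd_factorial_index hG (H := C) fun h => normalizer_ne_top_of_pgroup hG
      (R.isPGroup'.to_le (inf_le_left : (R : Subgroup G) ⊓ P ≤ R)) hb
      (top_le_iff.mp (h ▸ centralizer_le_normalizer _))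
    have h14 := C.index_mul_card
    have hm0 : 0 < m := Nat.pos_of_ne_zero fun h => Nat.card_pos.ne' (by rw [hm, h])
    rw [h10, hm, h] at h14
    rw [h] at h13
    have h15 : Nat.card C = 2 * 225 := by
      rw [h10, hm]
      generalize C.index = i at *
      have h15 : i ≤ 12 := by
        have : 6 * (75 * 1) ≤ n * (25 * 3 * m) := Nat.mul_le_mul h8 (Nat.mul_le_mul le_rfl hm0)
        nlinarith
      have h16 : i * (n * m) = 72 := by nlinarith
      have h17 : n * (25 * 3 * m) = 75 * (n * m) := by ring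
      rw [h17]
      generalize n * m = k at h16
      interval_cases i <;> first | omega | (exfalso; revert h13; decide)
    obtain ⟨K, -, h16, h17⟩ := exists_index_two h15 (by norm_num)
    have h18 : ∀ Q : Sylow 5 G, (R : Subgroup G) ⊓ P ≤ Q → (Q : Subgroup G) ≤ K :=
      fun Q hQ g hg => h17 g (h7 Q hQ hg) (Nat.Coprime.coprime_dvd_left
        (hP Q ▸ Subgroup.orderOf_dvd_natCard _ hg) (by norm_num))
    obtain ⟨n, m, h19, h20, -, -, h21⟩ := exists_card_eq_of_two_sylow hR.symm (h18 P inf_le_right)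
      (h18 R inf_le_left)
    rw [h16, hP] at h21
    have h22 : n ∣ 9 := ⟨m, by nlinarith⟩
    have := Nat.le_of_dvd (by norm_num) h22
    unfold Nat.ModEq at h20
    interval_cases n <;> omega
  have hinv : ∀ g ∈ normalizer ((P : Subgroup G) : Set G), ∀ R : Sylow 5 G,
      ((g • R : Sylow 5 G) : Subgroup G) ⊓ P = H8.cj g (R ⊓ P) := fun g hg R => by
    conv_lhs => rw [← Sylow.smul_eq_iff_mem_normalizer.mpr hg]
    rw [coe_smul_sylow, coe_smul_sylow, H8.cj, H8.cj, H8.cj, map_inf _ _ _ (MulAut.conj g).injective]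
  have hinv2 : ∀ g ∈ normalizer ((P : Subgroup G) : Set G), ∀ R : Sylow 5 G,
      ((g • R : Sylow 5 G) : Subgroup G) ⊓ P = ⊥ ↔ (R : Subgroup G) ⊓ P = ⊥ := fun g hg R => by
    rw [hinv g hg, H8.cj, map_eq_bot_iff_of_injective _ (MulAut.conj g).injective]
  have h5 : 3 ∣ {R : Sylow 5 G | R ≠ P ∧ (R : Subgroup G) ⊓ P ≠ ⊥}.ncard := by
    refine dvd_ncard_of_orbits (G := zpowers z) _ (fun g R hR => ?_) fun R hR => ?_
    · have hg := zpowers_le.mpr hzN g.2
      refine ⟨fun h => hR.1 ?_, fun h => hR.2 ((hinv2 g hg R).mp h)⟩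
      exact smul_left_cancel (g : G) (h.trans (Sylow.smul_eq_iff_mem_normalizer.mpr hg).symm)
    · have h5 := (MulAction.stabilizer (zpowers z) R).index_dvd_card
      rw [Nat.card_zpowers, hz, Nat.dvd_prime (by norm_num)] at h5
      rw [h5.resolve_left fun h => key R hR.1 hR.2 ?_]
      exact (index_eq_one.mp h ▸ mem_top _ :
        (⟨z, mem_zpowers z⟩ : zpowers z) ∈ MulAction.stabilizer (zpowers z) R)
  have h6 : 25 ∣ {R : Sylow 5 G | (R : Subgroup G) ⊓ P = ⊥}.ncard := by
    refine dvd_ncard_of_orbits (G := (P : Subgroup G)) _ (fun g R hR => ?_) fun R hR => ?_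
    · exact (hinv2 g (le_normalizer g.2) R).mpr hR
    · rw [stabilizer_sylow_eq P.isPGroup', ← inf_subgroupOf_right, hR, bot_subgroupOf, index_bot,
        hP]
      rfl
  have h7 : (Set.univ : Set (Sylow 5 G)) = insert P
      ({R : Sylow 5 G | R ≠ P ∧ (R : Subgroup G) ⊓ P ≠ ⊥} ∪ {R | (R : Subgroup G) ⊓ P = ⊥}) := by
    ext R
    simp only [Set.mem_univ, Set.mem_insert_iff, Set.mem_union, Set.mem_ofPred_eq, true_iff]
    tauto
  have h8 := congrArg Set.ncard h7
  rw [Set.ncard_univ, hn, Set.ncard_insert_of_notMem (by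
    simp only [Set.mem_union, Set.mem_ofPred_eq, ne_eq, not_true, false_and, false_or, inf_idem]
    intro h
    have := hP P
    rw [h, card_bot] at this
    omega), Set.ncard_union_eq (Set.disjoint_left.mpr fun R h1 h2 => h1.2 h2)] at h8
  omega

end Sieve

end Cfsg.Agent.H6
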