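import Cfsg.Agent.H6.DefZero
import Cfsg.Agent.H6.Sieve2

/-!
# Character values at involutions
-/

set_option autoImplicit false

namespace Cfsg.Agent.H6

open Finset Subgroup Cfsg.Agent.L0

variable {p : ℕ} {G : Type*} [Group G] [Finite G]

theorem exists_int_four_dvd (hG : commutator G = ⊤) (χ : IrrCharacter G) {u : G} (hu : u * u = 1) :
    ∃ a : ℤ, χ.1 u = a ∧ 4 ∣ deg χ - a ∧ |a| ≤ deg χ := by
  classical
  obtain ⟨n, ε, h1, h2, h3, h4⟩ := exists_eigen_det hG (irr_isChar χ) u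
  have h5 : ∀ i, ¬ ε i = 1 → ε i = -1 := fun i h => by
    obtain ⟨k, hk⟩ := orderOf_dvd_of_pow_eq_one ((sq u).trans hu)
    exact (mul_self_eq_one_iff.mp (by rw [← sq, hk, pow_mul, h2, one_pow])).resolve_left h
  have h6 := card_filter_add_card_filter_not (s := univ) fun i => ε i = 1
  rw [← prod_filter_mul_prod_filter_not univ fun i => ε i = 1,
    prod_eq_one fun i hi => (mem_filter.mp hi).2, one_mul,
    prod_congr rfl fun i hi => h5 i (mem_filter.mp hi).2, prod_const,
    neg_one_pow_eq_one_iff_even (by norm_num)] at h4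
  have h7 := h3 1
  simp only [pow_one] at h7
  rw [← sum_filter_add_sum_filter_not univ fun i => ε i = 1,
    sum_congr rfl fun i hi => (mem_filter.mp hi).2, sum_congr (s₁ := filter (fun i => ¬ ε i = 1) _)
    rfl fun i hi => h5 i (mem_filter.mp hi).2, sum_const, sum_const] at h7
  have h8 : deg χ = n := by exact_mod_cast (deg_eq χ).symm.trans h1
  rw [card_univ, Fintype.card_fin] at h6
  obtain ⟨k, hk⟩ := h4
  refine ⟨(univ.filter fun i => ε i = 1).card - (univ.filter fun i => ¬ ε i = 1).card,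
    by rw [h7]; simp [sub_eq_add_neg], by omega, abs_le.mpr ⟨by omega, by omega⟩⟩

theorem ne_deg_of_ne_one [IsSimpleGroup G] {χ : IrrCharacter G} (h : χ ≠ irrOne G) {u : G}
    (hu : u ≠ 1) : χ.1 u ≠ deg χ := fun h1 => hu (by
  rw [← mem_bot, ← ker_eq_bot h, IsCharacter.mem_charKer_iff (irr_isChar χ), h1, deg_eq])

theorem deg_dvd_index_mul {χ : IrrCharacter G} {u : G} {a : ℤ} (h : χ.1 u = a) :
    (deg χ : ℤ) ∣ (centralizer ({u} : Set G)).index * a := by
  have h1 := IsIrrCharacter.isIntegral_centralChar χ.2 u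
  rw [h, deg_eq] at h1
  exact int_dvd_of_isIntegral_div (by have := deg_pos χ; omega) (by simpa using h1)

theorem sum_sq_le_card_centralizer (T : Finset (IrrCharacter G)) {u : G} (a : IrrCharacter G → ℤ)
    (h : ∀ χ ∈ T, χ.1 u = a χ) :
    ∑ χ ∈ T, a χ ^ 2 ≤ Nat.card (centralizer ({u} : Set G)) := by
  have h1 := sum_irr_norm_sq u
  have h2 := sum_le_sum_of_subset_of_nonneg (f := fun χ : IrrCharacter G => ‖χ.1 u‖ ^ 2)
    (subset_univ T) fun _ _ _ => by positivity
  rw [h1, sum_congr rfl fun χ hχ => by rw [h χ hχ, Complex.norm_intCast, sq_abs]] at h2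
  exact_mod_cast h2

theorem Brauer.dvd_sub_of_mem_K [hp : Fact p.Prime] {D : Setup p G} (B : Brauer D)
    {χ : IrrCharacter G} (h : χ ∈ B.S) {u : G} (hu : u ∈ D.K) {a : ℤ} (ha : χ.1 u = a) :
    (p : ℤ) ∣ B.δ χ - a :=
  IsGeneralizedCharacter.dvd_sub hp.out (irr_isGen χ) (x := D.xp 1) (k := 1)
    (by rw [pow_one, D.xp_pow]) (D.K_comm hu 1).symm (by
      rw [← (D.K_comm hu 1).eq, D.apply_mul (B.S_mem h) hu one_ne_zero, B.val_S h one_ne_zero]) ha

end Cfsg.Agent.H6
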