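import Cfsg.Agent.H6.Green
import Cfsg.Agent.L0.Block3
import Cfsg.Agent.L0.Char5

/-!
# The key bound for blocks of defect one
-/

set_option autoImplicit false

namespace Cfsg.Agent.H6

open Finset Module MonoidAlgebra IsLocalRing Cfsg.Agent.L0

theorem trace_mulRight {G : Type*} [Group G] [Fintype G] (z : MonoidAlgebra ℤ G) :
    LinearMap.trace ℤ _ (LinearMap.mulRight ℤ z) = Nat.card G * z.coeff 1 := by
  classical
  rw [LinearMap.trace_eq_matrix_trace ℤ (MonoidAlgebra.basis G ℤ), Matrix.trace]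
  rw [sum_congr rfl (g := fun _ => z.coeff 1) fun g _ => ?_]
  · rw [sum_const, card_univ, Nat.card_eq_fintype_card, nsmul_eq_mul]
  · rw [Matrix.diag_apply, LinearMap.toMatrix_apply]
    change (single g 1 * z).coeff g = _
    rw [coeff_single_mul_apply, inv_mul_cancel, one_mul]

namespace GreenData

variable {p : ℕ} {G : Type*} [Group G] [Fintype G] (D : GreenData p G)

theorem c_mul_c : D.c * D.c = ((Nat.card G : ℤ) * Nat.card D.K) • D.c := by
  rw [c, mul_assoc, ← mul_assoc (hat D.K), D.comm, mul_assoc, hat_mul_hat, ← mul_assoc, D.idem,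
    smul_mul_smul_comm]

theorem hat_mul_c : hat (Subgroup.zpowers D.x) * D.c = D.c * hat (Subgroup.zpowers D.x) := by
  classical
  rw [hat, sum_mul, mul_sum]
  refine sum_congr rfl fun u _ => D.of_mul_c ?_
  obtain ⟨i, hi⟩ := D.exists_pow u.2
  exact hi ▸ pow_mem D.x_mem i

theorem coeff_c : D.c.coeff 1 = Nat.card D.K * finrank ℤ D.L := by
  have := Module.Free.of_basis (MonoidAlgebra.basis G ℤ)
  have := Module.Finite.of_basis (MonoidAlgebra.basis G ℤ)
  have h := trace_eq_mul_finrank (LinearMap.mulRight ℤ D.c) (Nat.card G * Nat.card D.K) fun w => by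
    simp only [LinearMap.mulRight_apply, mul_assoc, c_mul_c, mul_smul_comm]
  rw [trace_mulRight, mul_assoc] at h
  exact mul_left_cancel₀ (Nat.cast_ne_zero.mpr Nat.card_pos.ne') h

theorem coeff_c_hat : (D.c * hat (Subgroup.zpowers D.x)).coeff 1 =
    Nat.card D.K * (p * finrank ℤ (LinearMap.range (normOp p D.Y))) := by
  have := Module.Free.of_basis (MonoidAlgebra.basis G ℤ)
  have := Module.Finite.of_basis (MonoidAlgebra.basis G ℤ)
  have h := trace_eq_mul_finrank (LinearMap.mulRight ℤ (D.c * hat (Subgroup.zpowers D.x)))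
    (Nat.card G * (Nat.card D.K * p)) fun w => by
      simp only [LinearMap.mulRight_apply, mul_assoc]
      rw [← mul_assoc (hat _), hat_mul_c, mul_assoc, hat_mul_hat, ← mul_assoc D.c, c_mul_c,
        smul_mul_smul_comm, mul_smul_comm, Nat.card_zpowers, D.hx, mul_assoc]
  have h2 : (LinearMap.range (normOp p D.Y)).map D.L.subtype =
      LinearMap.range (LinearMap.mulRight ℤ (D.c * hat (Subgroup.zpowers D.x))) := by
    apply le_antisymm
    · rintro _ ⟨_, ⟨⟨_, b, rfl⟩, rfl⟩, rfl⟩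
      exact ⟨b, ((D.normOp_coe _).trans (mul_assoc _ _ _)).symm⟩
    · rintro _ ⟨b, rfl⟩
      exact ⟨_, ⟨⟨_, b, rfl⟩, rfl⟩, (D.normOp_coe _).trans (mul_assoc _ _ _)⟩
  rw [trace_mulRight, ← h2, Submodule.finrank_map_subtype_eq, mul_assoc, mul_assoc] at h
  exact mul_left_cancel₀ (Nat.cast_ne_zero.mpr Nat.card_pos.ne') h

theorem coeff_c_of [Fintype D.K] (g : G) :
    (D.c * of ℤ G g).coeff 1 = ∑ k : D.K, D.e.coeff (k * g)⁻¹ := by
  classical
  rw [c, hat, mul_sum, sum_mul, coeff_sum, Finsupp.finsetSum_apply]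
  refine sum_congr (by congr; exact Subsingleton.elim _ _) fun k _ => ?_
  rw [mul_assoc, ← map_mul, of_apply, coeff_mul_single_apply, one_mul, mul_one]

theorem exists_rep_bound [hp : Fact p.Prime] [Fintype D.K] :
    ∃ (n : ℕ) (ρ : G →* Matrix (Fin n) (Fin n) (ZMod p)),
      |∑ i ∈ Ico 1 p, ∑ k : D.K, D.e.coeff (k * D.x ^ i)⁻¹| ≤ Nat.card D.K * ((p - 1 : ℕ) * n) ∧
      (∀ a, a * D.e = 0 → MonoidAlgebra.lift ℤ _ G ρ a = 0) ∧
      ∀ i, ∃ a, MonoidAlgebra.lift ℤ _ G ρ a = Matrix.diagonal (Pi.single i 1) := by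
  classical
  obtain ⟨n0, ρ0, h0, h0'⟩ := D.pair_zero.exists_rep
  obtain ⟨n1, ρ1, h1, h1'⟩ := D.pair_one.exists_rep
  have h2 := herbrand D.Y_pow
  rw [h0, h1, ← pow_mul, ← pow_mul, ← pow_add, ← pow_add] at h2
  have h3 := congrArg (Nat.cast : ℕ → ℤ) (Nat.pow_right_injective hp.out.two_le h2)
  have h4 : (D.c * hat (Subgroup.zpowers D.x)).coeff 1 = D.c.coeff 1 +
      ∑ i ∈ Ico 1 p, ∑ k : D.K, D.e.coeff (k * D.x ^ i)⁻¹ := by
    have h5 := D.normOp_coe ⟨D.c, 1, one_mul _⟩
    rw [normOp_apply, Submodule.coe_sum] at h5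
    simp only [Y_pow_coe] at h5
    rw [← h5, coeff_sum, Finsupp.finsetSum_apply, range_eq_Ico,
      sum_eq_sum_Ico_succ_bot hp.out.pos, pow_zero, map_one (of ℤ G), mul_one]
    simp only [coeff_c_of, zero_add]
  rw [coeff_c_hat, coeff_c] at h4
  push_cast at h3
  have h6 : ∑ i ∈ Ico 1 p, ∑ k : D.K, D.e.coeff (k * D.x ^ i)⁻¹ =
      Nat.card D.K * ((p - 1 : ℕ) * ((n0 : ℤ) - n1)) := by
    linear_combination -h4 - (Nat.card D.K : ℤ) * h3
  rcases le_total n0 n1 with h | h
  · refine ⟨n1, ρ1, ?_, h1'⟩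
    rw [h6, abs_mul, abs_mul, Nat.abs_cast, Nat.abs_cast]
    gcongr
    rw [abs_le]; omega
  · refine ⟨n0, ρ0, ?_, h0'⟩
    rw [h6, abs_mul, abs_mul, Nat.abs_cast, Nat.abs_cast]
    gcongr
    rw [abs_le]; omega

end GreenData

theorem exists_injective_residue (O : ValuationSubring ℂ) (n : ℕ) :
    ∃ l : Fin n → O, Function.Injective fun i => residue O (l i) := by
  have : Infinite (ResidueField O) := by
    classical
    by_contra h
    rw [not_infinite_iff_finite] at h
    have := Fintype.ofFinite (ResidueField O)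
    choose s hs using residue_surjective (R := O)
    have h1 : (∏ a, (Polynomial.X - Polynomial.C (s a))).Monic :=
      Polynomial.monic_prod_of_monic _ _ fun a _ => Polynomial.monic_X_sub_C _
    have h2 : (∏ a, (Polynomial.X - Polynomial.C (s a))).natDegree ≠ 0 := by
      rw [Polynomial.natDegree_prod_of_monic _ _ fun a _ => Polynomial.monic_X_sub_C _]
      simp
    have h3 : (∏ a, (Polynomial.X - Polynomial.C (s a)) + 1).Monic :=
      h1.add_of_left (by
        rw [Polynomial.degree_one]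
        exact Polynomial.natDegree_pos_iff_degree_pos.mp (Nat.pos_of_ne_zero h2))
    obtain ⟨t, ht⟩ := exists_eq_prod_of_monic O h3
    have h4 : t ≠ 0 := by
      rintro rfl
      simp only [Multiset.map_zero, Multiset.prod_zero, add_eq_right] at ht
      exact h1.ne_zero ht
    obtain ⟨b, hb⟩ := Multiset.exists_mem_of_ne_zero h4
    have h5 := congrArg (fun f => residue O (Polynomial.eval b f)) ht
    simp only [Polynomial.eval_add, Polynomial.eval_prod, Polynomial.eval_sub, Polynomial.eval_X,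
      Polynomial.eval_C, Polynomial.eval_one, map_add, map_prod, map_sub, hs, map_one,
      Polynomial.eval_multiset_prod, Multiset.map_map] at h5
    rw [prod_eq_zero (mem_univ (residue O b)) (sub_self _), Multiset.prod_eq_zero
      (Multiset.mem_map.mpr ⟨b, hb, by simp⟩), map_zero, zero_add] at h5
    exact one_ne_zero h5
  let f : Fin n ↪ ResidueField O := Fin.valEmbedding.trans (Infinite.natEmbedding _)
  choose s hs using residue_surjective (R := O)
  exact ⟨fun i => s (f i), fun i j h => f.injective (by simpa only [hs] using h)⟩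

theorem eq_zero_of_mul_eq_zero {G : Type*} [Group G] [Fintype G] {O B : Type*} [CommRing O]
    [IsDomain O] [CharZero O] [Ring B] [Algebra O B] {e : MonoidAlgebra ℤ G} {D : ℤ} (hD : D ≠ 0)
    (he : e * e = D • e) (Φ : MonoidAlgebra O G →ₐ[O] B)
    (h : ∀ a, a * e = 0 → Φ (mapRingHom G (Int.castRingHom O) a) = 0) {a : MonoidAlgebra O G}
    (ha : a * mapRingHom G (Int.castRingHom O) e = 0) : Φ a = 0 := by
  have := Module.Free.of_basis (MonoidAlgebra.basis G ℤ)
  have := Module.Finite.of_basis (MonoidAlgebra.basis G ℤ)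
  have := Module.Free.of_basis (MonoidAlgebra.basis G O)
  set ι := mapRingHom G (Int.castRingHom O)
  have hι : ∀ g, ι (single g 1) = single g 1 := fun g => by simp [ι]
  let ψ := LinearMap.mulRight ℤ e
  obtain ⟨s, hs⟩ := ψ.rangeRestrict.exists_rightInverse_of_surjective ψ.range_rangeRestrict
  let S := s.comp ψ.rangeRestrict
  have hS : ∀ w, S w * e = w * e := fun w =>
    congrArg Subtype.val (LinearMap.congr_fun hs (ψ.rangeRestrict w))
  have hS2 : ∀ w, S (w * e) = D • S w := fun w => by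
    simp only [S, LinearMap.comp_apply]
    rw [← map_smul]
    congr 1
    apply Subtype.ext
    change w * e * e = D • (w * e)
    rw [mul_assoc, he, mul_smul_comm]
  let T := (MonoidAlgebra.basis G O).constr O fun g => ι (S (single g 1))
  have hT0 : ∀ g, T (single g 1) = ι (S (single g 1)) := fun g =>
    (MonoidAlgebra.basis G O).constr_basis O _ g
  have hT : ∀ w, T (ι w) = ι (S w) := by
    intro w
    induction w using MonoidAlgebra.induction_on with
    | of g => rw [of_apply, hι, hT0]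
    | add a b ha hb => simp only [map_add, ha, hb]
    | smul r a ha => simp only [map_zsmul, ha]
  have h1 : ∀ b, T (b * ι e) = D • T b := by
    intro b
    induction b using MonoidAlgebra.induction_on with
    | of g => rw [of_apply, hT0, ← hι, ← map_mul, hT, hS2, map_zsmul]
    | add a b ha hb => simp only [map_add, add_mul, ha, hb, smul_add]
    | smul r a ha => rw [smul_mul_assoc, map_smul, map_smul, ha, smul_comm]
  have h2 : ∀ b, Φ b = Φ (T b) := by
    intro b
    induction b using MonoidAlgebra.induction_on with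
    | of g =>
      rw [of_apply, hT0, ← sub_eq_zero, ← map_sub]
      nth_rewrite 1 [← hι]
      rw [← map_sub]
      exact h _ (by rw [sub_mul, hS, sub_self])
    | add a b ha hb => simp only [map_add, ← ha, ← hb]
    | smul r a ha => simp only [map_smul, ← ha]
  have h3 := h1 a
  rw [ha, map_zero, eq_comm, ← Int.cast_smul_eq_zsmul O, smul_eq_zero] at h3
  rw [h2, h3.resolve_left (Int.cast_ne_zero.mpr hD), map_zero]

theorem GreenData.exists_idem {p : ℕ} {G : Type*} [Group G] [Fintype G] (D : GreenData p G)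
    [hp : Fact p.Prime] [Fintype D.K] (O : ValuationSubring ℂ) (hO : O.valuation (p : ℂ) < 1) :
    ∃ (n : ℕ) (E : Fin n → MonoidAlgebra O G),
      |∑ i ∈ Ico 1 p, ∑ k : D.K, D.e.coeff (k * D.x ^ i)⁻¹| ≤ Nat.card D.K * ((p - 1 : ℕ) * n) ∧
      (∀ i, E i * E i = E i) ∧ (∀ i j, i ≠ j → E i * E j = 0) ∧
      ∀ i, E i * mapRingHom G (Int.castRingHom O) D.e ≠ 0 := by
  classical
  obtain ⟨n, ρ, h1, h2, h3⟩ := D.exists_rep_bound
  have hc : CharP (ResidueField O) p := by
    refine (CharP.charP_iff_prime_eq_zero hp.out).mpr ?_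
    rw [← map_natCast (residue O), residue_eq_zero_iff, ValuationSubring.valuation_lt_one_iff]
    simpa using hO
  let φ : Matrix (Fin n) (Fin n) (ZMod p) →+* Matrix (Fin n) (Fin n) (ResidueField O) :=
    (ZMod.castHom (dvd_refl p) (ResidueField O)).mapMatrix
  let Φ := MonoidAlgebra.lift O _ G (φ.toMonoidHom.comp ρ)
  have hΦ : ∀ a, Φ (mapRingHom G (Int.castRingHom O) a) = φ (MonoidAlgebra.lift ℤ _ G ρ a) := by
    intro a
    induction a using MonoidAlgebra.induction_on with
    | of g => simp [Φ]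
    | add a b ha hb => simp only [map_add, ha, hb]
    | smul r a ha => simp only [map_zsmul, ha]
  choose a ha using h3
  obtain ⟨l, hl⟩ := exists_injective_residue O n
  have := Module.Finite.of_basis (MonoidAlgebra.basis G O)
  obtain ⟨E, h4, h5, h6⟩ := exists_idempotents O Φ
    (∑ i, l i • mapRingHom G (Int.castRingHom O) (a i)) l hl (by
      simp only [map_sum, map_smul, hΦ, ha]
      ext i j
      rw [Matrix.sum_apply, sum_eq_single i]
      · by_cases h : i = j
        · subst h; simp [φ, Algebra.smul_def]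
        · simp [φ, h]
      · intro k _ hk
        by_cases h : i = j
        · subst h; simp [φ, hk.symm]
        · simp [φ, h]
      · simp)
  refine ⟨n, E, h1, h4, h5, fun i h => h6 i ?_⟩
  exact eq_zero_of_mul_eq_zero (Nat.cast_ne_zero.mpr Nat.card_pos.ne') D.idem Φ
    (fun a ha => by rw [hΦ, h2 a ha, map_zero]) h

/-- The degree of an irreducible character. -/
noncomputable def deg {G : Type*} [Group G] (χ : IrrCharacter G) : ℕ :=
  (IsIrrCharacter.exists_nat_pos χ.2).choose

theorem deg_eq {G : Type*} [Group G] (χ : IrrCharacter G) : χ.1 1 = deg χ :=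
  (IsIrrCharacter.exists_nat_pos χ.2).choose_spec.2

theorem deg_pos {G : Type*} [Group G] (χ : IrrCharacter G) : 0 < deg χ :=
  (IsIrrCharacter.exists_nat_pos χ.2).choose_spec.1

theorem deg_irrOne {G : Type*} [Group G] : deg (irrOne G) = 1 := by
  have := deg_eq (irrOne G)
  rw [irrOne_val, Pi.one_apply] at this
  exact_mod_cast this.symm

theorem deg_dvd {G : Type*} [Group G] [Finite G] (χ : IrrCharacter G) : deg χ ∣ Nat.card G :=
  IsIrrCharacter.degree_dvd_card χ.2 (deg_eq χ)

theorem exists_nat_trace {m : Type*} [Fintype m] [DecidableEq m] {A : Matrix m m ℂ}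
    (h : A * A = A) : ∃ r : ℕ, A.trace = r ∧ (r = 0 → A = 0) := by
  have h1 : IsIdempotentElem (Matrix.toLin' A) := by
    change Matrix.toLin' A ∘ₗ Matrix.toLin' A = _
    rw [← Matrix.toLin'_mul, h]
  refine ⟨_, (Matrix.trace_toLin'_eq A).symm.trans (LinearMap.IsIdempotentElem.isProj_range _ h1).trace, fun h2 => ?_⟩
  apply Matrix.toLin'.injective
  rw [map_zero, ← LinearMap.range_eq_bot, ← Submodule.finrank_eq_zero, h2]

theorem exists_nat_idem {G : Type*} [Group G] [Fintype G] {O : ValuationSubring ℂ} {n : ℕ}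
    {E : Fin n → MonoidAlgebra O G} (h1 : ∀ i, E i * E i = E i)
    (h2 : ∀ i j, i ≠ j → E i * E j = 0) (χ : IrrCharacter G) :
    ∃ r : Fin n → ℕ, (∀ i, ∑ g, ((E i).coeff g : ℂ) * χ.1 g = r i) ∧ ∑ i, r i ≤ deg χ ∧
      ∀ i, r i = 0 → ∀ h, ∑ g, ((E i).coeff g : ℂ) * χ.1 (g * h) = 0 := by
  obtain ⟨m, M, hM⟩ := IsCharacter.exists_matrix (IsIrrCharacter.isCharacter χ.2)
  let Ψ := MonoidAlgebra.lift O _ G M
  have hΨ : ∀ a h, (Ψ a * M h).trace = ∑ g, (a.coeff g : ℂ) * χ.1 (g * h) := by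
    intro a h
    rw [lift_apply, Finsupp.sum_fintype _ (fun a (b : O) => b • M a) (fun _ => zero_smul _ _),
      sum_mul, Matrix.trace_sum]
    refine sum_congr rfl fun g _ => ?_
    rw [smul_mul_assoc, Matrix.trace_smul, ← map_mul, hM]; rfl
  choose r hr hr0 using fun i => exists_nat_trace (A := Ψ (E i)) (by rw [← map_mul, h1])
  refine ⟨r, fun i => ?_, ?_, fun i hi h => ?_⟩
  · have := hΨ (E i) 1
    simp only [map_one, mul_one] at this
    rw [← this, hr]
  · have h3 : (∑ i, E i) * ∑ i, E i = ∑ i, E i := by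
      rw [sum_mul_sum]
      exact sum_congr rfl fun i _ => by
        rw [sum_eq_single i (fun j _ hj => h2 _ _ hj.symm) (by simp), h1]
    obtain ⟨s, hs, -⟩ := exists_nat_trace (A := Ψ (1 - ∑ i, E i)) (by
      rw [← map_mul, sub_mul, mul_sub, mul_sub, h3, one_mul, one_mul, mul_one, sub_self, sub_zero])
    have h4 := deg_eq χ
    rw [map_sub, map_one, map_sum, Matrix.trace_sub, Matrix.trace_sum] at hs
    simp only [hM, map_one] at h4
    simp only [hr] at hs
    have h5 : deg χ = s + ∑ i, r i := by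
      have : ((deg χ : ℕ) : ℂ) = ((s + ∑ i, r i : ℕ) : ℂ) := by
        push_cast
        rw [← hs, h4, sub_add_cancel]
      exact_mod_cast this
    omega
  · rw [← hΨ, hr0 i hi, zero_mul, Matrix.trace_zero]

theorem sum_idem_eq_zero {G : Type*} [Group G] [Fintype G] {p : ℕ} (hp : p.Prime)
    {O : ValuationSubring ℂ} (hO : O.valuation (p : ℂ) < 1) {E : MonoidAlgebra O G}
    (hE : E * E = E) {θ : G → ℂ} (hθ : IsClassFunction G θ)
    (h0 : ∀ g, ¬ p ∣ orderOf g → θ g = 0) : ∑ g, (E.coeff g : ℂ) * θ g = 0 := by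
  have h1 : ∀ g, p ∣ orderOf g → ∑ a : G, (E.coeff (a * g * a⁻¹) : ℂ) = 0 := by
    intro g hg
    have := sum_idempotent_conj_eq_zero hp hO (ε := fun g => (E.coeff g : ℂ))
      (fun g => O.valuation_le_one _) (g := g) (h := 1) (by
        ext g
        conv_rhs => rw [← hE, coeff_mul_apply_left,
          Finsupp.sum_fintype _ _ (fun _ => zero_mul _)]
        rw [conv_apply]
        push_cast
        rfl) (by simp) (fun a b n hn h _ => absurd (hg.trans (orderOf_dvd_of_pow_eq_one (by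
          rw [one_pow, eq_comm, mul_inv_eq_one, mul_eq_left] at h
          exact h))) hn)
    simpa using this
  have h2 : ∑ a : G, ∑ g, (E.coeff (a * g * a⁻¹) : ℂ) * θ g = 0 := by
    rw [sum_comm]
    refine sum_eq_zero fun g _ => ?_
    rw [← sum_mul]
    by_cases h : p ∣ orderOf g
    · rw [h1 g h, zero_mul]
    · rw [h0 g h, mul_zero]
  rw [sum_congr rfl (g := fun _ => ∑ g, (E.coeff g : ℂ) * θ g) fun a _ =>
    Fintype.sum_equiv (MulAut.conj a).toEquiv _ _ fun g => by rw [← hθ g a]; rfl, sum_const,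
    nsmul_eq_mul, mul_eq_zero] at h2
  exact h2.resolve_left (Nat.cast_ne_zero.mpr Fintype.card_ne_zero)

theorem GreenData.bound {p : ℕ} {G : Type*} [Group G] [Fintype G] (D : GreenData p G)
    [hp : Fact p.Prime] [Fintype D.K] (T : Finset (IrrCharacter G))
    (hT : ∀ g, (D.e.coeff g : ℂ) = ∑ χ ∈ T, χ.1 1 * χ.1 g⁻¹) :
    ∃ n : ℕ, ‖∑ i ∈ Ico 1 p, ∑ k : D.K, ∑ χ ∈ T, χ.1 1 * χ.1 (k * D.x ^ i)‖ ≤
        Nat.card D.K * ((p - 1 : ℕ) * n) ∧ n ≤ ∑ χ ∈ T, deg χ ∧
      ((∀ χ ∈ T, ∀ ψ ∈ T, ∀ g, ¬ p ∣ orderOf g → χ.1 g = ψ.1 g) → ∀ χ ∈ T, n ≤ deg χ) := by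
  classical
  obtain ⟨O, hO⟩ := exists_valuationSubring hp.out
  obtain ⟨n, E, h1, h2, h3, h4⟩ := D.exists_idem O hO
  choose r hr hr1 hr2 using exists_nat_idem h2 h3
  have h5 : ∀ i, ∃ χ ∈ T, 1 ≤ r χ i := by
    intro i
    by_contra h
    push Not at h
    apply h4 i
    ext g
    rw [coeff_mul_apply_left, Finsupp.sum_fintype _ _ (fun _ => zero_mul _)]
    simp only [coeff_mapRingHom]
    push_cast
    have : ∀ a, ((Int.castRingHom O (D.e.coeff (a⁻¹ * g)) : O) : ℂ) =
        ∑ χ ∈ T, χ.1 1 * χ.1 (a * g⁻¹) := fun a => by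
      rw [eq_intCast, SubringClass.coe_intCast, hT]
      refine sum_congr rfl fun χ _ => ?_
      rw [mul_inv_rev, inv_inv, IsCharacter.mul_comm (IsIrrCharacter.isCharacter χ.2)]
    simp only [this, mul_sum]
    rw [sum_comm]
    refine sum_eq_zero fun χ hχ => ?_
    simp only [mul_left_comm _ (χ.1 1)]
    rw [← mul_sum, hr2 χ i (Nat.lt_one_iff.mp (h χ hχ)), mul_zero]
  refine ⟨n, ?_, ?_, fun h χ hχ => ?_⟩
  · have h6 : ∑ i ∈ Ico 1 p, ∑ k : D.K, ∑ χ ∈ T, χ.1 1 * χ.1 (k * D.x ^ i) =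
        ((∑ i ∈ Ico 1 p, ∑ k : D.K, D.e.coeff (k * D.x ^ i)⁻¹ : ℤ) : ℂ) := by
      push_cast
      simp only [hT, inv_inv]
    rw [h6, Complex.norm_intCast]
    exact_mod_cast h1
  · calc n = ∑ _ : Fin n, 1 := by simp
      _ ≤ ∑ i, ∑ χ ∈ T, r χ i := sum_le_sum fun i _ => by
        obtain ⟨χ, hχ, h⟩ := h5 i
        exact h.trans (single_le_sum (f := fun χ => r χ i) (fun _ _ => Nat.zero_le _) hχ)
      _ = ∑ χ ∈ T, ∑ i, r χ i := sum_comm
      _ ≤ _ := sum_le_sum fun χ _ => hr1 χ
  · calc n = ∑ _ : Fin n, 1 := by simp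
      _ ≤ ∑ i, r χ i := sum_le_sum fun i _ => by
        obtain ⟨ψ, hψ, h6⟩ := h5 i
        have h7 := sum_idem_eq_zero hp.out hO (h2 i) (IsClassFunction.sub
          (IsIrrCharacter.isClassFunction χ.2) (IsIrrCharacter.isClassFunction ψ.2)) fun g hg => sub_eq_zero.mpr (h χ hχ ψ hψ g hg)
        simp only [Pi.sub_apply, mul_sub, sum_sub_distrib, hr, sub_eq_zero, Nat.cast_inj] at h7
        exact h7 ▸ h6
      _ ≤ _ := hr1 χ

end Cfsg.Agent.H6
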