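import Cfsg.Agent.H8.SFT4
import Cfsg.Agent.FT.I03

/-!
# Solvable signalizer functors for odd primes, part 1: local lemmas
-/

set_option autoImplicit false
set_option linter.unusedSectionVars false

namespace Cfsg.Agent.H6.SFO

open Subgroup Cfsg.Agent.L0 Cfsg.Agent.H8 Cfsg.Agent.H8.SF
open scoped commutatorElement Cfsg.Agent.FT

universe u

variable {G : Type u} [Group G] [Finite G] {p r t : ℕ} [hp : Fact p.Prime] [hr : Fact r.Prime]
  [ht : Fact t.Prime]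

omit hr ht in
theorem zp_eq_of_mem {a x : G} (ha : a ^ p = 1) (hx : x ∈ zpowers a) (h1 : x ≠ 1) :
    zpowers x = zpowers a := by
  have ha1 : a ≠ 1 := by
    rintro rfl
    exact h1 (by simpa using hx)
  have h2 := elemAb_orderOf (elemAb_zpowers ha) hx h1
  have h3 := elemAb_orderOf (elemAb_zpowers ha) (mem_zpowers a) ha1
  exact eq_of_le_of_card_ge (zp_le hx) (by rw [Nat.card_zpowers, Nat.card_zpowers, h2, h3])

omit hr ht in
theorem cent_eq_of_mem {a x : G} (ha : a ^ p = 1) (hx : x ∈ zpowers a) (h1 : x ≠ 1) :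
    𝐂[x] = 𝐂[a] := by
  rw [← centralizer_zpowers, zp_eq_of_mem ha hx h1, centralizer_zpowers]

theorem nbl_elem (hp2 : p ≠ 2) {V K : Subgroup G} {a : G} (ha : a ^ p = 1) (hrp : r ≠ p)
    (htp : t ≠ p) (htr : t ≠ r) (hV : IsElementaryAbelian t V) (hK : IsPGroup r K)
    (haV : a ∈ 𝐍(V)) (haK : a ∈ 𝐍(K)) (hKV : K ≤ 𝐍(V)) (h : r ≠ 2 ∨ IsMulCommutative K)
    (hC : V ⊓ 𝐂[a] = ⊥) : ⁅K, zpowers a⁆ ≤ 𝐂(V) := by
  by_cases ha1 : a = 1
  · subst ha1
    simp
  have hza : #|zpowers a| = p := by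
    rw [Nat.card_zpowers, elemAb_orderOf (elemAb_zpowers ha) (mem_zpowers a) ha1]
  have hc : CopAct (zpowers a) K :=
    CopAct.of_pgroup (pgroup_zpowers_of_pow ha) (not_dvd_card_of_pgroup hrp hK) (zp_le haK)
  rcases h with h | h
  · refine FT.B03.abelem_cent1_aux _ rfl (solvable_of_pgroup hK) ?_ ?_ (zp_le haK) hc.cop.symm
      (by rw [hza]; exact hp.out) hV hKV (zp_le haV) (not_dvd_card_of_pgroup htr.symm hK) ?_
      (by rwa [centralizer_zpowers])
    · have : Fact (Nat.Prime 2) := Nat.fact_prime_two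
      exact Nat.not_even_iff_odd.1 fun he => not_dvd_card_of_pgroup h hK he.two_dvd
    · rw [hza]; exact hp.out.odd_of_ne_two hp2
    · rw [hza]; exact fun hd => htp ((Nat.prime_dvd_prime_iff_eq ht.out hp.out).1 hd)
  · by_cases h0 : ⁅K, zpowers a⁆ = ⊥
    · rw [h0]; exact bot_le
    by_contra hn
    have h1 := hc.commutator_inf_centralizer_eq_bot h
    have hF : FT.IsFrob ⁅K, zpowers a⁆ (zpowers a) (⁅K, zpowers a⁆ ⊔ zpowers a) :=
      ⟨⟨rfl, hc.commutator.norm, by rw [inf_comm]; exact hc.commutator.inf_eq_bot⟩, h0,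
        by rwa [Ne, zpowers_eq_bot], fun x hx h2 => by
          rw [cent_eq_of_mem ha hx h2, ← centralizer_zpowers]; exact h1⟩
    refine FT.Frobenius_rfix_compl hF (elemAb_comm hV)
      (sup_le (hc.commutator_le.trans hKV) (zp_le haV))
      (coprime_of_pgroup (elemAb_pgroup hV) (not_dvd_card_of_pgroup htr.symm
        (hK.to_le hc.commutator_le))) hn (by rwa [centralizer_zpowers])

theorem nbl_core (hp2 : p ≠ 2) {R U : Subgroup G} {a : G} (ha : a ^ p = 1) (hrp : r ≠ p)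
    (htp : t ≠ p) (htr : t ≠ r) (hR : IsPGroup t R) (hU : IsPGroup r U)
    (haR : a ∈ 𝐍(R)) (haU : a ∈ 𝐍(U)) (hUR : U ≤ 𝐍(R)) (h : r ≠ 2 ∨ IsMulCommutative U)
    (hC : R ⊓ 𝐂[a] ≤ 𝐂(U)) : ⁅U, zpowers a⁆ ≤ 𝐂(R) := by
  have hpa := pgroup_zpowers_of_pow ha
  have hcU : CopAct (zpowers a) U :=
    CopAct.of_pgroup hpa (not_dvd_card_of_pgroup hrp hU) (zp_le haU)
  set U₀ := ⁅U, zpowers a⁆ with hU₀
  have h0 : U₀ ≤ U := hcU.commutator_le
  have hc : CopAct U₀ R :=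
    CopAct.of_pgroup (hU.to_le h0) (not_dvd_card_of_pgroup htr hR) (h0.trans hUR)
  have haU₀ : zpowers a ≤ 𝐍(U₀) := hcU.commutator.norm
  set R₁ := ⁅R, U₀⁆ with hR₁
  have hR₁R : R₁ ≤ R := hc.commutator_le
  have hc₁ : CopAct U₀ R₁ := hc.commutator
  have haR₁ : zpowers a ≤ 𝐍(R₁) := le_normalizer_commutator (zp_le haR) haU₀
  have hca : CopAct (zpowers a) R₁ :=
    CopAct.of_pgroup hpa (not_dvd_card_of_pgroup htp (hR.to_le hR₁R)) haR₁
  rw [le_centralizer_iff, ← commutator_eq_bot_iff_le_centralizer, ← hR₁]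
  by_contra hne
  set N := FT.Phi R₁
  have hn1 : R₁ ≤ 𝐍(N) := (FT.Phi_normalIn R₁).norm
  have hn2 : U₀ ≤ 𝐍(N) := hc₁.norm.trans (FT.normalizer_le_Phi R₁)
  have hn3 : zpowers a ≤ 𝐍(N) := haR₁.trans (FT.normalizer_le_Phi R₁)
  have hV := FT.elemAb_quo_Phi (hR.to_le hR₁R)
  have hVW : ⁅R₁ ⁒ N, U₀ ⁒ N⁆ = R₁ ⁒ N := by
    rw [← FT.quo_commutator hn1 hn2, hR₁, hc.commutator_commutator]
  have h1 : R₁ ⁒ N ⊓ 𝐂(U₀ ⁒ N) = ⊥ := by
    have := (FT.copAct_quo hc₁ N).commutator_inf_centralizer_eq_bot (elemAb_comm hV)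
    rwa [hVW] at this
  have hza := FT.quo_zpowers (hn3 (mem_zpowers a))
  have h2 : R₁ ⁒ N ⊓ 𝐂[FT.coset N a] = ⊥ := by
    rw [← centralizer_zpowers, ← hza, FT.CopAct.quo_inf_centralizer hca hn3 hn1, eq_bot_iff, ← h1,
      FT.CopAct.quo_inf_centralizer hc₁ hn2 hn1, centralizer_zpowers]
    exact FT.quo_mono (le_inf inf_le_left
      ((inf_le_inf_right _ hR₁R).trans (hC.trans (centralizer_le h0)))) N
  have h3 := nbl_elem hp2 (a := FT.coset N a)
    (by rw [← FT.coset_pow (hn3 (mem_zpowers a)), ha, FT.coset_one]) hrp htp htr hV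
    (FT.pgroup_quo (hU.to_le h0) N)
    (FT.quo_le_normalizer haR₁ N (FT.coset_mem_quo (mem_zpowers a)))
    (FT.quo_le_normalizer haU₀ N (FT.coset_mem_quo (mem_zpowers a)))
    (FT.quo_le_normalizer hc₁.norm N)
    (h.imp_right fun h => FT.comm_quo (isMulCommutative_of_le h h0) N) h2
  rw [← hza, ← FT.quo_commutator hn2 hn3, hU₀, hcU.commutator_commutator, ← hU₀, le_centralizer_iff,
    ← commutator_eq_bot_iff_le_centralizer, hVW, FT.quo_eq_bot_iff hn1] at h3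
  exact (FT.Phi_lt hne).not_ge h3

omit hp hr in
theorem Oppp_le (X : Subgroup G) : Oppp t X ≤ X := map_subtype_le _

omit hp hr in
theorem norm_Oppp {Y X : Subgroup G} (h : Y ≤ 𝐍(X)) : Y ≤ 𝐍(Oppp t X) :=
  h.trans (normalizer_le_normalizer_Oppp X)

omit hp hr in
theorem pgroup_Oppp_quo (X : Subgroup G) : IsPGroup t (Oppp t X ⁒ Opp t X) := by
  rw [FT.Oppp_eq_copre, FT.quo_copre]
  exact Op_pgroup _

theorem nbl_Opp (hp2 : p ≠ 2) {X U : Subgroup G} {a : G} (hs : Group.IsSolvable X)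
    (hX : ¬ p ∣ #|X|) (ha : a ^ p = 1) (haX : a ∈ 𝐍(X)) (htr : t ≠ r) (hU : IsPGroup r U)
    (hUX : U ≤ X) (haU : a ∈ 𝐍(U)) (h : r ≠ 2 ∨ ⁅U, U⁆ ≤ Opp t X)
    (hC : ⁅Oppp t X ⊓ 𝐂[a], U⁆ ≤ Opp t X) : ⁅U, zpowers a⁆ ≤ Opp t X := by
  have h0 : ⁅U, zpowers a⁆ ≤ U := le_normalizer_iff_commutator_le_left.1 (zp_le haU)
  by_cases hrp : r = p
  · subst hrp
    rw [eq_bot_of_isPGroup_of_not_dvd hU (H8.not_dvd_card_of_le hUX hX), commutator_bot_left]
    exact bot_le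
  by_cases htp : t = p
  · subst htp
    exact (h0.trans hUX).trans (le_Opp le_rfl le_normalizer hX)
  set N := Opp t X
  have hn1 : X ≤ 𝐍(N) := self_norm_Opp X
  have hn3 : zpowers a ≤ 𝐍(N) := norm_Opp (zp_le haX)
  have hK : Oppp t X ≤ 𝐍(N) := (Oppp_le X).trans hn1
  have haK : zpowers a ≤ 𝐍(Oppp t X) := norm_Oppp (zp_le haX)
  have hca : CopAct (zpowers a) (Oppp t X) := CopAct.of_pgroup (pgroup_zpowers_of_pow ha)
    (H8.not_dvd_card_of_le (Oppp_le X) hX) haK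
  have hza := FT.quo_zpowers (hn3 (mem_zpowers a))
  have h3 := nbl_core hp2 (a := FT.coset N a)
    (by rw [← FT.coset_pow (hn3 (mem_zpowers a)), ha, FT.coset_one]) hrp htp htr
    (pgroup_Oppp_quo X) (FT.pgroup_quo hU N)
    (FT.quo_le_normalizer haK N (FT.coset_mem_quo (mem_zpowers a)))
    (FT.quo_le_normalizer (zp_le haU) N (FT.coset_mem_quo (mem_zpowers a)))
    (FT.quo_le_normalizer (hUX.trans (norm_Oppp le_normalizer)) N)
    (h.imp_right fun h => (FT.isMulCommutative_quo_iff (hUX.trans hn1)).2 h) (by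
      rw [← centralizer_zpowers, ← hza, FT.CopAct.quo_inf_centralizer hca hn3 hK,
        FT.quo_le_centralizer_iff (inf_le_left.trans hK) (hUX.trans hn1), centralizer_zpowers]
      exact hC)
  rw [← hza, ← FT.quo_commutator (hUX.trans hn1) hn3,
    FT.quo_le_centralizer_iff ((h0.trans hUX).trans hn1) hK, commutator_comm] at h3
  exact le_Opp_of_commutator_le (isPConstrained_of_solvable hs) (h0.trans hUX)
    (not_dvd_card_of_pgroup htr.symm (hU.to_le h0)) h3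

omit hp ht in
theorem le_Op_of_Opp {X U : Subgroup G} (hUX : U ≤ X)
    (h : ∀ (t : ℕ) [Fact t.Prime], t ≠ r → U ≤ Opp t X) : U ≤ Op r X := by
  let J : Subgroup G := ⨅ t : {t : ℕ // t.Prime ∧ t ≠ r}, Opp t X
  have hJ : X ≤ 𝐍(J) := by
    refine le_trans (le_iInf fun t => ?_) (iInf_normalizer_le_normalizer_iInf _)
    have : Fact (t : ℕ).Prime := ⟨t.2.1⟩
    exact self_norm_Opp X
  rw [FT.Op_eq_Opi]
  refine le_trans (le_inf hUX (le_iInf fun t => ?_))
    (FT.le_Opi (N := X ⊓ J) ⟨inf_le_left, le_normalizer_inf le_normalizer hJ⟩ fun q hq hd => ?_)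
  · have : Fact (t : ℕ).Prime := ⟨t.2.1⟩
    exact h t t.2.2
  · by_contra hn
    have : Fact q.Prime := ⟨hq⟩
    exact H8.not_dvd_card_of_le (inf_le_right.trans (iInf_le_of_le ⟨q, hq, hn⟩ le_rfl))
      (Opp_not_dvd (q := q) X) hd

omit hp in
theorem comm_le_Opp {X U Y P : Subgroup G} (htr : t ≠ r) (hUX : U ≤ X) (hY : Y ≤ Oppp t X)
    (hP : IsPGroup r P) (hUP : U ≤ P) (hn : Y ≤ 𝐍(P)) : ⁅Y, U⁆ ≤ Opp t X := by
  refine le_Opp_of_le_Oppp (not_dvd_card_of_pgroup htr.symm (hP.to_le ?_)) ?_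
  · exact (commutator_mono le_rfl hUP).trans (le_normalizer_iff_commutator_le_right.1 hn)
  · exact (commutator_mono hY le_rfl).trans
      (le_normalizer_iff_commutator_le_left.1 (hUX.trans (norm_Oppp le_normalizer)))

omit ht in
/-- A subgroup whose commutators with centralizers of hyperplanes are `r`-groups. -/
theorem le_Op_of_hyp {A X U : Subgroup G} (hA : IsElementaryAbelian p A) (hA1 : A ≠ ⊥)
    (hc : CopAct A X) (hs : Group.IsSolvable X) (hU : IsPGroup r U) (hUX : U ≤ X)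
    (h : ∀ B, B ≤ A → B.relIndex A = p → ∃ P : Subgroup G, IsPGroup r P ∧ U ≤ P ∧ X ⊓ 𝐂(B) ≤ 𝐍(P)) :
    U ≤ Op r X := by
  refine le_Op_of_Opp hUX fun t _ htr => ?_
  refine le_Opp_of_commutator_le (isPConstrained_of_solvable hs) hUX
    (not_dvd_card_of_pgroup htr.symm hU) ?_
  refine (hc.mono_right (Oppp_le X) (norm_Oppp hc.norm)).commutator_le_of_forall_hyperplane hA hA1
    ((Oppp_le X).trans (self_norm_Opp X)) fun B h1 h2 => ?_
  obtain ⟨P, hP, hUP, hn⟩ := h B h1 h2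
  exact comm_le_Opp htr hUX inf_le_left hP hUP ((inf_le_inf_right _ (Oppp_le X)).trans hn)

omit ht in
theorem nb_simple (hp2 : p ≠ 2) {X U P : Subgroup G} {a : G} (hs : Group.IsSolvable X)
    (hX : ¬ p ∣ #|X|) (ha : a ^ p = 1) (haX : a ∈ 𝐍(X)) (hUX : U ≤ X) (haU : a ∈ 𝐍(U))
    (h : r ≠ 2 ∨ ⁅U, U⁆ = ⊥) (hP : IsPGroup r P) (hUP : U ≤ P) (hn : X ⊓ 𝐂[a] ≤ 𝐍(P)) :
    ⁅U, zpowers a⁆ ≤ Op r X := by
  refine le_Op_of_Opp ((le_normalizer_iff_commutator_le_left.1 (zp_le haU)).trans hUX)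
    fun t _ htr => nbl_Opp hp2 hs hX ha haX htr (hP.to_le hUP) hUX haU
      (h.imp_right fun h => h.le.trans bot_le) ?_
  exact comm_le_Opp htr hUX inf_le_left hP hUP ((inf_le_inf_right _ (Oppp_le X)).trans hn)

omit ht in
theorem nb_hyp (hp2 : p ≠ 2) {A X U : Subgroup G} {a : G} (hA : IsElementaryAbelian p A)
    (hs : Group.IsSolvable X) (hX : ¬ p ∣ #|X|) (hAX : A ≤ 𝐍(X)) (ha : a ∈ A) (ha1 : a ≠ 1)
    (hU : IsPGroup r U) (hUX : U ≤ X) (haU : a ∈ 𝐍(U)) (h : ⁅U, U⁆ ≤ Op r X)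
    (hn : ∀ B, B ≤ A → B.relIndex A = p →
      ∃ P : Subgroup G, IsPGroup r P ∧ U ≤ P ∧ X ⊓ 𝐂[a] ⊓ 𝐂(B) ≤ 𝐍(P)) :
    ⁅U, zpowers a⁆ ≤ Op r X := by
  refine le_Op_of_Opp ((le_normalizer_iff_commutator_le_left.1 (zp_le haU)).trans hUX)
    fun t _ htr => nbl_Opp hp2 hs hX (elemAb_pow hA ha) (hAX ha) htr hU hUX haU
      (Or.inr (h.trans (Op_le_Opp htr.symm X))) ?_
  have hc := ((copAct_of_elemAb hA hX hAX).mono_right (Oppp_le (t := t) X)
    (norm_Oppp hAX)).inf_right (elemAb_le_normalizer_centralizer_singleton hA ha)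
  refine hc.commutator_le_of_forall_hyperplane hA
    (fun h' => ha1 (mem_bot.1 (h' ▸ ha)))
    ((inf_le_left.trans (Oppp_le X)).trans (self_norm_Opp X)) fun B h1 h2 => ?_
  obtain ⟨P, hP, hUP, hn⟩ := hn B h1 h2
  exact comm_le_Opp htr hUX (inf_le_left.trans inf_le_left) hP hUP
    ((inf_le_inf_right _ (inf_le_inf_right _ (Oppp_le X))).trans hn)

omit ht in
/-- All points of `B` but one are harmless and `U = [U, x]`. -/
theorem le_Op_of_points {B X U : Subgroup G} {x : G} (hB : IsElementaryAbelian p B)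
    (hB2 : p ^ 2 ≤ #|B|) (hc : CopAct B X) (hs : Group.IsSolvable X) (hx : x ∈ B)
    (hU : IsPGroup r U) (hUX : U ≤ X) (hUx : U ≤ ⁅U, zpowers x⁆)
    (h : ∀ y ∈ B, y ∉ zpowers x → ∃ P : Subgroup G, IsPGroup r P ∧ U ≤ P ∧ X ⊓ 𝐂[y] ≤ 𝐍(P)) :
    U ≤ Op r X := by
  refine le_Op_of_Opp hUX fun t _ htr => ?_
  refine le_Opp_of_commutator_le (isPConstrained_of_solvable hs) hUX
    (not_dvd_card_of_pgroup htr.symm hU) ?_
  set K := Oppp t X
  set N := Opp t X
  have hcK := hc.mono_right (Oppp_le (t := t) X) (norm_Oppp hc.norm)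
  have hXN : X ≤ 𝐍(N) := self_norm_Opp X
  have hKN : K ≤ 𝐍(N) := (Oppp_le X).trans hXN
  have hUK : U ≤ 𝐍(K) := hUX.trans (norm_Oppp le_normalizer)
  have h1 : ⁅K, zpowers x⁆ ≤ cmod N U := by
    refine commutator_zp_le hB hcK le_rfl hB2 hx fun y hy hy1 => ?_
    by_cases hyx : y ∈ zpowers x
    · rw [cent_eq_of_mem (elemAb_pow hB hx) hyx hy1, comm_zp_eq_bot.2 inf_le_right]
      exact bot_le
    obtain ⟨P, hP, hUP, hn⟩ := h y hy hyx
    refine le_trans (le_normalizer_iff_commutator_le_left.1 ((zp_le hx).trans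
      (le_normalizer_inf hcK.norm (elemAb_le_normalizer_centralizer_singleton hB hy))))
      (le_cmod (inf_le_left.trans hKN) ?_)
    exact comm_le_Opp htr hUX inf_le_left hP hUP ((inf_le_inf_right _ (Oppp_le X)).trans hn)
  set W := N ⊔ ⁅K, zpowers x⁆
  have hW : ⁅W, U⁆ ≤ N := commutator_le_of_le_cmod (sup_le (le_cmod le_normalizer
    (le_normalizer_iff_commutator_le_left.1 (hUX.trans hXN))) h1)
  have hUW : U ≤ 𝐍(W) := le_normalizer_iff_commutator_le_left.2 (hW.trans le_sup_left)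
  have h2 : zpowers x ≤ cmod W K :=
    le_cmod (le_normalizer_sup (norm_Opp ((zp_le hx).trans hc.norm))
      (normalizer_commutator_ge_right _ _)) (by rw [commutator_comm]; exact le_sup_right)
  have h3 : U ≤ cmod W K := hUx.trans ((commutator_mono le_rfl h2).trans
    (le_normalizer_iff_commutator_le_right.1 ((le_inf hUW hUK).trans normalizer_le_normalizer_cmod)))
  have h4 : ⁅K, U⁆ ≤ W := by rw [commutator_comm]; exact commutator_le_of_le_cmod h3
  have hWN : W ≤ 𝐍(N) := sup_le le_normalizer ((le_normalizer_iff_commutator_le_left.1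
    ((zp_le hx).trans hcK.norm)).trans hKN)
  have hcq : CopAct (U ⁒ N) (K ⁒ N) := CopAct.of_pgroup (FT.pgroup_quo hU N)
    (not_dvd_card_of_pgroup htr (pgroup_Oppp_quo X)) (FT.quo_le_normalizer hUK N)
  rw [← FT.quo_le_centralizer_iff hKN (hUX.trans hXN)]
  refine hcq.le_centralizer_of_commutator_le (N := W ⁒ N)
    ((FT.quo_le_centralizer_iff hWN (hUX.trans hXN)).2 hW) ?_
  rw [← FT.quo_commutator hKN (hUX.trans hXN)]
  exact FT.quo_mono h4 N

omit hr ht in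
/-- `[K, E]` is generated by the `[C_K(y), E]`, `y ∈ B`. -/
theorem comm_le_points {B K E H : Subgroup G} (hB : IsElementaryAbelian p B)
    (hB2 : p ^ 2 ≤ #|B|) (h : CopAct B K) (hE : CopAct E K) (hEB : E ≤ 𝐂(B))
    (hH : ∀ y ∈ B, y ≠ 1 → ⁅K ⊓ 𝐂[y], E⁆ ≤ H) : ⁅K, E⁆ ≤ H := by
  let D : Subgroup G := ⨆ y : {y : G // y ∈ B ∧ y ≠ 1}, ⁅K ⊓ 𝐂[(y : G)], E⁆
  have hc : ∀ y ∈ B, CopAct B (K ⊓ 𝐂[y]) := fun y hy =>
    h.inf_right (elemAb_le_normalizer_centralizer_singleton hB hy)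
  have hc' : ∀ y ∈ B, CopAct E (K ⊓ 𝐂[y]) := fun y hy =>
    hE.inf_right ((hEB.trans (centralizer_le_singleton hy)).trans le_normalizer)
  have hBE : B ≤ 𝐍(E) := (le_centralizer_iff.1 hEB).trans (cent_le_norm E)
  have hDK : D ≤ K := iSup_le fun y => (hc' y y.2.1).commutator_le.trans inf_le_left
  have hAD : B ≤ 𝐍(D) := norm_iSup fun y => le_normalizer_commutator (hc y y.2.1).norm hBE
  have hED : E ≤ 𝐍(D) := norm_iSup fun y => normalizer_commutator_ge_right _ _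
  have hCD : K ⊓ 𝐂(B) ≤ 𝐍(D) := norm_iSup fun y =>
    (inf_le_inf_left K (centralizer_le_singleton y.2.1)).trans (normalizer_commutator_ge_left _ _)
  have h1 : IsProd K D (K ⊓ 𝐂(E)) := by
    refine h.isProd hB hB2 hDK inf_le_left hAD
      (le_normalizer_inf h.norm (le_normalizer_centralizer hBE))
      ((inf_le_inf_right _ inf_le_left).trans hCD) hCD fun y hy hy1 x hx => ?_
    obtain ⟨n, hn, c, hc'', rfl⟩ := (hc' y hy).exists_eq_commutator_mul hx
    refine ⟨n, ⟨le_iSup (fun y : {y : G // y ∈ B ∧ y ≠ 1} => ⁅K ⊓ 𝐂[(y : G)], E⁆)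
      ⟨y, hy, hy1⟩ hn, ((hc' y hy).commutator_le hn).2⟩, c, ⟨⟨hc''.1.1, hc''.2⟩, hc''.1.2⟩, rfl⟩
  refine le_trans (commutator_le_of_forall_eq_mul hED fun x hx => ?_)
    (iSup_le fun y => hH y y.2.1 y.2.2)
  obtain ⟨d, hd, c, hc', rfl⟩ := h1 x hx
  exact ⟨d, hd, c, hc'.2, rfl⟩

omit hr ht in
theorem card_zp {A : Subgroup G} (hA : IsElementaryAbelian p A) {y : G} (hy : y ∈ A) (h1 : y ≠ 1) :
    #|zpowers y| = p := by rw [Nat.card_zpowers, elemAb_orderOf hA hy h1]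

omit hr ht in
theorem hyp_of_pair {A : Subgroup G} (hA : IsElementaryAbelian p A) (h3 : #|A| = p ^ 3) {y z : G}
    (hy : y ∈ A) (h1 : y ≠ 1) (hz : z ∈ A) (hzy : z ∉ zpowers y) :
    (zpowers y ⊔ zpowers z).relIndex A = p := by
  refine relIndex_eq_of_card (sup_le (zp_le hy) (zp_le hz)) ?_
  rw [H5.card_sup_zpowers (norm_zp hA hy hz) hzy (by rw [elemAb_pow hA hz]; exact one_mem _),
    card_zp hA hy h1, h3]
  ring

omit hr ht in
/-- `[K, E]` is generated by the `[C_K(B), E]`, `B` a hyperplane. -/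
theorem comm_le_lines {A K E H : Subgroup G} (hA : IsElementaryAbelian p A)
    (h3 : #|A| = p ^ 3) (h : CopAct A K) (hE : CopAct E K) (hEA : E ≤ 𝐂(A))
    (hH : ∀ B, B ≤ A → B.relIndex A = p → ⁅K ⊓ 𝐂(B), E⁆ ≤ H) : ⁅K, E⁆ ≤ H := by
  refine comm_le_points hA (sq_le_of_cube h3.ge) h hE hEA fun y hy hy1 => ?_
  obtain ⟨W, hW, h1, h2⟩ := FT.B01.exists_compl_abelem hA (zp_le hy)
  have h4 := card_sup_mul_card_inf (hW.trans (norm_zp hA hy))
  rw [h1, h2, h3, card_bot, card_zp hA hy hy1, mul_one, pow_succ'] at h4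
  have h5 := Nat.eq_of_mul_eq_mul_left hp.out.pos h4
  refine comm_le_points (elemAb_mono hA hW) h5.le
    ((h.inf_right (elemAb_le_normalizer_centralizer_singleton hA hy)).mono_left hW)
    (hE.inf_right ((hEA.trans (centralizer_le_singleton hy)).trans le_normalizer))
    (hEA.trans (centralizer_le hW)) fun z hz hz1 => ?_
  have hzy : z ∉ zpowers y := fun h' => hz1 (mem_bot.1 (h1 ▸ mem_inf.2 ⟨h', hz⟩))
  refine le_trans (commutator_mono (le_of_eq ?_) le_rfl)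
    (hH _ (sup_le (zp_le hy) (zp_le (hW hz))) (hyp_of_pair hA h3 hy hy1 (hW hz) hzy))
  rw [centralizer_sup_zpowers, centralizer_zpowers, inf_assoc]

omit hr ht in
theorem comm_zp_le_lines {A K H : Subgroup G} (hA : IsElementaryAbelian p A)
    (h3 : #|A| = p ^ 3) (h : CopAct A K) {a : G} (ha : a ∈ A)
    (hH : ∀ B, B ≤ A → B.relIndex A = p → ⁅K ⊓ 𝐂(B), zpowers a⁆ ≤ H) : ⁅K, zpowers a⁆ ≤ H :=
  comm_le_lines hA h3 h (h.mono_left (zp_le ha))
    ((zp_le ha).trans (le_centralizer_of_comm (elemAb_comm hA) le_rfl)) hH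

omit hp hr ht in
/-- An automorphism centralizing the Fitting subgroup. -/
theorem le_cent_of_Op {K : Subgroup G} {a : G} (hc : CopAct (zpowers a) K) (hs : Group.IsSolvable K)
    (h1 : ∀ (s : ℕ) [Fact s.Prime], Op s K ≤ 𝐂[a]) : K ≤ 𝐂[a] := by
  rw [← centralizer_zpowers]
  refine hc.le_centralizer_of_commutator_le (N := (fittingSubgroup K).map K.subtype) ?_
    (le_fitting_of_forall hs hc.commutator_le fun r _ => ?_)
  · rw [map_fitting_eq_iSup, centralizer_zpowers]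
    exact iSup_le fun r => haveI : Fact (r : ℕ).Prime := ⟨r.2⟩; h1 r
  · refine three_subgroups ?_ ?_
    · refine commutator_le_centralizer_of_le_centralizer _ (le_centralizer_iff.mp ?_)
      rw [centralizer_zpowers]; exact h1 r
    · rw [centralizer_zpowers]
      exact (le_normalizer_iff_commutator_le_left.mp (self_norm_Op K)).trans (h1 r)

omit hp ht in
theorem le_Oppp_of_cent {X T E : Subgroup G} (hs : Group.IsSolvable X) (hT : IsSylowIn r T X)
    (hEX : E ≤ X) (hE : E ≤ 𝐂(T)) : E ≤ Oppp r X := by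
  refine le_Oppp_of_commutator_le (isPConstrained_of_solvable hs) hEX
    (commutator_le_of_forall_eq_mul (hEX.trans (self_norm_Opp X)) fun x hx => ?_)
  obtain ⟨n, hn, s, hs', rfl⟩ :=
    (mem_sup_of_le_normalizer (hT.le.trans (self_norm_Opp X))).mp (Oppp_le_sup hT hx)
  exact ⟨n, hn, s, le_centralizer_iff.1 hE hs', rfl⟩

omit hp ht in
theorem le_Opp_of_sylow {X T R : Subgroup G} (hs : Group.IsSolvable X) (hT : IsSylowIn r T X)
    (hRX : R ≤ X) (hR : ¬ r ∣ #|R|) (hn : T ≤ 𝐍(R)) : R ≤ Opp r X := by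
  refine le_Opp_of_commutator_le (isPConstrained_of_solvable hs) hRX hR
    (commutator_le_of_le_cmod fun x hx => ?_)
  obtain ⟨n, hn', s, hs', rfl⟩ :=
    (mem_sup_of_le_normalizer (hT.le.trans (self_norm_Opp X))).mp (Oppp_le_sup hT hx)
  have h1 : s ∈ Oppp r X := (mul_mem_cancel_left (Opp_le_Oppp X hn')).1 hx
  refine mul_mem (le_cmod le_normalizer
    (le_normalizer_iff_commutator_le_left.1 (hRX.trans (self_norm_Opp X))) hn')
    (le_cmod (X := T ⊓ Oppp r X) ((inf_le_left.trans hT.le).trans (self_norm_Opp X)) ?_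
      (mem_inf.2 ⟨hs', h1⟩))
  refine le_Opp_of_le_Oppp (H8.not_dvd_card_of_le ?_ hR) ?_
  · exact (commutator_mono inf_le_left le_rfl).trans (le_normalizer_iff_commutator_le_right.1 hn)
  · exact (commutator_mono inf_le_right le_rfl).trans
      (le_normalizer_iff_commutator_le_left.1 (hRX.trans (norm_Oppp le_normalizer)))

omit hp ht in
/-- In a `p`-group, the preimage of the centre modulo a proper normal subgroup grows. -/
theorem lt_inf_cmod {R P : Subgroup G} (hR : IsPGroup r R) (hlt : P < R) (hn : R ≤ 𝐍(P)) :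
    P < R ⊓ cmod P R := by
  refine lt_of_le_of_ne (le_inf hlt.le (le_cmod le_normalizer
    (le_normalizer_iff_commutator_le_left.1 hn))) fun h => ?_
  have h1 : R ⁒ P ≠ ⊥ := fun h' => hlt.not_ge ((FT.quo_eq_bot_iff hn).1 h')
  refine Zc_ne_bot (FT.pgroup_quo hR P) h1 (eq_bot_iff.2 fun z hz => ?_)
  obtain ⟨x, hx, rfl⟩ := (FT.mem_quo_of_le hn).1 (mem_inf.1 hz).1
  rw [mem_bot, FT.coset_eq_one_iff (hn hx), h]
  refine mem_inf.2 ⟨hx, hn hx, fun u hu => ?_⟩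
  rw [← FT.coset_eq_one_iff (hn (R.mul_mem (R.mul_mem (R.mul_mem hx hu) (R.inv_mem hx))
    (R.inv_mem hu)) : ⁅x, u⁆ ∈ 𝐍(P)), FT.coset_commutator (hn hx) (hn hu),
    commutatorElement_eq_one_iff_mul_comm]
  exact ((mem_inf.1 hz).2 _ (FT.coset_mem_quo hu)).symm

end Cfsg.Agent.H6.SFO
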