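import Cfsg.Agent.H6.SFO1

/-!
# Solvable signalizer functors for odd primes, part 2: the subgroups `PP` and `OO`
-/

set_option autoImplicit false
set_option linter.unusedSectionVars false

namespace Cfsg.Agent.H6.SFO

open Subgroup Cfsg.Agent.L0 Cfsg.Agent.H8 Cfsg.Agent.H8.SF
open scoped commutatorElement Cfsg.Agent.FT

universe u

variable {G : Type u} [Group G] {p : ℕ} {A : Subgroup G} {θ : G → Subgroup G}

/-- Hyperplanes of `A`. -/
structure Ln (p : ℕ) (A B : Subgroup G) : Prop where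
  le : B ≤ A
  idx : B.relIndex A = p

/-- A counterexample of rank three for an odd prime. -/
structure C3 (p : ℕ) (A : Subgroup G) (θ : G → Subgroup G) : Prop where
  ce : CE p A θ
  card : #|A| = p ^ 3
  odd : p ≠ 2

/-- The join of the `Y`-invariant `r`-members. -/
def PP (p : ℕ) (A : Subgroup G) (θ : G → Subgroup G) (r : ℕ) (Y : Subgroup G) : Subgroup G :=
  ⨆ U : {U : Subgroup G // Fam p A θ U ∧ IsPGroup r U ∧ Y ≤ 𝐍(U)}, U

/-- The meet of the `PP` of the values on hyperplanes. -/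
def OO (p : ℕ) (A : Subgroup G) (θ : G → Subgroup G) (r : ℕ) : Subgroup G :=
  ⨅ B : {B : Subgroup G // Ln p A B}, PP p A θ r (signalizerInf B θ)

theorem norm_iInf {ι : Sort*} {X : ι → Subgroup G} {H : Subgroup G} (h : ∀ i, H ≤ 𝐍(X i)) :
    H ≤ 𝐍((⨅ i, X i : Subgroup G)) := (le_iInf h).trans (iInf_normalizer_le_normalizer_iInf _)

variable {r t : ℕ} {U X Y B : Subgroup G} {x y : G}

theorem le_PP (h1 : Fam p A θ U) (h2 : IsPGroup r U) (h3 : Y ≤ 𝐍(U)) : U ≤ PP p A θ r Y :=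
  le_iSup (fun U : {U : Subgroup G // Fam p A θ U ∧ IsPGroup r U ∧ Y ≤ 𝐍(U)} => (U : Subgroup G))
    ⟨U, h1, h2, h3⟩

theorem self_norm_PP : Y ≤ 𝐍(PP p A θ r Y) := norm_iSup fun U => U.2.2.2

theorem norm_PP : A ≤ 𝐍(PP p A θ r Y) := norm_iSup fun U => U.2.1.norm

theorem PP_anti {Y' : Subgroup G} (h : Y ≤ Y') : PP p A θ r Y' ≤ PP p A θ r Y :=
  iSup_le fun U => le_PP U.2.1 U.2.2.1 (h.trans U.2.2.2)

theorem Op_le_PP (hX : Fam p A θ X) (h : Y ≤ X) : Op r X ≤ PP p A θ r Y :=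
  le_PP (fam_Op hX r) (Op_pgroup X) (h.trans (self_norm_Op X))

theorem OO_le (h : Ln p A B) : OO p A θ r ≤ PP p A θ r (signalizerInf B θ) :=
  iInf_le (fun B : {B : Subgroup G // Ln p A B} => PP p A θ r (signalizerInf B θ)) ⟨B, h⟩

theorem le_OO (h : ∀ B, Ln p A B → U ≤ PP p A θ r (signalizerInf B θ)) : U ≤ OO p A θ r :=
  le_iInf fun B => h B B.2

theorem norm_OO : A ≤ 𝐍(OO p A θ r) := norm_iInf fun _ => norm_PP

theorem cnorm_OO : signalizerInf A θ ≤ 𝐍(OO p A θ r) :=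
  norm_iInf fun B => (signalizerInf_anti B.2.le).trans self_norm_PP

theorem PP_le_line (hx : x ∈ B) (h1 : x ≠ 1) :
    PP p A θ r (θ x) ≤ PP p A θ r (signalizerInf B θ) := PP_anti (signalizerInf_le hx h1)

theorem cent_of_not_mem (hp : p.Prime) (hB : Ln p A B) (hx : x ∈ A) (hxB : x ∉ B) :
    𝐂[x] ⊓ 𝐂(B) ≤ 𝐂(A) := by
  rcases eq_or_eq_of_relIndex_prime hp hB.idx (le_sup_left : B ≤ B ⊔ zpowers x)
    (sup_le hB.le (zp_le hx)) with h | h
  · exact absurd (h.le (le_sup_right (a := B) (mem_zpowers x))) hxB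
  · rw [← h, centralizer_sup_zpowers, inf_comm]

variable [Finite G] [hp : Fact p.Prime] [hr : Fact r.Prime] [ht : Fact t.Prime]

omit hp hr ht in
theorem norm_of_cover {K : Subgroup G} (hB : IsElementaryAbelian p B) [Fact p.Prime]
    (hB2 : p ^ 2 ≤ #|B|) (h : CopAct B K)
    (hW : ∀ x ∈ B, x ≠ 1 → ∃ W, K ⊓ 𝐂[x] ≤ W ∧ W ≤ K ∧ Y ≤ 𝐍(W)) : Y ≤ 𝐍(K) := by
  have h1 : K = ⨆ W : {W : Subgroup G // W ≤ K ∧ Y ≤ 𝐍(W)}, (W : Subgroup G) := by
    refine le_antisymm (h.le_of_elements hB hB2 fun x hx h1 => ?_) (iSup_le fun W => W.2.1)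
    obtain ⟨W, h2, h3, h4⟩ := hW x hx h1
    exact le_iSup_of_le ⟨W, h3, h4⟩ h2
  rw [h1]
  exact norm_iSup fun W => W.2.2

namespace C3

variable (c : C3 p A θ)
include c

omit hr ht

omit [Finite G] hp in
theorem ssf : SSF p A θ := c.ce.ssf

omit [Finite G] hp in
theorem el : IsElementaryAbelian p A := c.ce.elem

omit [Finite G] hp in
theorem fam (hx : x ∈ A) (h1 : x ≠ 1) : Fam p A θ (θ x) := c.ce.ssf.fam hx h1

theorem cop (h : Fam p A θ X) : CopAct A X := h.copAct c.el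

theorem ln2 (h : Ln p A B) : p ^ 2 ≤ #|B| := c.ce.hyp2 h.le h.idx

theorem ln_ne_bot (h : Ln p A B) : B ≠ ⊥ := ne_bot_of_pow_le_card (k := 2) (by norm_num) (c.ln2 h)

theorem fam_ln (h : Ln p A B) : Fam p A θ (signalizerInf B θ) :=
  c.ssf.fam_inf c.el h.le (c.ln_ne_bot h)

theorem fam_C : Fam p A θ (signalizerInf A θ) := c.ssf.fam_inf c.el le_rfl c.ce.ne_bot

theorem exists_ln : ∃ B, Ln p A B := by
  obtain ⟨B, h1, h2⟩ := exists_hyperplane (elemAb_pgroup c.el) c.ce.ne_bot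
  exact ⟨B, h1, h2⟩

theorem exists_mem_inf {B' : Subgroup G} (h : Ln p A B) (h' : Ln p A B') :
    ∃ x ∈ B, x ∈ B' ∧ x ≠ 1 := by
  obtain ⟨x, hx, h1⟩ := exists_mem_ne_one_of_le_card (k := 1) one_ne_zero
    (pow_le_card_inf_of_hyperplanes h.le h'.le h.idx h'.idx (k := 1) c.ce.rank)
  exact ⟨x, hx.1, hx.2, h1⟩

theorem th_eq (hx : x ∈ A) (hy : y ∈ zpowers x) (h1 : y ≠ 1) : θ y = θ x := by
  have hx1 : x ≠ 1 := by
    rintro rfl
    exact h1 (by simpa using hy)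
  have h2 := cent_eq_of_mem (elemAb_pow c.el hx) hy h1
  have hyA := zp_le hx hy
  refine le_antisymm ((le_inf le_rfl ?_).trans (c.ssf.bal y hyA h1 x hx hx1))
    ((le_inf le_rfl ?_).trans (c.ssf.bal x hx hx1 y hyA h1))
  · rw [← h2]; exact c.ssf.le_cent y hyA h1
  · rw [h2]; exact c.ssf.le_cent x hx hx1

theorem mem_zp {B' : Subgroup G} (h : Ln p A B) (hne : ¬ B ≤ B') (hx : x ∈ B)
    (hx' : x ∈ B') (h1 : x ≠ 1) (hy : y ∈ B) (hy' : y ∈ B') : y ∈ zpowers x := by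
  by_contra hn
  have h2 := hyp_of_pair c.el c.card (h.le hx) h1 (h.le hy) hn
  rcases eq_or_eq_of_relIndex_prime hp.out h2 (sup_le (zp_le hx) (zp_le hy)) h.le with h3 | h3
  · exact hne (h3.le.trans (sup_le (zp_le hx') (zp_le hy')))
  · exact (lt_of_relIndex_prime hp.out h.le h.idx).ne h3

theorem le_of_pts {K H : Subgroup G} (hK : Fam p A θ K) (hB : Ln p A B)
    (h : ∀ x ∈ B, x ≠ 1 → K ⊓ 𝐂[x] ≤ H) : K ≤ H :=
  ((c.cop hK).mono_left hB.le).le_of_elements (elemAb_mono c.el hB.le) (c.ln2 hB) h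

theorem le_of_lns {K H : Subgroup G} (hK : Fam p A θ K)
    (h : ∀ B, Ln p A B → K ⊓ 𝐂(B) ≤ H) : K ≤ H :=
  (c.cop hK).le_of_hyperplanes c.el c.ce.ne_bot fun B h1 h2 => h B ⟨h1, h2⟩

theorem not_lns {M : Subgroup G} (hM : Fam p A θ M)
    (h : ∀ B, Ln p A B → signalizerInf B θ ≤ M) : False :=
  c.ce.not_hyp hM fun B h1 h2 => h B ⟨h1, h2⟩

theorem not_norm (hU : Fam p A θ U) (h1 : U ≠ ⊥)
    (h : ∀ B, Ln p A B → signalizerInf B θ ≤ 𝐍(U)) : False := by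
  obtain ⟨M, hM, ho⟩ := c.ce.exists_own hU h1
  exact c.not_lns hM.fam fun B hB => ho _ (c.fam_ln hB) (h B hB)

/-- The point lemma. -/
theorem not_point {M : Subgroup G} (hM : Fam p A θ M) (hx : x ∈ A) (h1 : x ≠ 1)
    (h : ∀ B, Ln p A B → x ∉ B → signalizerInf B θ ≤ M) : False := by
  have h2 : ∀ K, Fam p A θ K → ⁅K, zpowers x⁆ ≤ ⁅M, zpowers x⁆ := fun K hK => by
    refine comm_zp_le_lines c.el c.card (c.cop hK) hx fun B h3 h4 => ?_
    by_cases hxB : x ∈ B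
    · rw [comm_zp_eq_bot.2 (inf_le_right.trans (centralizer_le_singleton hxB))]
      exact bot_le
    · exact commutator_mono ((hK.inf_centralizer_le h3).trans (h B ⟨h3, h4⟩ hxB)) le_rfl
  by_cases h0 : ⁅M, zpowers x⁆ = ⊥
  · refine c.ce.nc ⟨θ x, c.fam hx h1, fun y hy hy1 => ?_⟩
    refine (le_inf le_rfl ?_).trans (c.ssf.bal y hy hy1 x hx h1)
    exact comm_zp_eq_bot.mp (eq_bot_iff.mpr ((h2 _ (c.fam hy hy1)).trans h0.le))
  refine c.not_norm (hM.mono (cop_zp c.el hM hx).commutator_le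
    (le_normalizer_commutator hM.norm (norm_zp c.el hx))) h0 fun B hB => ?_
  by_cases hxB : x ∈ B
  · have h3 : ⁅M, zpowers x⁆ = ⨆ y : {y : G // y ∈ B ∧ y ≠ 1}, ⁅θ y, zpowers x⁆ := by
      refine le_antisymm (commutator_zp_le c.el (c.cop hM) hB.le (c.ln2 hB) hx fun y hy hy1 => ?_)
        (iSup_le fun y => h2 _ (c.fam (hB.le y.2.1) y.2.2))
      exact le_iSup_of_le ⟨y, hy, hy1⟩ (commutator_mono (hM.le y (hB.le hy) hy1) le_rfl)
    rw [h3]
    exact norm_iSup fun y =>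
      (signalizerInf_le y.2.1 y.2.2).trans (normalizer_commutator_ge_left _ _)
  · exact (h B hB hxB).trans (normalizer_commutator_ge_left _ _)

include hr

theorem le_maxQ {S : Subgroup G} (hS : MaxQ p A θ r S) (h1 : Fam p A θ U) (h2 : IsPGroup r U)
    (h3 : signalizerInf A θ ≤ 𝐍(U)) : U ≤ S := by
  obtain ⟨k, hk, h⟩ := c.ssf.exists_cj_le_maxQ c.el c.ce.rank hS h1 h2
  rw [← cj_le_cj_iff (g := k), cj_eq_self (h3 hk)]
  exact h

theorem PP_le {S : Subgroup G} (hS : MaxQ p A θ r S) (h : signalizerInf A θ ≤ Y) :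
    PP p A θ r Y ≤ S := iSup_le fun U => c.le_maxQ hS U.2.1 U.2.2.1 (h.trans U.2.2.2)

theorem fam_PP (h : signalizerInf A θ ≤ Y) : Fam p A θ (PP p A θ r Y) := by
  obtain ⟨S, hS⟩ := exists_maxQ p A θ r
  exact hS.fam.mono (c.PP_le hS h) norm_PP

theorem pg_PP (h : signalizerInf A θ ≤ Y) : IsPGroup r (PP p A θ r Y) := by
  obtain ⟨S, hS⟩ := exists_maxQ p A θ r
  exact hS.pgroup.to_le (c.PP_le hS h)

theorem fam_Px (hx : x ∈ A) (h1 : x ≠ 1) : Fam p A θ (PP p A θ r (θ x)) :=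
  c.fam_PP (signalizerInf_le hx h1)

theorem pg_Px (hx : x ∈ A) (h1 : x ≠ 1) : IsPGroup r (PP p A θ r (θ x)) :=
  c.pg_PP (signalizerInf_le hx h1)

theorem pg_PB (h : B ≤ A) : IsPGroup r (PP p A θ r (signalizerInf B θ)) :=
  c.pg_PP (signalizerInf_anti h)

theorem fam_OO : Fam p A θ (OO p A θ r) := by
  obtain ⟨B, hB⟩ := c.exists_ln
  exact (c.fam_PP (signalizerInf_anti hB.le)).mono (OO_le hB) norm_OO

theorem pg_OO : IsPGroup r (OO p A θ r) := by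
  obtain ⟨B, hB⟩ := c.exists_ln
  exact (c.pg_PB hB.le).to_le (OO_le hB)

theorem OO_inf_le (hX : Fam p A θ X) : OO p A θ r ⊓ X ≤ Op r X :=
  le_Op_of_hyp c.el c.ce.ne_bot (c.cop hX) hX.solv c.pg_OO.to_inf_left inf_le_right
    fun _ h1 h2 => ⟨_, c.pg_PB h1, inf_le_left.trans (OO_le ⟨h1, h2⟩),
      (hX.inf_centralizer_le h1).trans self_norm_PP⟩

theorem OO_le_Op (hX : Fam p A θ X) (h : OO p A θ r ≤ X) : OO p A θ r ≤ Op r X :=
  (le_inf le_rfl h).trans (c.OO_inf_le hX)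

omit hr in
theorem le_OO_of_ln (hB : Ln p A B) (h : ∀ x ∈ B, x ≠ 1 → U ≤ PP p A θ r (θ x)) :
    U ≤ OO p A θ r := by
  refine le_OO fun B' hB' => ?_
  obtain ⟨x, hx, hx', h1⟩ := c.exists_mem_inf hB hB'
  exact (h x hx h1).trans (PP_le_line hx' h1)

omit hr in
theorem le_OO_of_pts (hU : Fam p A θ U) (h : ∀ x ∈ A, x ≠ 1 → U ⊓ 𝐂[x] ≤ PP p A θ r (θ x)) :
    U ≤ OO p A θ r :=
  le_OO fun _ hB => c.le_of_pts hU hB fun x hx h1 => (h x (hB.le hx) h1).trans (PP_le_line hx h1)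

omit hr in
theorem comm_le_OO (hU : Fam p A θ U) (hx : x ∈ A)
    (h : ∀ z ∈ A, z ≠ 1 → ⁅U ⊓ 𝐂[z], zpowers x⁆ ≤ Op r (θ z)) : ⁅U, zpowers x⁆ ≤ OO p A θ r :=
  le_OO fun _ hB => commutator_zp_le c.el (c.cop hU) hB.le (c.ln2 hB) hx fun z hz h1 =>
    ((h z (hB.le hz) h1).trans (Op_le_PP (c.fam (hB.le hz) h1) le_rfl)).trans (PP_le_line hz h1)

theorem comm_le_OO' (hU : Fam p A θ U) (hUr : IsPGroup r U) (hx : x ∈ A) (h1 : x ≠ 1)
    (hn : θ x ≤ 𝐍(U)) (h : r ≠ 2 ∨ ⁅U, U⁆ = ⊥) : ⁅U, zpowers x⁆ ≤ OO p A θ r := by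
  refine c.comm_le_OO hU hx fun z hz hz1 => ?_
  have hz' := c.fam hz hz1
  exact nb_simple c.odd hz'.solv hz'.not_dvd (elemAb_pow c.el hx) (hz'.norm hx) (hU.le z hz hz1)
    (le_normalizer_inf hU.norm (elemAb_le_normalizer_centralizer_singleton c.el hz) hx)
    (h.imp_right fun h => eq_bot_iff.2 ((commutator_mono inf_le_left inf_le_left).trans h.le))
    hUr inf_le_left ((hz'.le x hx h1).trans hn)

include ht in
theorem OO_comm (h : r ≠ t) : OO p A θ r ≤ 𝐂(OO p A θ t) := by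
  refine c.le_of_lns c.fam_OO fun B hB => le_centralizer_iff.1 ?_
  refine c.le_of_lns c.fam_OO fun B' hB' => ?_
  obtain ⟨x, hx, hx', h1⟩ := c.exists_mem_inf hB hB'
  have hf := c.fam (hB.le hx) h1
  have h2 : OO p A θ r ⊓ 𝐂(B) ≤ Op r (θ x) := le_trans (le_inf inf_le_left
    ((c.fam_OO.inf_centralizer_le hB.le).trans (signalizerInf_le hx h1))) (c.OO_inf_le hf)
  have h3 : OO p A θ t ⊓ 𝐂(B') ≤ Op t (θ x) := le_trans (le_inf inf_le_left
    ((c.fam_OO.inf_centralizer_le hB'.le).trans (signalizerInf_le hx' h1))) (c.OO_inf_le hf)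
  exact ((h3.trans (Op_le_Opp h.symm _)).trans (Opp_le_cent_Op _)).trans (centralizer_le h2)

omit hr in
theorem norm_OO_of (hB : Ln p A B) (h : ∀ x ∈ B, x ≠ 1 → OO p A θ r ≤ PP p A θ r (θ x)) :
    signalizerInf B θ ≤ 𝐍(OO p A θ r) := by
  have h1 : OO p A θ r = ⨅ x : {x : G // x ∈ B ∧ x ≠ 1}, PP p A θ r (θ x) :=
    le_antisymm (le_iInf fun x => h x x.2.1 x.2.2)
      (c.le_OO_of_ln hB fun x hx h1 => iInf_le_of_le ⟨x, hx, h1⟩ le_rfl)
  rw [h1]
  exact norm_iInf fun x => (signalizerInf_le x.2.1 x.2.2).trans self_norm_PP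

theorem OO_le_Px (hx : x ∈ A) (h1 : x ≠ 1) (h0 : PP p A θ r (θ x) ≠ ⊥) :
    OO p A θ r ≤ PP p A θ r (θ x) := by
  set P := PP p A θ r (θ x)
  let I : Subgroup G := ⨅ B : {B : Subgroup G // Ln p A B ∧ x ∈ B}, PP p A θ r (signalizerInf B θ)
  have hI : ∀ B, Ln p A B → x ∈ B → I ≤ PP p A θ r (signalizerInf B θ) := fun B h2 h3 =>
    iInf_le_of_le ⟨B, h2, h3⟩ le_rfl
  obtain ⟨B₀, h2, h3, h4⟩ := exists_hyperplane_ge (elemAb_pgroup c.el)
    (show zpowers x < A from lt_of_le_of_ne (zp_le hx) fun h => by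
      have h5 := card_zp c.el hx h1
      rw [h, c.card] at h5
      exact absurd (Nat.pow_right_injective hp.out.two_le (h5.trans (pow_one p).symm)) (by norm_num))
  have hAI : A ≤ 𝐍(I) := norm_iInf fun _ => norm_PP
  have hCI : signalizerInf A θ ≤ 𝐍(I) :=
    norm_iInf fun B => (signalizerInf_anti B.2.1.le).trans self_norm_PP
  have h5 := hI B₀ ⟨h3, h4⟩ (h2 (mem_zpowers x))
  have hIf : Fam p A θ I := (c.fam_PP (signalizerInf_anti h3)).mono h5 hAI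
  have hIp : IsPGroup r I := (c.pg_PB h3).to_le h5
  have hPI : P ≤ I := le_iInf fun B => PP_le_line B.2.2 h1
  have key : ∀ K W : Subgroup G, Fam p A θ K → W ≤ I → ∀ B, B ≤ A → B.relIndex A = p →
      ∃ Q : Subgroup G, IsPGroup r Q ∧ W ≤ Q ∧ K ⊓ 𝐂[x] ⊓ 𝐂(B) ≤ 𝐍(Q) := by
    intro K W hK hW B h6 h7
    by_cases hxB : x ∈ B
    · exact ⟨_, c.pg_PB h6, hW.trans (hI B ⟨h6, h7⟩ hxB),
        ((inf_le_inf_right _ inf_le_left).trans (hK.inf_centralizer_le h6)).trans self_norm_PP⟩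
    · refine ⟨I, hIp, hW, le_trans ?_ ((hK.inf_centralizer_le le_rfl).trans hCI)⟩
      rw [inf_assoc]
      exact inf_le_inf_left _ (cent_of_not_mem hp.out ⟨h6, h7⟩ hx hxB)
  refine le_trans (le_iInf fun B => OO_le B.2.1 : OO p A θ r ≤ I) ?_
  by_contra hn
  have hlt := lt_inf_normalizer_of_pgroup hIp (lt_of_le_not_ge hPI hn)
  have hPf : Fam p A θ P := c.fam_Px hx h1
  obtain ⟨M, hM, ho⟩ := c.ce.exists_own hPf h0
  have hN := fam_inf_norm hM.fam hPf.norm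
  have hR := fam_inf_norm hIf hPf.norm
  have hxf := c.fam hx h1
  have hxN : θ x ≤ M ⊓ 𝐍(P) := le_inf (ho _ hxf self_norm_PP) self_norm_PP
  have hOP : Op r (M ⊓ 𝐍(P)) = P := le_antisymm (Op_le_PP hN hxN)
    (le_Op (le_inf (ho _ hPf le_normalizer) le_normalizer) inf_le_right (c.pg_Px hx h1))
  have hRN : I ⊓ 𝐍(P) ≤ M ⊓ 𝐍(P) := le_inf (ho _ hR inf_le_right) inf_le_right
  have hlt2 := lt_inf_cmod hIp.to_inf_left hlt inf_le_right
  set Z := I ⊓ 𝐍(P) ⊓ cmod P (I ⊓ 𝐍(P))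
  have hAZ : A ≤ 𝐍(Z) := le_normalizer_inf hR.norm
    ((le_inf hPf.norm hR.norm).trans normalizer_le_normalizer_cmod)
  have hZI : Z ≤ I := inf_le_left.trans inf_le_left
  have h6 : ⁅Z, zpowers x⁆ ≤ P := by
    rw [← hOP]
    refine nb_hyp c.odd c.el hN.solv hN.not_dvd hN.norm hx h1 (hIp.to_le hZI)
      (inf_le_left.trans hRN) (hAZ hx) ?_ (key _ _ hN hZI)
    rw [hOP]
    exact (commutator_mono inf_le_right inf_le_left).trans (commutator_le_of_le_cmod le_rfl)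
  have h7 : I ⊓ θ x ≤ P := by
    refine le_trans (le_Op_of_hyp c.el c.ce.ne_bot (c.cop hxf) hxf.solv hIp.to_inf_left
      inf_le_right fun B h6 h7 => ?_) (Op_le_PP hxf le_rfl)
    obtain ⟨Q, h8, h9, h10⟩ := key _ _ hxf (inf_le_left : I ⊓ θ x ≤ I) B h6 h7
    refine ⟨Q, h8, h9, le_trans (inf_le_inf_right _ ?_) h10⟩
    exact le_inf le_rfl (c.ssf.le_cent x hx h1)
  have hZf := hIf.mono hZI hAZ
  refine hlt2.not_ge ?_
  rw [← (cop_zp c.el hZf hx).commutator_sup_centralizer, centralizer_zpowers]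
  exact sup_le h6 ((le_inf (inf_le_left.trans hZI) (hZf.le x hx h1)).trans h7)

/-- All points of a hyperplane but one lie over `OO`. -/
theorem norm_OO_of' (hB : Ln p A B) (hx : x ∈ B) (h1 : x ≠ 1)
    (h : ∀ y ∈ B, y ∉ zpowers x → OO p A θ r ≤ PP p A θ r (θ y)) :
    signalizerInf B θ ≤ 𝐍(OO p A θ r) := by
  have hxA := hB.le hx
  by_cases h0 : PP p A θ r (θ x) = ⊥
  swap
  · refine c.norm_OO_of hB fun y hy hy1 => ?_
    by_cases hyx : y ∈ zpowers x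
    · rw [c.th_eq hxA hyx hy1]
      exact c.OO_le_Px hxA h1 h0
    · exact h y hy hyx
  have ne1 : ∀ y, y ∉ zpowers x → y ≠ 1 := fun y hy h' => hy (h' ▸ one_mem _)
  let I : Subgroup G := ⨅ y : {y : G // y ∈ B ∧ y ∉ zpowers x}, PP p A θ r (θ y)
  have hI : ∀ y ∈ B, y ∉ zpowers x → I ≤ PP p A θ r (θ y) := fun y h2 h3 =>
    iInf_le_of_le ⟨y, h2, h3⟩ le_rfl
  obtain ⟨y₀, h2, h3⟩ : ∃ y ∈ B, y ∉ zpowers x := by
    by_contra hn
    push Not at hn
    have h4 := (c.ln2 hB).trans (card_le_of_le (show B ≤ zpowers x from hn))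
    rw [card_zp c.el hxA h1] at h4
    have := hp.out.one_lt
    nlinarith
  have hAI : A ≤ 𝐍(I) := norm_iInf fun _ => norm_PP
  have hIf : Fam p A θ I := (c.fam_Px (hB.le h2) (ne1 _ h3)).mono (hI _ h2 h3) hAI
  have hIp : IsPGroup r I := (c.pg_Px (hB.le h2) (ne1 _ h3)).to_le (hI _ h2 h3)
  have h4 : OO p A θ r = ⁅I, zpowers x⁆ := by
    refine le_antisymm ?_ (c.comm_le_OO hIf hxA fun z hz hz1 => ?_)
    · have h5 := (cop_zp c.el (c.fam_OO (r := r)) hxA).commutator_sup_centralizer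
      rw [centralizer_zpowers] at h5
      refine h5.ge.trans (sup_le (commutator_mono (le_iInf fun y => h y y.2.1 y.2.2) le_rfl) ?_)
      refine le_trans ?_ bot_le
      rw [← h0]
      exact ((le_inf inf_le_left (c.fam_OO.le x hxA h1)).trans (c.OO_inf_le (c.fam hxA h1))).trans
        (Op_le_PP (c.fam hxA h1) le_rfl)
    · have hz' := c.fam hz hz1
      have hc := cop_zp c.el (hIf.inf_right (elemAb_le_normalizer_centralizer_singleton c.el hz)) hxA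
      refine le_Op_of_points (elemAb_mono c.el hB.le) (c.ln2 hB) ((c.cop hz').mono_left hB.le)
        hz'.solv hx (hIp.to_le (hc.commutator_le.trans inf_le_left))
        (hc.commutator_le.trans (hIf.le z hz hz1)) hc.commutator_commutator.ge fun y hy hyx => ?_
      exact ⟨_, c.pg_Px (hB.le hy) (ne1 _ hyx), (hc.commutator_le.trans inf_le_left).trans
        (hI y hy hyx), (hz'.le y (hB.le hy) (ne1 _ hyx)).trans self_norm_PP⟩
  rw [h4]
  exact le_normalizer_commutator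
    (norm_iInf fun y => (signalizerInf_le y.2.1 (ne1 _ y.2.2)).trans self_norm_PP)
    (((signalizerInf_le hx h1).trans (c.ssf.le_cent x hxA h1)).trans (cent_norm_zp x))

end C3

end Cfsg.Agent.H6.SFO
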