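import Cfsg.Agent.H6.SFO2

/-!
# Solvable signalizer functors for odd primes, part 3: star points
-/

set_option autoImplicit false
set_option linter.unusedSectionVars false

namespace Cfsg.Agent.H6.SFO

open Subgroup Cfsg.Agent.L0 Cfsg.Agent.H8 Cfsg.Agent.H8.SF
open scoped commutatorElement Cfsg.Agent.FT

universe u

variable {G : Type u} [Group G] {p : ℕ} {A : Subgroup G} {θ : G → Subgroup G}

/-- Points centralizing all their odd `PP`. -/
def Star (p : ℕ) (A : Subgroup G) (θ : G → Subgroup G) (x : G) : Prop :=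
  ∀ (t : ℕ) [Fact t.Prime], t ≠ 2 → PP p A θ t (θ x) ≤ 𝐂[x]

variable {r : ℕ} {U X Y B H T M : Subgroup G} {x y : G} [Finite G] [hp : Fact p.Prime]

namespace C3

variable (c : C3 p A θ)
include c

theorem ns_data (hx : x ∈ A) (h1 : x ≠ 1) (h : ¬ Star p A θ x) :
    ∃ (t : ℕ) (_ : Fact t.Prime) (U : Subgroup G), t ≠ 2 ∧ Fam p A θ U ∧ U ≠ ⊥ ∧ U ≤ OO p A θ t ∧
      θ x ≤ 𝐍(U) ∧ PP p A θ t (θ x) ≤ 𝐍(U) ∧ PP p A θ t (θ x) ≠ ⊥ := by
  unfold Star at h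
  push Not at h
  obtain ⟨t, _, h2, h3⟩ := h
  have hf : Fam p A θ (PP p A θ t (θ x)) := c.fam_Px hx h1
  refine ⟨t, inferInstance, ⁅PP p A θ t (θ x), zpowers x⁆, h2,
    hf.mono (cop_zp c.el hf hx).commutator_le (le_normalizer_commutator hf.norm (norm_zp c.el hx)),
    fun h => h3 (comm_zp_eq_bot.1 h),
    c.comm_le_OO' hf (c.pg_Px hx h1) hx h1 self_norm_PP (Or.inl h2),
    le_normalizer_commutator self_norm_PP ((c.ssf.le_cent x hx h1).trans (cent_norm_zp x)),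
    normalizer_commutator_ge_left _ _, fun h => h3 (h.le.trans bot_le)⟩

theorem OO_le_of_ns [Fact r.Prime] (hx : x ∈ A) (h1 : x ≠ 1) (h : ¬ Star p A θ x) :
    OO p A θ r ≤ PP p A θ r (θ x) := by
  obtain ⟨t, _, U, -, hU, hU1, h2, h3, -, h4⟩ := c.ns_data hx h1 h
  by_cases hrt : r = t
  · subst hrt
    exact c.OO_le_Px hx h1 h4
  obtain ⟨M, hM, ho⟩ := c.ce.exists_own hU hU1
  exact (c.OO_le_Op hM.fam (ho.cent c.fam_OO ((c.OO_comm hrt).trans (centralizer_le h2)))).trans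
    (Op_le_PP hM.fam (ho _ (c.fam hx h1) h3))

theorem star_Op (hx : x ∈ A) (h1 : x ≠ 1) (h : Star p A θ x) (hH : MaxM p A θ H) (hle : θ x ≤ H) :
    Op 2 H ≠ ⊥ := by
  obtain ⟨s, _, hs⟩ := c.ce.exists_Op_not_cent hH hx h1 hle
  by_cases h2 : s = 2
  · subst h2
    exact fun h' => hs (h'.le.trans bot_le)
  · exact absurd ((Op_le_PP hH.fam hle).trans (h s h2)) hs

theorem OO_two : OO p A θ 2 = ⊥ := by
  by_contra h0
  refine c.not_norm c.fam_OO h0 fun B hB => c.norm_OO_of hB fun x hx h1 => ?_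
  have hxA := hB.le hx
  by_cases h : Star p A θ x
  · obtain ⟨H, hH, hle⟩ := exists_maxM (c.fam hxA h1)
    exact c.OO_le_Px hxA h1 fun h' => c.star_Op hxA h1 h hH hle
      (eq_bot_iff.2 ((Op_le_PP hH.fam hle).trans h'.le))
  · exact c.OO_le_of_ns hxA h1 h

theorem Op_le_maxQ [Fact r.Prime] (hT : MaxQ p A θ r T) (hH : Fam p A θ H)
    (h : signalizerInf A θ ≤ H) : Op r H ≤ T :=
  c.le_maxQ hT (fam_Op hH r) (Op_pgroup H) (h.trans (self_norm_Op H))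

theorem star_Zc (hT : MaxQ p A θ 2 T) (hx : x ∈ A) (h1 : x ≠ 1) (h : Star p A θ x) :
    Zc T ≤ 𝐂[x] := by
  obtain ⟨H, hH, hle⟩ := exists_maxM (c.fam hx h1)
  have h2 := c.Op_le_maxQ hT hH.fam ((signalizerInf_le hx h1).trans hle)
  have hZ := fam_Zc hT.fam
  have h3 : Zc T ≤ H := (c.ce.own_Op hH (c.star_Op hx h1 h hH hle)).cent hZ (Zc_le_cent h2)
  have hc := cop_zp c.el hZ hx
  have h4 : ⁅Zc T, zpowers x⁆ ≤ Op 2 H := by
    refine le_Op_of_forall hH.fam.solv (hc.commutator_le.trans h3)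
      (hT.pgroup.to_le (hc.commutator_le.trans inf_le_left)) fun s _ => ?_
    by_cases hs : s = 2
    · subst hs
      exact hc.commutator_le.trans (Zc_le_cent h2)
    have h5 := (Op_le_PP hH.fam hle).trans (h s hs)
    refine three_subgroups ?_ ?_
    · refine commutator_le_centralizer_of_le_centralizer _ (le_centralizer_iff.mp ?_)
      rwa [centralizer_zpowers]
    · rw [centralizer_zpowers]
      exact (le_normalizer_iff_commutator_le_left.mp (h3.trans (self_norm_Op H))).trans h5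
  have h5 := c.comm_le_OO' (fam_Zc (fam_Op hH.fam 2)) ((Op_pgroup H).to_le inf_le_left) hx h1
    (norm_Zc (hle.trans (self_norm_Op H)))
    (Or.inr (commutator_eq_bot_iff_le_centralizer.2 (Zc_le_cent inf_le_left)))
  rw [c.OO_two] at h5
  rw [← comm_zp_eq_bot, ← hc.commutator_commutator, eq_bot_iff]
  exact (commutator_mono (le_inf h4 (hc.commutator_le.trans (Zc_le_cent h2))) le_rfl).trans h5

/-- The case where `A` has no fixed points on `Z(T)`. -/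
theorem not_E_bot (hT : MaxQ p A θ 2 T) (hE : Zc T ⊓ 𝐂(A) = ⊥) : False := by
  obtain ⟨B₀, hB₀, hst⟩ : ∃ B₀, Ln p A B₀ ∧ ∀ x ∈ A, x ≠ 1 → Star p A θ x → x ∈ B₀ := by
    by_cases h0 : T = ⊥
    · obtain ⟨B₀, hB₀⟩ := c.exists_ln
      refine ⟨B₀, hB₀, fun x hx h1 h => ?_⟩
      obtain ⟨H, hH, hle⟩ := exists_maxM (c.fam hx h1)
      exact absurd (eq_bot_iff.2 ((c.Op_le_maxQ hT hH.fam
        ((signalizerInf_le hx h1).trans hle)).trans h0.le)) (c.star_Op hx h1 h hH hle)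
    · obtain ⟨B₀, h1, h2, h3⟩ := exists_hyperplane_ge (elemAb_pgroup c.el)
        (show A ⊓ 𝐂(Zc T) < A from lt_of_le_of_ne inf_le_left fun h => Zc_ne_bot hT.pgroup h0 (by
          rw [← hE, eq_comm, inf_eq_left, le_centralizer_iff]
          exact h.ge.trans inf_le_right))
      refine ⟨B₀, ⟨h2, h3⟩, fun x hx hx1 h => h1 (mem_inf.2 ⟨hx, ?_⟩)⟩
      have h4 := c.star_Zc hT hx hx1 h
      rw [← centralizer_zpowers, le_centralizer_iff] at h4
      exact h4 (mem_zpowers x)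
  obtain ⟨x₀, hx₀, hx₀B⟩ := SetLike.exists_of_lt (lt_of_relIndex_prime hp.out hB₀.le hB₀.idx)
  have ne1 : ∀ y, y ∉ B₀ → y ≠ 1 := fun y hy h' => hy (h' ▸ one_mem _)
  obtain ⟨q, _, U, -, -, hU1, h2, -⟩ :=
    c.ns_data hx₀ (ne1 _ hx₀B) fun h => hx₀B (hst _ hx₀ (ne1 _ hx₀B) h)
  obtain ⟨M, hM, ho⟩ := c.ce.exists_own (c.fam_OO (r := q))
    fun h => hU1 (eq_bot_iff.2 (h2.trans h.le))
  obtain ⟨x', hx', hx'1⟩ := exists_mem_ne_one (c.ln_ne_bot hB₀)
  refine c.not_point hM.fam (hB₀.le hx') hx'1 fun B hB hxB => ho _ (c.fam_ln hB) ?_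
  obtain ⟨x, hx, hx0, h1⟩ := c.exists_mem_inf hB hB₀
  refine c.norm_OO_of' hB hx h1 fun y hy hyx => ?_
  have h3 : y ∉ B₀ := fun h => hyx (c.mem_zp hB₀ (fun h' => hxB (h' hx')) hx0 hx h1 h hy)
  exact c.OO_le_of_ns (hB.le hy) (ne1 _ h3) fun h => h3 (hst _ (hB.le hy) (ne1 _ h3) h)

theorem sylow_inf [Fact r.Prime] (hT : MaxQ p A θ r T) (hH : Fam p A θ H)
    (h : signalizerInf A θ ≤ H) : IsSylowIn r (T ⊓ H) H :=
  c.ssf.isSylowIn_inf c.el c.ce.rank hT hH (h.trans le_normalizer)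

theorem sylow_of_le [Fact r.Prime] (hT : MaxQ p A θ r T) (hH : Fam p A θ H) (h : T ≤ H) :
    IsSylowIn r T H :=
  (c.cop hH).isSylowIn_of_maximal h hT.pgroup hT.fam.norm fun Q h1 h2 h3 h4 =>
    hT.max Q (hH.mono h1 h3) h2 h4

/-- The case where `A` has fixed points on `Z(T)`: a distinguished maximal member. -/
theorem exists_M (hT : MaxQ p A θ 2 T) (hE : Zc T ⊓ 𝐂(A) ≠ ⊥) :
    ∃ M, MaxM p A θ M ∧ T ≤ M ∧ Opp 2 M ≠ ⊥ ∧
      ∀ R, Fam p A θ R → ¬ 2 ∣ #|R| → signalizerInf A θ ≤ 𝐍(R) → R ≤ M := by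
  set E := Zc T ⊓ 𝐂(A)
  have hEA : E ≤ 𝐂(A) := inf_le_right
  have hET : E ≤ 𝐂(T) := inf_le_left.trans inf_le_right
  have hEp : IsPGroup 2 E := hT.pgroup.to_le (inf_le_left.trans inf_le_left)
  have hAE : A ≤ 𝐍(E) := (le_centralizer_iff.1 hEA).trans (cent_le_norm E)
  have hEf : Fam p A θ E := hT.fam.mono (inf_le_left.trans inf_le_left) hAE
  have hEC : E ≤ signalizerInf A θ := (le_inf le_rfl hEA).trans (hEf.inf_centralizer_le le_rfl)
  have hO : ∀ H, Fam p A θ H → signalizerInf A θ ≤ H → E ≤ Oppp 2 H := fun H hH h =>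
    le_Oppp_of_cent hH.solv (c.sylow_inf hT hH h) (hEC.trans h)
      (hET.trans (centralizer_le (show T ⊓ H ≤ T from inf_le_left)))
  have h1 : ∀ H R, Fam p A θ H → signalizerInf A θ ≤ H → R ≤ H → ¬ 2 ∣ #|R| → E ≤ 𝐍(R) →
      ⁅R, E⁆ ≤ Opp 2 H := fun H R hH h hR h2 hn =>
    le_Opp_of_le_Oppp (H8.not_dvd_card_of_le (le_normalizer_iff_commutator_le_left.1 hn) h2)
      ((commutator_mono le_rfl (hO H hH h)).trans
        (le_normalizer_iff_commutator_le_right.1 (hR.trans (norm_Oppp le_normalizer))))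
  have h2 : ∀ R B, Fam p A θ R → ¬ 2 ∣ #|R| → E ≤ 𝐍(R) → Ln p A B →
      ⁅R, E⁆ ≤ ⨆ y : {y : G // y ∈ B ∧ y ≠ 1}, ⁅Opp 2 (θ y), E⁆ := by
    intro R B hR h2 hn hB
    have hc : CopAct E R := CopAct.of_pgroup hEp h2 hn
    refine comm_le_points (elemAb_mono c.el hB.le) (c.ln2 hB) ((c.cop hR).mono_left hB.le) hc
      (hEA.trans (centralizer_le hB.le)) fun y hy hy1 => le_iSup_of_le ⟨y, hy, hy1⟩ ?_
    have hc' : CopAct E (R ⊓ 𝐂[y]) :=
      hc.inf_right ((hEA.trans (centralizer_le_singleton (hB.le hy))).trans le_normalizer)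
    rw [← hc'.commutator_commutator]
    exact commutator_mono (h1 _ _ (c.fam (hB.le hy) hy1) (signalizerInf_le (hB.le hy) hy1)
      (hR.le y (hB.le hy) hy1) (H8.not_dvd_card_of_le inf_le_left h2) hc'.norm) le_rfl
  have hEy : ∀ y ∈ A, y ≠ 1 → E ≤ 𝐍(Opp 2 (θ y)) := fun y hy hy1 =>
    (hEC.trans (signalizerInf_le hy hy1)).trans (self_norm_Opp _)
  let D : Subgroup G := ⨆ y : {y : G // y ∈ A ∧ y ≠ 1}, ⁅Opp 2 (θ y), E⁆
  have hAD : A ≤ 𝐍(D) := norm_iSup fun y =>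
    le_normalizer_commutator (norm_Opp (c.ssf.norm y y.2.1 y.2.2)) hAE
  obtain ⟨hDf, hD2⟩ : Fam p A θ D ∧ ¬ 2 ∣ #|D| := by
    obtain ⟨a, ha, ha1⟩ := exists_mem_ne_one c.ce.ne_bot
    obtain ⟨K, hK, hle⟩ := c.ce.qc 2 ⟨a, ha, ha1, by
      rcases hEp.card_eq_or_dvd with h | h
      · exact absurd (card_eq_one.mp h) hE
      · exact h.trans (card_dvd_of_le (hEC.trans (signalizerInf_le ha ha1)))⟩
    let X₀ : Subgroup G := ⨆ y : {y : G // y ∈ A ∧ y ≠ 1}, Opp 2 (θ y)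
    have hX₀ : Fam p A θ X₀ := hK.mono (iSup_le fun y => hle y y.2.1 y.2.2)
      (norm_iSup fun y => norm_Opp (c.ssf.norm y y.2.1 y.2.2))
    have hX := Fam.sup c.el hX₀ c.fam_C
      (norm_iSup fun y => (signalizerInf_le y.2.1 y.2.2).trans (self_norm_Opp _))
    have h3 : D ≤ Opp 2 (X₀ ⊔ signalizerInf A θ) := iSup_le fun y => h1 _ _ hX le_sup_right
      (le_sup_of_le_left (le_iSup (fun y : {y : G // y ∈ A ∧ y ≠ 1} => Opp 2 (θ y)) y))
      (Opp_not_dvd _) (hEy y y.2.1 y.2.2)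
    exact ⟨(fam_Opp hX 2).mono h3 hAD, H8.not_dvd_card_of_le h3 (Opp_not_dvd _)⟩
  have hED : E ≤ 𝐍(D) := norm_iSup fun y => normalizer_commutator_ge_right _ _
  have h3 : ∀ B, Ln p A B → D = ⨆ y : {y : G // y ∈ B ∧ y ≠ 1}, ⁅Opp 2 (θ y), E⁆ := by
    intro B hB
    refine le_antisymm (iSup_le fun y => ?_) (iSup_le fun y =>
      le_iSup (fun y : {y : G // y ∈ A ∧ y ≠ 1} => ⁅Opp 2 (θ y), E⁆) ⟨y, hB.le y.2.1, y.2.2⟩)
    exact h2 _ B (fam_Opp (c.fam y.2.1 y.2.2) 2) (Opp_not_dvd _) (hEy y y.2.1 y.2.2) hB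
  have h4 : ∀ Y, Fam p A θ Y → Y ≤ 𝐍(E) → Y ≤ 𝐍(D) := by
    intro Y hY hn
    refine c.le_of_lns hY fun B hB => ?_
    rw [h3 B hB]
    exact norm_iSup fun y => le_normalizer_commutator (((hY.inf_centralizer_le hB.le).trans
      (signalizerInf_le y.2.1 y.2.2)).trans (self_norm_Opp _)) (inf_le_left.trans hn)
  have hD1 : D ≠ ⊥ := by
    intro h0
    obtain ⟨B, hB⟩ := c.exists_ln
    refine hE (eq_bot_iff.2 (le_trans (c.le_OO_of_ln hB fun y hy hy1 => ?_) c.OO_two.le))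
    have hy' := c.fam (hB.le hy) hy1
    have hC := signalizerInf_le (θ := θ) (hB.le hy) hy1
    refine le_trans (le_Op_of_forall hy'.solv (hEC.trans hC) hEp fun s _ => ?_)
      (Op_le_PP hy' le_rfl)
    by_cases hs : s = 2
    · subst hs
      exact hET.trans (centralizer_le (c.Op_le_maxQ hT hy' hC))
    · refine le_centralizer_iff.1 ((Op_le_Opp hs _).trans ?_)
      rw [← commutator_eq_bot_iff_le_centralizer, eq_bot_iff, ← h0]
      exact le_iSup (fun y : {y : G // y ∈ A ∧ y ≠ 1} => ⁅Opp 2 (θ y), E⁆) ⟨y, hB.le hy, hy1⟩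
  obtain ⟨M, hM, ho⟩ := c.ce.exists_own hDf hD1
  have hTD := h4 T hT.fam ((le_centralizer_iff.1 hET).trans (cent_le_norm E))
  have hTM := ho T hT.fam hTD
  have hDM := ho D hDf le_normalizer
  refine ⟨M, hM, hTM, fun h => hD1 (eq_bot_iff.2 ((le_Opp_of_sylow hM.fam.solv
    (c.sylow_of_le hT hM.fam hTM) hDM hD2 hTD).trans h.le)), fun R hR hR2 hn => ?_⟩
  obtain ⟨B, hB⟩ := c.exists_ln
  rw [← (CopAct.of_pgroup hEp hR2 (hEC.trans hn)).commutator_sup_centralizer]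
  refine sup_le (((h2 R B hR hR2 (hEC.trans hn) hB).trans (h3 B hB).ge).trans hDM) ?_
  have h5 := fam_inf_cent hR hAE
  exact ho _ h5 (h4 _ h5 (inf_le_right.trans (cent_le_norm E)))

end C3

end Cfsg.Agent.H6.SFO
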