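import Cfsg.Agent.H6.SFO3

/-!
# Solvable signalizer functors for odd primes, part 4: the theorem
-/

set_option autoImplicit false
set_option linter.unusedSectionVars false

namespace Cfsg.Agent.H6.SFO

open Subgroup Cfsg.Agent.L0 Cfsg.Agent.H8 Cfsg.Agent.H8.SF
open scoped commutatorElement Cfsg.Agent.FT

universe u

variable {G : Type u} [Group G] {p : ℕ} {A : Subgroup G} {θ : G → Subgroup G}

/-- The join of the `Y`-conjugates of `U`. -/
def ncl (Y U : Subgroup G) : Subgroup G := ⨆ y : Y, cj (y : G) U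

variable {r : ℕ} {U X Y Z B H T M : Subgroup G} {x y : G}

theorem cj_le_ncl (hy : y ∈ Y) : cj y U ≤ ncl Y U := le_iSup (fun y : Y => cj (y : G) U) ⟨y, hy⟩

theorem le_ncl : U ≤ ncl Y U := (cj_one U).ge.trans (cj_le_ncl (one_mem Y))

theorem ncl_le (h : U ≤ X) (hn : Y ≤ 𝐍(X)) : ncl Y U ≤ X :=
  iSup_le fun y => cj_le_of_mem_normalizer (hn y.2) h

theorem norm_ncl' (h : Z ≤ 𝐍(U)) (hn : Y ≤ 𝐍(Z)) : Z ≤ 𝐍(ncl Y U) :=
  norm_iSup fun y => le_normalizer_cj h (hn y.2)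

variable [Finite G]

theorem self_norm_ncl : Y ≤ 𝐍(ncl Y U) := fun z hz => mem_normalizer_of_cj_le <| by
  rw [cj_le_iff]
  refine iSup_le fun y => ?_
  rw [← cj_le_iff, ← cj_mul]
  exact cj_le_ncl (mul_mem hz y.2)

theorem norm_ncl (h : Z ≤ 𝐍(U)) (hn : Z ≤ 𝐍(Y)) : Z ≤ 𝐍(ncl Y U) :=
  fun z hz => mem_normalizer_of_cj_le <| by
  rw [cj_le_iff]
  refine iSup_le fun y => ?_
  rw [← cj_le_iff, ← cj_mul, show z * y = z * y * z⁻¹ * z by group, cj_mul, cj_eq_self (h hz)]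
  exact cj_le_ncl (conj_mem_of_le_normalizer hn hz y.2)

variable [hp : Fact p.Prime]

/-- The distinguished maximal member. -/
structure DM (p : ℕ) (A : Subgroup G) (θ : G → Subgroup G) (T M : Subgroup G) : Prop where
  mq : MaxQ p A θ 2 T
  mm : MaxM p A θ M
  le : T ≤ M
  ne : Opp 2 M ≠ ⊥
  odd : ∀ R, Fam p A θ R → ¬ 2 ∣ #|R| → signalizerInf A θ ≤ 𝐍(R) → R ≤ M

namespace C3

variable (c : C3 p A θ) (d : DM p A θ T M)
include c d

theorem Opp_le_M (hH : Fam p A θ H) (h : signalizerInf A θ ≤ H) : Opp 2 H ≤ M :=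
  d.odd _ (fam_Opp hH 2) (Opp_not_dvd H) (h.trans (self_norm_Opp H))

theorem PP_le_M [Fact r.Prime] (h : signalizerInf A θ ≤ Y) : PP p A θ r Y ≤ M := by
  by_cases hr : r = 2
  · subst hr
    exact (c.PP_le d.mq h).trans d.le
  · exact d.odd _ (c.fam_PP h) (not_dvd_card_of_pgroup hr (c.pg_PP h)) (h.trans self_norm_PP)

theorem Op_eq [Fact r.Prime] (hr : r ≠ 2) : Op r M = OO p A θ r := by
  refine le_antisymm (c.le_OO_of_pts (fam_Op d.mm.fam r) fun x hx h1 => ?_)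
    (c.OO_le_Op d.mm.fam (d.odd _ c.fam_OO (not_dvd_card_of_pgroup hr c.pg_OO) cnorm_OO))
  have hf := c.fam hx h1
  have h2 : Op r M ⊓ 𝐂[x] ≤ Opp 2 (θ x) := le_Opp_of_sylow hf.solv
    (c.ssf.isSylowIn_inf_centralizer_singleton c.el c.ce.rank d.mq hx h1)
    ((fam_Op d.mm.fam r).le x hx h1) (not_dvd_card_of_pgroup hr (Op_pgroup M).to_inf_left)
    (le_normalizer_inf ((inf_le_left.trans d.le).trans (self_norm_Op M))
      (inf_le_right.trans le_normalizer))
  exact ((le_inf inf_le_left h2).trans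
    (map_pCore_inf_le (c.Opp_le_M d hf (signalizerInf_le hx h1)))).trans
    (le_PP (fam_Op (fam_Opp hf 2) r) (Op_pgroup _) (norm_Op (self_norm_Opp _)))

omit c in
theorem exists_q : ∃ (q : ℕ) (_ : Fact q.Prime), q ≠ 2 ∧ Op q M ≠ ⊥ := by
  obtain ⟨q, _, h⟩ := exists_inf_Op_ne_bot d.mm.fam.solv (Opp_le M) (self_norm_Opp M) d.ne
  refine ⟨q, inferInstance, ?_, fun h' => h (by rw [h', inf_bot_eq])⟩
  rintro rfl
  exact h (by rw [inf_comm]; exact inf_eq_bot_of (Op_pgroup M) (Opp_not_dvd M))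

theorem not_Opp_ne {q : ℕ} [Fact q.Prime] (hq : Op q M ≠ ⊥) (h : Opp q M ≠ ⊥) : False := by
  have hM := d.mm.fam
  have key : ∀ x ∈ A, x ≠ 1 → ∃ H, Fam p A θ H ∧ θ x ≤ H ∧ Opp 2 H ≤ Opp 2 M := by
    intro x hx h1
    by_cases hs : Star p A θ x
    · obtain ⟨H, hH, hle⟩ := exists_maxM (c.fam hx h1)
      have hC := (signalizerInf_le hx h1).trans hle
      exact ⟨H, hH.fam, hle, (le_inf le_rfl (c.Opp_le_M d hH.fam hC)).trans (c.ce.bender hH hM
        (c.star_Op hx h1 hs hH hle) ((inf_le_left.trans (c.Op_le_maxQ d.mq hH.fam hC)).trans d.le))⟩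
    obtain ⟨t, _, U, ht, hU, hU1, h2, h3, h4, -⟩ := c.ns_data hx h1 hs
    obtain ⟨L, hL, ho⟩ := c.ce.exists_own hU hU1
    have h5 := c.Op_eq d ht
    have h6 : OO p A θ t ≠ ⊥ := fun h' => hU1 (eq_bot_iff.2 (h2.trans h'.le))
    have h7 : L = M := by
      refine c.ce.eq_of_Zc_le (q := t) ⟨c.fam_OO, h6, fun X hX => c.OO_le_Op hX⟩ d.mm
        (h5 ▸ c.ce.own_Op d.mm (h5 ▸ h6)) ?_ hL
        ((c.OO_le_of_ns hx h1 hs).trans (ho _ (c.fam_Px hx h1) h4)) fun s _ => ?_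
      · by_cases htq : q = t
        · subst htq
          exact h
        · exact fun h' => hq (eq_bot_iff.2 ((Op_le_Opp htq M).trans h'.le))
      · refine ho.cent (fam_Zc (fam_Op hM s)) ?_
        rw [← h5] at h2
        by_cases hst : s = t
        · subst hst
          exact Zc_le_cent h2
        · exact ((inf_le_left.trans (Op_le_Opp hst M)).trans (Opp_le_cent_Op M)).trans
            (centralizer_le h2)
    exact ⟨M, hM, h7 ▸ ho _ (c.fam hx h1) h3, le_rfl⟩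
  refine c.not_norm (fam_Opp hM 2) d.ne fun B hB => norm_of_cover (elemAb_mono c.el hB.le)
    (c.ln2 hB) ((c.cop (fam_Opp hM 2)).mono_left hB.le) fun x hx h1 => ?_
  obtain ⟨H, hH, h2, h3⟩ := key x (hB.le hx) h1
  refine ⟨Opp 2 H, le_trans (le_inf inf_le_left (((fam_Opp hM 2).le x (hB.le hx) h1).trans h2))
    (le_Opp_of_sylow hH.solv (c.sylow_inf d.mq hH ((signalizerInf_le (hB.le hx) h1).trans h2))
      inf_le_right (H8.not_dvd_card_of_le inf_le_left (Opp_not_dvd M))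
      (le_normalizer_inf ((inf_le_left.trans d.le).trans (self_norm_Opp M))
        (inf_le_right.trans le_normalizer))), h3,
    ((signalizerInf_le hx h1).trans h2).trans (self_norm_Opp H)⟩

theorem not_Opp_eq (hT : T ≠ ⊥) {q : ℕ} [Fact q.Prime] (hq2 : q ≠ 2) (hq : Op q M ≠ ⊥)
    (h : Opp q M = ⊥) : False := by
  have hM := d.mm.fam
  have h5 := c.Op_eq d hq2
  have hOf : Fam p A θ (OO p A θ q) := c.fam_OO
  have hOx : ∀ x ∈ A, x ≠ 1 → OO p A θ q ⊓ 𝐂[x] ≤ PP p A θ q (θ x) := fun x hx h1 =>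
    ((le_inf inf_le_left (hOf.le x hx h1)).trans (c.OO_inf_le (c.fam hx h1))).trans
      (Op_le_PP (c.fam hx h1) le_rfl)
  refine c.not_norm hOf (h5 ▸ hq) fun B hB => ?_
  by_cases h0 : ∀ x ∈ B, x ≠ 1 → PP p A θ q (θ x) ≠ ⊥
  · exact c.norm_OO_of hB fun x hx h1 => c.OO_le_Px (hB.le hx) h1 (h0 x hx h1)
  push Not at h0
  obtain ⟨x₀, hx₀, hx₀1, h0⟩ := h0
  set O := ncl (signalizerInf B θ) (OO p A θ q)
  have hOP : ∀ x ∈ B, x ≠ 1 → PP p A θ q (θ x) ≠ ⊥ → O ≤ PP p A θ q (θ x) := fun x hx h1 h2 =>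
    ncl_le (c.OO_le_Px (hB.le hx) h1 h2) ((signalizerInf_le hx h1).trans self_norm_PP)
  obtain ⟨x', hx', hx'1, h1⟩ : ∃ x ∈ B, x ≠ 1 ∧ PP p A θ q (θ x) ≠ ⊥ := by
    by_contra hn
    push Not at hn
    refine hq (eq_bot_iff.2 (h5.le.trans (c.le_of_pts hOf hB fun x hx h1 => ?_)))
    exact (hOx x (hB.le hx) h1).trans (hn x hx h1).le
  have h2 := hOP x' hx' hx'1 h1
  have hAO : A ≤ 𝐍(O) := norm_ncl norm_OO (c.fam_ln hB).norm
  have hO : Fam p A θ O := (c.fam_Px (hB.le hx') hx'1).mono h2 hAO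
  have hOp : IsPGroup q O := (c.pg_Px (hB.le hx') hx'1).to_le h2
  have hOM : O ≤ M := h2.trans (c.PP_le_M d (signalizerInf_le (hB.le hx') hx'1))
  have h3 : ∀ x ∈ B, x ≠ 1 → PP p A θ q (θ x) = ⊥ → O ⊓ 𝐂[x] ≤ ⊥ := by
    intro x hx h1 h3
    have hf := c.fam (hB.le hx) h1
    rw [← h3]
    refine le_trans (le_inf inf_le_left (hO.le x (hB.le hx) h1)) (le_trans (le_Op_of_forall hf.solv
      inf_le_right hOp.to_inf_left fun s _ => ?_) (Op_le_PP hf le_rfl))
    by_cases hs : s = q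
    · subst hs
      rw [eq_bot_iff.2 ((Op_le_PP hf le_rfl).trans h3.le)]
      exact le_cent_bot _
    have h4 : Op s (θ x) ≤ 𝐍(O) := by
      refine norm_ncl' ?_ ((signalizerInf_le hx h1).trans (self_norm_Op _))
      rw [← h5]
      exact ((Op_le_PP hf le_rfl).trans (c.PP_le_M d (signalizerInf_le (hB.le hx) h1))).trans
        (self_norm_Op M)
    rw [← commutator_eq_bot_iff_le_centralizer, eq_bot_iff,
      ← inf_eq_bot_of hOp (not_dvd_card_of_pgroup hs (Op_pgroup (θ x)))]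
    exact le_inf ((commutator_mono inf_le_left le_rfl).trans
      (le_normalizer_iff_commutator_le_left.1 h4))
      (le_normalizer_iff_commutator_le_right.1 (inf_le_right.trans (self_norm_Op _)))
  have h4 : O ≤ OO p A θ q := by
    rw [← h5]
    refine c.le_of_lns hO fun B₁ hB₁ => ?_
    by_cases h6 : x₀ ∈ B₁
    · exact ((inf_le_inf_left _ (centralizer_le_singleton h6)).trans (h3 x₀ hx₀ hx₀1 h0)).trans
        bot_le
    have ne1 : ∀ y, y ∉ B₁ → y ≠ 1 := fun y hy h' => hy (h' ▸ one_mem _)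
    have hV := hO.inf_right (elemAb_le_normalizer_centralizer c.el hB₁.le)
    by_cases h7 : ∃ x ∈ B, x ∉ B₁ ∧ PP p A θ q (θ x) ≠ ⊥
    · obtain ⟨x, hx, hx1, h7⟩ := h7
      have hxA := hB.le hx
      rw [← (cop_zp c.el hV hxA).commutator_sup_centralizer, centralizer_zpowers]
      refine sup_le (nb_simple c.odd hM.solv hM.not_dvd (elemAb_pow c.el hxA) (hM.norm hxA)
        (inf_le_left.trans hOM) (hV.norm hxA) (Or.inl hq2) (c.pg_Px hxA (ne1 _ hx1))
        (inf_le_left.trans (hOP x hx (ne1 _ hx1) h7))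
        ((hM.le x hxA (ne1 _ hx1)).trans self_norm_PP)) (le_trans ?_ bot_le)
      refine le_trans ?_ (h3 x₀ hx₀ hx₀1 h0)
      rw [inf_assoc, inf_comm 𝐂(B₁)]
      exact inf_le_inf_left _ ((cent_of_not_mem hp.out hB₁ hxA hx1).trans
        (centralizer_le_singleton (hB.le hx₀)))
    exfalso
    push Not at h7
    obtain ⟨x₁, h8, h9, h10⟩ := c.exists_mem_inf hB hB₁
    have h11 : OO p A θ q ≤ 𝐂[x₁] := c.le_of_pts hOf hB fun x hx hx1 => by
      by_cases h12 : x ∈ B₁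
      · rw [cent_eq_of_mem (elemAb_pow c.el (hB.le h8))
          (c.mem_zp hB (fun h' => h6 (h' hx₀)) h8 h9 h10 hx h12) hx1]
        exact inf_le_right
      · exact ((hOx x (hB.le hx) hx1).trans (h7 x hx h12).le).trans bot_le
    refine c.ce.not_cent_maxQ d.mq hT (hB.le h8) h10 (d.le.trans
      (le_cent_of_Op (cop_zp c.el hM (hB.le h8)) hM.solv fun s _ => ?_))
    by_cases hs : s = q
    · subst hs
      rwa [h5]
    · exact ((Op_le_Opp hs M).trans h.le).trans bot_le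
  rw [← le_antisymm h4 le_ncl]
  exact self_norm_ncl

omit d in
theorem false_of : False := by
  obtain ⟨T, hT⟩ := exists_maxQ p A θ 2
  by_cases hE : Zc T ⊓ 𝐂(A) = ⊥
  · exact c.not_E_bot hT hE
  obtain ⟨M, h1, h2, h3, h4⟩ := c.exists_M hT hE
  have d : DM p A θ T M := ⟨hT, h1, h2, h3, h4⟩
  obtain ⟨q, _, h5, h6⟩ := exists_q d
  by_cases h : Opp q M = ⊥
  · exact c.not_Opp_eq d
      (fun h' => hE (eq_bot_iff.2 ((inf_le_left.trans inf_le_left).trans h'.le))) h5 h6 h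
  · exact c.not_Opp_ne d h6 h

end C3

theorem sComplete_of_le (h : SSF p A θ) (hA : IsElementaryAbelian p A) (hB : B ≤ A)
    (hB2 : p ^ 2 ≤ #|B|) (hc : SComplete p B θ) : SComplete p A θ := by
  obtain ⟨X, hX, hle⟩ := hc
  have h1 : signalizerClosure B θ ≤ X := closure_le hle
  have h2 : A ≤ 𝐍(signalizerClosure B θ) := norm_iSup fun b => h.norm b (hB b.2.1) b.2.2
  have h3 := H8.not_dvd_card_of_le h1 hX.not_dvd
  refine ⟨signalizerClosure B θ, ⟨solvable_of_le h1 hX.solv, h3, h2, fun a ha ha1 => ?_⟩,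
    fun a ha ha1 => ?_⟩
  · refine (((copAct_of_elemAb hA h3 h2).inf_right
      (elemAb_le_normalizer_centralizer_singleton hA ha)).mono_left hB).le_of_elements
      (elemAb_mono hA hB) hB2 fun b hb hb1 => le_trans ?_ (h.bal b (hB hb) hb1 a ha ha1)
    exact le_inf ((inf_le_inf_right _ (inf_le_left.trans h1)).trans (hX.le b hb hb1))
      (inf_le_left.trans inf_le_right)
  · exact (((h.fam ha ha1).copAct hA).mono_left hB).le_of_elements (elemAb_mono hA hB) hB2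
      fun b hb hb1 => (h.bal a ha ha1 b (hB hb) hb1).trans (le_closure hb hb1)

theorem ih_odd (hp2 : p ≠ 2) (n : ℕ) : IH.{u} p n := by
  induction n with
  | zero => intro G _ _ A θ _ _ _ h; exact absurd h (Nat.not_lt_zero _)
  | succ n ih =>
    intro G _ _ A θ hA hA3 h hn
    have ih' : IH.{u} p (pairs A θ).ncard := fun G' _ _ A' θ' h1 h2 h3 h4 =>
      ih G' A' θ' h1 h2 h3 (h4.trans_le (Nat.lt_succ_iff.mp hn))
    obtain ⟨B, hB, hBc⟩ := exists_le_card (elemAb_pgroup hA) hA3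
    rcases hB.eq_or_lt with rfl | hlt
    · by_contra hc
      exact C3.false_of ⟨⟨h, hA, hA3, lc_of_ih h hA hA3 ih', qc_of_ih h hA hA3 ih', hc⟩, hBc, hp2⟩
    refine sComplete_of_le h hA hB (sq_le_of_cube hBc.ge)
      (ih' G B θ (elemAb_mono hA hB) hBc.ge (h.mono_left hB) ?_)
    obtain ⟨a, ha, haB⟩ := SetLike.exists_of_lt hlt
    exact Set.ncard_lt_ncard ⟨fun z hz => ⟨hB hz.1, hz.2⟩, fun h' => haB (h'
      (show (a, 1) ∈ pairs A θ from ⟨ha, fun h1 => haB (by rw [show a = 1 from h1]; exact one_mem _),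
        one_mem _⟩)).1⟩

/-- The solvable signalizer functor theorem. -/
theorem sftHyp (p : ℕ) [Fact p.Prime] : SFTHyp.{u} p := by
  intro G _ _ A θ hA hA3 h
  by_cases hp2 : p = 2
  · subst hp2
    exact sComplete_two h hA hA3
  · exact ih_odd hp2 _ G A θ hA hA3 h (Nat.lt_succ_self _)

end Cfsg.Agent.H6.SFO
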