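import Mathlib

/-!
# Tate cohomology of lattices for a group of prime order
-/

set_option autoImplicit false

namespace Cfsg.Agent.H6

open Finset Module Polynomial

section Tate

variable {p : ℕ} [hp : Fact p.Prime]

theorem exists_int_functional {S M : Type*} [AddCommGroup S] [AddCommGroup M] [Module.Free ℤ M]
    (j : S →+ M) (lam : S →+ ZMod p) (h : ∀ w z, j w = p • z → lam w = 0) :
    ∃ l : M →ₗ[ℤ] ℤ, ∀ w, (l (j w) : ZMod p) = lam w := by
  let H : AddSubgroup M := (nsmulAddMonoidHom (α := M) p).range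
  let _ : Module (ZMod p) (M ⧸ H) := QuotientAddGroup.zmodModule fun x => ⟨x, rfl⟩
  let j' : S →+ M ⧸ H := (QuotientAddGroup.mk' H).comp j
  let _ : Module (ZMod p) (S ⧸ j'.ker) := QuotientAddGroup.zmodModule fun x => by
    rw [AddMonoidHom.mem_ker, map_nsmul]
    exact (QuotientAddGroup.eq_zero_iff (p • j x)).mpr ⟨j x, rfl⟩
  obtain ⟨g, hg⟩ := LinearMap.exists_leftInverse_of_injective
    ((QuotientAddGroup.kerLift j').toZModLinearMap p)
    (LinearMap.ker_eq_bot.mpr (QuotientAddGroup.kerLift_injective j'))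
  let lam' : S ⧸ j'.ker →+ ZMod p := QuotientAddGroup.lift _ lam fun w hw => by
    obtain ⟨z, hz⟩ := (QuotientAddGroup.eq_zero_iff (j w)).mp hw
    exact h w z hz.symm
  obtain ⟨l, hl⟩ := Module.projective_lifting_property (Int.castAddHom (ZMod p)).toIntLinearMap
    ((lam'.comp (g.toAddMonoidHom.comp (QuotientAddGroup.mk' H))).toIntLinearMap)
    ZMod.intCast_surjective
  refine ⟨l, fun w => (LinearMap.congr_fun hl (j w)).trans ?_⟩
  exact congrArg lam' (LinearMap.congr_fun hg (QuotientAddGroup.mk w))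

theorem sum_range_shift {M : Type*} [AddCommGroup M] (n : ℕ) (F : ℕ → M) (h : F n = F 0) :
    ∑ i ∈ range n, F (i + 1) = ∑ i ∈ range n, F i := by
  have h1 := Finset.sum_range_succ' F n
  rw [Finset.sum_range_succ, h] at h1
  exact (add_right_cancel h1).symm

theorem sub_one_mul_sum_nsmul {R : Type*} [Ring R] (Z : R) (n : ℕ) :
    (Z - 1) * ∑ i ∈ range n, i • Z ^ i = n • Z ^ n - ∑ i ∈ range n, Z ^ (i + 1) := by
  induction n with
  | zero => simp
  | succ n ih =>
    rw [sum_range_succ, sum_range_succ, mul_add, ih, mul_smul_comm, sub_mul, one_mul, ← pow_succ',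
      smul_sub, add_smul, one_smul]
    abel

variable {L : Type*} [AddCommGroup L] [Module.Free ℤ L] [Module.Finite ℤ L]

/-- The norm operator. -/
def normOp (p : ℕ) (Y : End ℤ L) : End ℤ L := ∑ i ∈ range p, Y ^ i

omit hp [Module.Free ℤ L] [Module.Finite ℤ L] in
theorem normOp_apply (Y : End ℤ L) (w : L) : normOp p Y w = ∑ i ∈ range p, (Y ^ i) w := by
  simp [normOp, LinearMap.sum_apply]

omit hp [Module.Free ℤ L] [Module.Finite ℤ L] in
theorem commute_normOp {Y f : End ℤ L} (h : Commute f Y) : Commute f (normOp p Y) :=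
  Commute.sum_right _ _ _ fun i _ => h.pow_right i

variable {Y : End ℤ L} (hY : Y ^ p = 1)

omit hp [Module.Free ℤ L] [Module.Finite ℤ L] in
include hY in
theorem sub_one_mul_normOp : (Y - 1) * normOp p Y = 0 := by
  rw [normOp, mul_geom_sum, hY, sub_self]

omit hp [Module.Free ℤ L] [Module.Finite ℤ L] in
include hY in
theorem normOp_mul_sub_one : normOp p Y * (Y - 1) = 0 := by
  rw [normOp, geom_sum_mul, hY, sub_self]

omit hp [Module.Free ℤ L] [Module.Finite ℤ L] in
theorem pow_apply_of_fixed {w : L} (hw : Y w = w) (i : ℕ) : (Y ^ i) w = w := by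
  induction i with
  | zero => rfl
  | succ i ih => rw [pow_succ, End.mul_apply, hw, ih]

omit hp [Module.Free ℤ L] [Module.Finite ℤ L] in
theorem normOp_of_fixed {w : L} (hw : Y w = w) : normOp p Y w = p • w := by
  rw [normOp_apply, sum_congr rfl fun i _ => pow_apply_of_fixed hw i, sum_const, card_range]

omit hp [Module.Free ℤ L] [Module.Finite ℤ L] in
theorem mem_ker_sub_one {w : L} : w ∈ LinearMap.ker (Y - 1) ↔ Y w = w := by
  simp [sub_eq_zero]

omit [Module.Finite ℤ L] in
theorem nsmul_cancel {a b : L} (h : p • a = p • b) : a = b :=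
  smul_right_injective L (Nat.cast_ne_zero.mpr hp.out.ne_zero : (p : ℤ) ≠ 0)
    (by simpa using h)

omit [Module.Finite ℤ L] in
theorem eq_zero_of_fixed_of_norm {w : L} (h1 : Y w = w) (h2 : normOp p Y w = 0) : w = 0 :=
  nsmul_cancel (p := p) (by rw [← normOp_of_fixed h1, h2, smul_zero])

omit hp [Module.Free ℤ L] [Module.Finite ℤ L] in
include hY in
theorem range_normOp_le : LinearMap.range (normOp p Y) ≤ LinearMap.ker (Y - 1) :=
  LinearMap.range_le_ker_iff.mpr (sub_one_mul_normOp hY)

omit hp [Module.Free ℤ L] [Module.Finite ℤ L] in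
include hY in
theorem range_sub_one_le : LinearMap.range (Y - 1) ≤ LinearMap.ker (normOp p Y) :=
  LinearMap.range_le_ker_iff.mpr (normOp_mul_sub_one hY)

include hY in
/-- Rank one endomorphisms of `H⁰` lift. -/
theorem exists_lift_zero (lam : LinearMap.ker (Y - 1) →+ ZMod p)
    (hlam : ∀ w : LinearMap.ker (Y - 1), (w : L) ∈ LinearMap.range (normOp p Y) → lam w = 0)
    {u : L} (hu : u ∈ LinearMap.ker (Y - 1)) :
    ∃ f : End ℤ L, Commute f Y ∧ ∀ w : LinearMap.ker (Y - 1),
      f w - (lam w).val • u ∈ LinearMap.range (normOp p Y) := by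
  obtain ⟨l, hl⟩ := exists_int_functional
    (((normOp p Y).rangeRestrict ∘ₗ (LinearMap.ker (Y - 1)).subtype).toAddMonoidHom) lam (by
      rintro w ⟨_, z, rfl⟩ h
      refine hlam w ⟨z, nsmul_cancel (p := p) ?_⟩
      rw [← normOp_of_fixed (mem_ker_sub_one.mp w.2)]
      exact (congrArg Subtype.val h).symm)
  have hu' := mem_ker_sub_one.mp hu
  refine ⟨(l ∘ₗ (normOp p Y).rangeRestrict).smulRight u, ?_, fun w => ?_⟩
  · ext w
    have : (normOp p Y).rangeRestrict (Y w) = (normOp p Y).rangeRestrict w := by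
      apply Subtype.ext
      have := LinearMap.congr_fun (normOp_mul_sub_one hY) w
      simpa [sub_eq_zero] using this
    simp [this, hu']
  · obtain ⟨k, hk⟩ := (ZMod.intCast_eq_intCast_iff_dvd_sub _ _ p).mp
      (((ZMod.natCast_zmod_val (lam w)).trans (hl w).symm) |> (Int.cast_natCast _).trans)
    refine ⟨k • u, ?_⟩
    rw [map_smul, normOp_of_fixed hu', ← natCast_zsmul, ← natCast_zsmul, smul_smul,
      mul_comm, ← hk, sub_smul]
    rfl

include hY in
/-- Rank one endomorphisms of `H⁻¹` lift. -/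
theorem exists_lift_one (lam : LinearMap.ker (normOp p Y) →+ ZMod p)
    (hlam : ∀ w : LinearMap.ker (normOp p Y), (w : L) ∈ LinearMap.range (Y - 1) → lam w = 0)
    {u : L} (hu : u ∈ LinearMap.ker (normOp p Y)) :
    ∃ f : End ℤ L, Commute f Y ∧ ∀ w : LinearMap.ker (normOp p Y),
      f w - (lam w).val • u ∈ LinearMap.range (Y - 1) := by
  set Z := Y ^ (p - 1) with hZ
  have hp1 := hp.out.one_lt
  have hZY : Z * Y = 1 := by rw [hZ, ← pow_succ, Nat.sub_add_cancel hp1.le, hY]
  have hYZ : Y * Z = 1 := by rw [hZ, ← pow_succ', Nat.sub_add_cancel hp1.le, hY]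
  have hZp : Z ^ p = 1 := by rw [hZ, ← pow_mul, mul_comm, pow_mul, hY, one_pow]
  have hc : Commute Z Y := hZY.trans hYZ.symm
  have hN : ∀ w ∈ LinearMap.ker (normOp p Y), normOp p Z w = 0 := by
    intro w hw
    refine eq_zero_of_fixed_of_norm (p := p) (Y := Y) ?_ ?_
    · have h1 := mem_ker_sub_one.mp (range_normOp_le hZp ⟨w, rfl⟩)
      rw [← h1, ← End.mul_apply, hYZ, h1]; rfl
    · rw [← End.mul_apply, (commute_normOp (commute_normOp hc.symm).symm).symm.eq, End.mul_apply,
        LinearMap.mem_ker.mp hw, map_zero]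
  have hsub : ∀ i z, (Y ^ i) z - z ∈ LinearMap.range (Y - 1) := fun i z =>
    ⟨(∑ j ∈ range i, Y ^ j) z, by rw [← End.mul_apply, mul_geom_sum]; rfl⟩
  set D : End ℤ L := ∑ i ∈ range p, i • Z ^ i with hD
  have hD1 : ∀ w ∈ LinearMap.ker (normOp p Y), (Z - 1) (D w) = p • w := by
    intro w hw
    rw [← End.mul_apply, hD, sub_one_mul_sum_nsmul, hZp,
      sum_range_shift p (fun i => Z ^ i) (by rw [hZp, pow_zero]), LinearMap.sub_apply]
    exact (congrArg _ (hN w hw)).trans (sub_zero _)
  obtain ⟨l, hl⟩ := exists_int_functional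
    (((Z - 1).rangeRestrict ∘ₗ D ∘ₗ (LinearMap.ker (normOp p Y)).subtype).toAddMonoidHom) lam (by
      rintro w ⟨_, z, rfl⟩ h
      have h1 : (w : L) = (Z - 1) z :=
        nsmul_cancel (p := p) ((hD1 w w.2).symm.trans (congrArg Subtype.val h))
      exact hlam w (h1 ▸ hsub (p - 1) z))
  set l' := l ∘ₗ (Z - 1).rangeRestrict with hl'
  have hl0 : ∀ w, ∑ i ∈ range p, l' ((Z ^ i) w) = 0 := by
    intro w
    rw [← map_sum, ← normOp_apply, hl', LinearMap.comp_apply]
    have : (Z - 1).rangeRestrict (normOp p Z w) = 0 :=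
      Subtype.ext (LinearMap.congr_fun (sub_one_mul_normOp hZp) w)
    rw [this, map_zero]
  let f : End ℤ L := ∑ i ∈ range p, (l' ∘ₗ (Z ^ i)).smulRight ((∑ j ∈ range i, Y ^ j) u)
  have hf : ∀ w, f w = ∑ i ∈ range p, l' ((Z ^ i) w) • (∑ j ∈ range i, Y ^ j) u := fun w => by
    simp [f, LinearMap.sum_apply]
  have hf1 : ∀ w, (Y - 1) (f w) = ∑ i ∈ range p, l' ((Z ^ i) w) • (Y ^ i) u := fun w => by
    rw [hf, map_sum]
    have : ∀ i, (Y - 1) ((∑ j ∈ range i, Y ^ j) u) = (Y ^ i) u - u := fun i => by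
      rw [← End.mul_apply, mul_geom_sum]; rfl
    simp only [map_smul, this, smul_sub, sum_sub_distrib, ← sum_smul, hl0, zero_smul, sub_zero]
  have hf2 : ∀ w, normOp p Y (f w) = 0 := fun w => by
    rw [hf, map_sum]
    refine sum_eq_zero fun i _ => ?_
    rw [map_smul, ← End.mul_apply, (commute_normOp (Commute.sum_left _ _ _ fun j _ =>
      (Commute.refl Y).pow_left j)).symm.eq, End.mul_apply, LinearMap.mem_ker.mp hu, map_zero,
      smul_zero]
  have hfZ : ∀ w, Y (f (Z w)) = f w := fun w => by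
    rw [← sub_eq_zero]
    refine eq_zero_of_fixed_of_norm (p := p) (Y := Y) (mem_ker_sub_one.mp ?_) ?_
    · rw [LinearMap.mem_ker, map_sub, ← End.mul_apply,
        ((Commute.refl Y).sub_left (Commute.one_left Y)).eq, End.mul_apply, hf1, hf1, map_sum,
        sub_eq_zero, ← sum_range_shift p (fun i => l' ((Z ^ i) w) • (Y ^ i) u)
          (by rw [hZp, hY, pow_zero, pow_zero])]
      refine sum_congr rfl fun i _ => ?_
      rw [map_smul, ← End.mul_apply, ← End.mul_apply, ← pow_succ, ← pow_succ']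
    · rw [map_sub, hf2, ← End.mul_apply, (commute_normOp (Commute.refl Y)).symm.eq, End.mul_apply,
        hf2, map_zero, sub_zero]
  refine ⟨f, ?_, fun w => ?_⟩
  · ext w
    rw [End.mul_apply, End.mul_apply, ← hfZ, ← End.mul_apply Z, hZY, End.one_apply]
  · obtain ⟨k, hk⟩ := (ZMod.intCast_eq_intCast_iff_dvd_sub _ _ p).mp
      (((ZMod.natCast_zmod_val (lam w)).trans (hl w).symm) |> (Int.cast_natCast _).trans)
    have h1 : f w - l' (D w) • u ∈ LinearMap.range (Y - 1) := by
      rw [hf, hD, LinearMap.sum_apply, map_sum, sum_smul, ← sum_sub_distrib]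
      refine Submodule.sum_mem _ fun i _ => ?_
      rw [LinearMap.smul_apply, map_nsmul, ← natCast_zsmul, smul_eq_mul, mul_comm, mul_smul,
        ← smul_sub]
      refine Submodule.smul_mem _ _ ?_
      have : (i : ℤ) • u = ∑ _j ∈ range i, u := by simp
      rw [this, LinearMap.sum_apply, ← sum_sub_distrib]
      exact Submodule.sum_mem _ fun j _ => hsub j u
    have h2 : p • u ∈ LinearMap.range (Y - 1) := by
      rw [← hD1 u hu]; exact hsub (p - 1) _
    have h3 := add_mem h1 (Submodule.smul_mem _ k h2)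
    rw [← natCast_zsmul, smul_smul, mul_comm, ← hk, sub_smul] at h3
    convert h3 using 1
    rw [natCast_zsmul]
    change _ = _ - _ + (l' (D w) • u - _)
    abel

theorem index_range_sub_one_pow (h : normOp p Y = 0) :
    (LinearMap.range (Y - 1)).toAddSubgroup.index ^ (p - 1) = p ^ finrank ℤ L := by
  have hp1 := hp.out.one_lt
  have hY : Y ^ p = 1 := by
    rw [← sub_eq_zero, ← mul_geom_sum]; exact (congrArg _ h).trans (mul_zero _)
  have hsub : ∀ (W : End ℤ L) (i : ℕ),
      LinearMap.range (1 - W ^ i) ≤ LinearMap.range (1 - W) := by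
    rintro W i _ ⟨z, rfl⟩
    exact ⟨(∑ j ∈ range i, W ^ j) z, by rw [← End.mul_apply, mul_neg_geom_sum]⟩
  have hpow : ∀ k, k < p - 1 → ∃ j, (Y ^ (k + 1)) ^ j = Y := fun k hk => by
    obtain ⟨j, -, hj⟩ := Nat.exists_mul_mod_eq_one_of_coprime
      ((Nat.coprime_primes hp.out hp.out).symm |> fun _ => (Nat.coprime_of_lt_prime
        (Nat.succ_ne_zero k) (by omega) hp.out).symm) hp1
    exact ⟨j, by rw [← pow_mul, pow_eq_pow_mod _ hY, hj, pow_one]⟩
  have hr : ∀ k, k < p - 1 → LinearMap.range (1 - Y ^ (k + 1)) = LinearMap.range (Y - 1) := by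
    intro k hk
    rw [← neg_sub 1 Y, LinearMap.range_neg]
    refine le_antisymm (hsub Y _) ?_
    obtain ⟨j, hj⟩ := hpow k hk
    have := hsub (Y ^ (k + 1)) j
    rwa [hj] at this
  have hi : ∀ k, k < p - 1 → Function.Injective (1 - Y ^ (k + 1) : End ℤ L) := by
    intro k hk
    rw [injective_iff_map_eq_zero]
    intro w hw
    obtain ⟨j, hj⟩ := hpow k hk
    refine eq_zero_of_fixed_of_norm (p := p) (Y := Y) ?_ (by rw [h]; rfl)
    rw [← hj]
    exact pow_apply_of_fixed (sub_eq_zero.mp hw).symm j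
  have key : ∀ m, m ≤ p - 1 → (LinearMap.range (aeval Y (∏ k ∈ range m,
      (1 - X ^ (k + 1) : ℤ[X])))).toAddSubgroup.index =
      (LinearMap.range (Y - 1)).toAddSubgroup.index ^ m := by
    intro m
    induction m with
    | zero => intro _; simp [End.one_eq_id]
    | succ m ih =>
      intro hm
      rw [prod_range_succ_comm, map_mul, End.mul_eq_comp, LinearMap.range_comp,
        Submodule.map_toAddSubgroup, AddSubgroup.index_map_of_injective _
          (by simpa using hi m hm), ih (by omega), pow_succ _ m, ← hr m hm]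
      simp only [map_sub, map_one, map_mul, map_pow, aeval_X, pow_succ]
      rfl
  rw [← key _ le_rfl, ← AddSubgroup.index_range_nsmul L p]
  have hζ := Complex.isPrimitiveRoot_exp p hp.out.ne_zero
  have h1 : cyclotomic p ℤ ∣ ∏ k ∈ range (p - 1), (1 - X ^ (k + 1) : ℤ[X]) - C (p : ℤ) := by
    rw [cyclotomic_eq_minpoly hζ hp.out.pos]
    refine minpoly.isIntegrallyClosed_dvd (hζ.isIntegral hp.out.pos) ?_
    have h2 := IsPrimitiveRoot.prod_one_sub_pow_eq_order (n := p - 1)
      (by rwa [Nat.sub_add_cancel hp1.le])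
    rw [← Nat.cast_succ, Nat.succ_eq_add_one, Nat.sub_add_cancel hp1.le] at h2
    simp [map_prod, h2]
  obtain ⟨q, hq⟩ := h1
  have h2 := congrArg (aeval Y) hq
  rw [map_sub, map_mul, cyclotomic_prime, map_sum] at h2
  simp only [map_pow, aeval_X] at h2
  rw [← normOp, h, zero_mul, sub_eq_zero] at h2
  rw [h2]
  congr 1
  ext x
  simp

include hY in
theorem finrank_ker_sub_one :
    finrank ℤ (LinearMap.ker (Y - 1)) = finrank ℤ (LinearMap.range (normOp p Y)) := by
  refine le_antisymm (LinearMap.finrank_le_finrank_of_injective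
    (f := (normOp p Y).rangeRestrict ∘ₗ (LinearMap.ker (Y - 1)).subtype) ?_)
    (Submodule.finrank_mono (range_normOp_le hY))
  rw [injective_iff_map_eq_zero]
  exact fun w hw => Subtype.ext (eq_zero_of_fixed_of_norm (p := p) (mem_ker_sub_one.mp w.2)
    (congrArg Subtype.val hw))

include hY in
/-- The Herbrand quotient. -/
theorem herbrand :
    (LinearMap.range (normOp p Y)).toAddSubgroup.relIndex
      (LinearMap.ker (Y - 1)).toAddSubgroup ^ (p - 1) * p ^ finrank ℤ L =
    (LinearMap.range (Y - 1)).toAddSubgroup.relIndex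
      (LinearMap.ker (normOp p Y)).toAddSubgroup ^ (p - 1) *
        p ^ (p * finrank ℤ (LinearMap.range (normOp p Y))) := by
  set A0 := (LinearMap.ker (Y - 1)).toAddSubgroup with hA0
  set A1 := (LinearMap.ker (normOp p Y)).toAddSubgroup with hA1
  have e0 : A0.map (normOp p Y).toAddMonoidHom = A0.map (nsmulAddMonoidHom p) := by
    ext x
    exact exists_congr fun w => and_congr_right fun hw => by
      rw [← show normOp p Y w = nsmulAddMonoidHom p w from normOp_of_fixed (mem_ker_sub_one.mp hw)]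
      rfl
  have r0 : (LinearMap.range (normOp p Y)).toAddSubgroup =
      (⊤ : AddSubgroup L).map (normOp p Y).toAddMonoidHom := by
    rw [← AddMonoidHom.range_eq_map]; rfl
  have r1 : (LinearMap.range (Y - 1)).toAddSubgroup =
      (⊤ : AddSubgroup L).map (Y - 1).toAddMonoidHom := by
    rw [← AddMonoidHom.range_eq_map]; rfl
  have a1 := AddSubgroup.relIndex_mul_relIndex (A0.map (normOp p Y).toAddMonoidHom)
    (LinearMap.range (normOp p Y)).toAddSubgroup A0 (r0 ▸ AddSubgroup.map_mono le_top)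
    (range_normOp_le hY)
  have a2 := AddSubgroup.relIndex_mul_relIndex (A1.map (Y - 1).toAddMonoidHom)
    (LinearMap.range (Y - 1)).toAddSubgroup A1 (r1 ▸ AddSubgroup.map_mono le_top)
    (range_sub_one_le hY)
  have b1 : (A0.map (normOp p Y).toAddMonoidHom).relIndex
      (LinearMap.range (normOp p Y)).toAddSubgroup = (A0 ⊔ A1).index := by
    rw [r0, AddSubgroup.relIndex_map_map, top_sup_eq, AddSubgroup.relIndex_top_right]; rfl
  have b2 : (A1.map (Y - 1).toAddMonoidHom).relIndex
      (LinearMap.range (Y - 1)).toAddSubgroup = (A0 ⊔ A1).index := by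
    rw [r1, AddSubgroup.relIndex_map_map, top_sup_eq, AddSubgroup.relIndex_top_right, sup_comm]; rfl
  have c1 : (A0.map (normOp p Y).toAddMonoidHom).relIndex A0 =
      p ^ finrank ℤ (LinearMap.range (normOp p Y)) := by
    have : Module.Free ℤ (AddSubgroup.toIntSubmodule A0) :=
      inferInstanceAs (Module.Free ℤ (LinearMap.ker (Y - 1)))
    have : Module.Finite ℤ (AddSubgroup.toIntSubmodule A0) :=
      inferInstanceAs (Module.Finite ℤ (LinearMap.ker (Y - 1)))
    rw [e0, AddSubgroup.relIndex_map_nsmul, ← finrank_ker_sub_one hY]; rfl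
  have hmap : ∀ w ∈ LinearMap.ker (normOp p Y), Y w ∈ LinearMap.ker (normOp p Y) := fun w hw => by
    rw [LinearMap.mem_ker, ← End.mul_apply, (commute_normOp (Commute.refl Y)).symm.eq,
      End.mul_apply, LinearMap.mem_ker.mp hw, map_zero]
  have c2 := index_range_sub_one_pow (p := p) (Y := Y.restrict hmap) (by
    ext w
    rw [normOp_apply, Submodule.coe_sum]
    simp only [End.pow_restrict _ hmap, LinearMap.coe_restrict_apply]
    rw [← normOp_apply]
    exact w.2)
  have c3 : (LinearMap.range (Y.restrict hmap - 1)).toAddSubgroup.index =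
      (A1.map (Y - 1).toAddMonoidHom).relIndex A1 := by
    rw [AddSubgroup.relIndex]
    congr 1
    ext x
    constructor
    · rintro ⟨w, rfl⟩
      exact ⟨w, w.2, rfl⟩
    · rintro ⟨w, hw, h⟩
      exact ⟨⟨w, hw⟩, Subtype.ext h⟩
  have d := (LinearMap.ker (normOp p Y)).finrank_quotient_add_finrank
  rw [LinearEquiv.finrank_eq (LinearMap.quotKerEquivRange _)] at d
  rw [b1, c1] at a1
  rw [c3, ← a2, b2] at c2
  have hp1 := hp.out.one_lt
  generalize (A0 ⊔ A1).index = γ at *
  generalize (LinearMap.range (normOp p Y)).toAddSubgroup.relIndex A0 = a at *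
  generalize (LinearMap.range (Y - 1)).toAddSubgroup.relIndex A1 = b at *
  rw [← d, pow_add, ← c2]
  generalize finrank ℤ (LinearMap.range (normOp p Y)) = r at *
  obtain ⟨m, rfl⟩ : ∃ m, p = m + 1 := ⟨p - 1, by omega⟩
  rw [Nat.add_sub_cancel, mul_comm (m + 1) r, pow_mul, ← a1]
  ring

end Tate

end Cfsg.Agent.H6
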